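import Cfsg.Agent.Lib.M24Nse.CentreZ

/-!
# The centre of the normal subgroup of order `128`
-/

set_option autoImplicit false

namespace CfsgLib.M24Nse

open Subgroup

universe u

/-- `z` is the only involution in the centre of the normal subgroup -/
theorem centre : StmtCentre.{u} := by
  intro G _ _ z v T L w hwR hwc hw2
  haveI := L.normal
  obtain ⟨e⟩ := L.quot
  let ψ : ↥(centralizer ({z} : Set G)) →* S32 :=
    e.toMonoidHom.comp (QuotientGroup.mk' L.R)
  have hψ : Function.Surjective ψ := e.surjective.comp (QuotientGroup.mk'_surjective _)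
  have hker : ψ.ker = L.R := by
    ext x
    show e (QuotientGroup.mk' L.R x) = 1 ↔ x ∈ L.R
    rw [EmbeddingLike.map_eq_one_iff]
    exact QuotientGroup.eq_one_iff x
  have hw : w ∈ cInv ψ := ⟨hker ▸ hwR, fun r hr => hwc r (hker ▸ hr), hw2⟩
  by_contra! hne
  have hw1 : w ≠ 1 := fun h => hne.1 (congrArg Subtype.val h)
  have hwz : w ≠ zc z := fun h => hne.2 (congrArg Subtype.val h)
  have hcomm : ∀ a ∈ ψ.ker, ∀ b ∈ ψ.ker, a * b = b * a := fun a ha b hb =>
    ker_comm T ψ hψ hw hw1 hwz ha hb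
  obtain ⟨A, hAn, hzA, hA, h16⟩ := exists_sixteen T ψ hψ hw hw1 hwz
  obtain ⟨u, hu, huz⟩ : ∃ u ∈ A, u ∉ zsub z := by
    by_contra! hall
    have h := Subgroup.card_le_of_le (show A ≤ zsub z from hall)
    rw [h16, card_zsub T] at h
    omega
  have hu2 : orderOf (u : G) = 2 := by
    haveI : Fact (Nat.Prime 2) := ⟨Nat.prime_two⟩
    rw [Subgroup.orderOf_coe]
    refine orderOf_eq_prime (by rw [pow_two]; exact (hA hu).2.2) (fun h => huz ?_)
    rw [h]; exact one_mem _
  rcases T.two _ hu2 with h | h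
  · exact not_class_z T ψ hψ hAn hzA hA h16 hcomm hu huz h
  · exact not_class_v T ψ hψ hAn hzA hA h16 hu huz h

end CfsgLib.M24Nse
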