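import Cfsg.Agent.Lib.M24Nse.CentreModel

/-!
# Invariant subgroups of order eight in modules of `SL(3, 2)` over two elements
-/

set_option autoImplicit false
set_option maxRecDepth 100000
set_option linter.style.haveILetI false

namespace CfsgLib.M24Nse

open Matrix Finset

/-- the inverse transpose as an automorphism -/
def twEquiv : S32 ≃* S32 where
  toFun := tw
  invFun := tw
  left_inv := tw_tw
  right_inv := tw_tw
  map_mul' := tw_mul

/-- an element of order seven -/
def sevenElt : S32 := ⟨!![0, 0, 1; 1, 0, 1; 0, 1, 0], by decide +kernel⟩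

/-- an element of order three normalising it -/
def three : S32 := ⟨!![1, 0, 0; 0, 0, 1; 0, 1, 1], by decide +kernel⟩

theorem exists_seven : ∃ p h : S32, orderOf p = 7 ∧ h * h * h = 1 ∧ h ≠ 1 ∧ h * p = p * p * h := by
  haveI : Fact (Nat.Prime 7) := ⟨by norm_num⟩
  refine ⟨sevenElt, three, ?_, by decide +kernel, by decide +kernel, by decide +kernel⟩
  exact orderOf_eq_prime (by decide +kernel) (by decide +kernel)

/-- A subgroup of order a divisor of `24` and a multiple of three fixes a vector, up to an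
automorphism. -/
theorem fixes_point (K : Subgroup S32) (h3 : 3 ∣ Nat.card K) (h24 : Nat.card K ∣ 24) :
    ∃ θ : S32 ≃* S32, ∀ k ∈ K, app (θ k) e0 = e0 := by
  classical
  suffices h : (∃ v : V3, v ≠ 0 ∧ ∀ k ∈ K, app k v = v) ∨
      (∃ v : V3, v ≠ 0 ∧ ∀ k ∈ K, app (tw k) v = v) by
    rcases h with ⟨v, hv, hK⟩ | ⟨v, hv, hK⟩
    · obtain ⟨x, hx⟩ := app_trans e0_ne hv
      refine ⟨MulAut.conj x⁻¹, fun k hk => ?_⟩
      rw [MulAut.conj_apply, inv_inv, app_mul, app_mul, hx, hK k hk, ← hx, app_inv]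
    · obtain ⟨x, hx⟩ := app_trans e0_ne hv
      refine ⟨twEquiv.trans (MulAut.conj x⁻¹), fun k hk => ?_⟩
      show app (MulAut.conj x⁻¹ (tw k)) e0 = e0
      rw [MulAut.conj_apply, inv_inv, app_mul, app_mul, hx, hK k hk, ← hx, app_inv]
  haveI : Fact (Nat.Prime 3) := ⟨Nat.prime_three⟩
  obtain ⟨a, ha⟩ := exists_prime_orderOf_dvd_card' (G := K) 3 h3
  have ha3 : (a : S32) * a * a = 1 := by
    have := orderOf_dvd_iff_pow_eq_one.1 (dvd_of_eq ha)
    have h2 := congrArg Subtype.val this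
    simpa [pow_succ] using h2
  have ha1 : (a : S32) ≠ 1 := fun h => by
    have : a = 1 := Subtype.ext h
    rw [this, orderOf_one] at ha
    norm_num at ha
  -- the permutation of the non-zero vectors
  let σ : Equiv.Perm {v : V3 // v ≠ 0} :=
    { toFun := fun v => ⟨app a v.1, app_ne_zero _ v.2⟩
      invFun := fun v => ⟨app (a : S32)⁻¹ v.1, app_ne_zero _ v.2⟩
      left_inv := fun v => Subtype.ext (app_inv _ _)
      right_inv := fun v => Subtype.ext (by
        show app a (app (a : S32)⁻¹ v.1) = v.1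
        rw [← app_mul, mul_inv_cancel, app_one]) }
  have hσ : σ ^ 3 = 1 := by
    apply Equiv.ext
    intro v
    apply Subtype.ext
    show app a (app a (app a v.1)) = v.1
    rw [← app_mul, ← app_mul, ha3, app_one]
  have h7 : Nat.card {v : V3 // v ≠ 0} = 7 := by
    rw [Nat.card_eq_fintype_card]
    decide +kernel
  obtain ⟨v0, hv0, hav0⟩ : ∃ v0 : V3, v0 ≠ 0 ∧ app a v0 = v0 := by
    by_contra! hno
    have hm := modEq_three σ hσ
    haveI : IsEmpty {v : {v : V3 // v ≠ 0} // σ v = v} :=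
      ⟨fun v => hno v.1.1 v.1.2 (congrArg Subtype.val v.2)⟩
    rw [h7, Nat.card_of_isEmpty] at hm
    exact absurd hm (by decide)
  -- the orbit of the fixed vector
  let O : Finset V3 := Finset.univ.filter fun v => ∃ k ∈ K, app k v0 = v
  have hO : ∀ v, v ∈ O ↔ ∃ k ∈ K, app k v0 = v := fun v => by simp [O]
  have hv0O : v0 ∈ O := (hO _).2 ⟨1, K.one_mem, app_one _⟩
  have hOinv : ∀ k ∈ K, ∀ v ∈ O, app k v ∈ O := by
    intro k hk v hv
    obtain ⟨l, hl, rfl⟩ := (hO _).1 hv
    exact (hO _).2 ⟨k * l, K.mul_mem hk hl, app_mul k l v0⟩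
  have hO0 : ∀ v ∈ O, v ≠ 0 := by
    intro v hv
    obtain ⟨k, -, rfl⟩ := (hO _).1 hv
    exact app_ne_zero _ hv0
  -- its size
  have hdvd : O.card ∣ Nat.card K := by
    letI : MulAction K V3 :=
      { smul := fun k v => app k.1 v
        one_smul := fun v => app_one v
        mul_smul := fun k l v => app_mul k.1 l.1 v }
    have horb : (MulAction.orbit K v0 : Set V3) = ↑O := by
      ext v
      rw [Finset.mem_coe, hO]
      exact ⟨fun ⟨k, hk⟩ => ⟨k.1, k.2, hk⟩, fun ⟨k, hk, he⟩ => ⟨⟨k, hk⟩, he⟩⟩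
    have hi := MulAction.index_stabilizer K v0
    have hc := hi.trans ((congrArg Set.ncard horb).trans (Set.ncard_coe_finset O))
    rw [← hc]
    exact (MulAction.stabilizer K v0).index_dvd_card
  have hmod : O.card % 3 = 1 := by
    let τ : Equiv.Perm {v : V3 // v ∈ O} :=
      { toFun := fun v => ⟨app a v.1, hOinv _ a.2 _ v.2⟩
        invFun := fun v => ⟨app (a : S32)⁻¹ v.1, hOinv _ (K.inv_mem a.2) _ v.2⟩
        left_inv := fun v => Subtype.ext (app_inv _ _)
        right_inv := fun v => Subtype.ext (by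
          show app a (app (a : S32)⁻¹ v.1) = v.1
          rw [← app_mul, mul_inv_cancel, app_one]) }
    have hτ : τ ^ 3 = 1 := by
      apply Equiv.ext
      intro v
      apply Subtype.ext
      show app a (app a (app a v.1)) = v.1
      rw [← app_mul, ← app_mul, ha3, app_one]
    have hm := modEq_three τ hτ
    have h1 : Nat.card {v : {v : V3 // v ∈ O} // τ v = v} = 1 := by
      rw [Nat.card_eq_one_iff_exists]
      refine ⟨⟨⟨v0, hv0O⟩, Subtype.ext hav0⟩, fun v => Subtype.ext (Subtype.ext ?_)⟩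
      exact fixed_unique a ha3 ha1 _ _ (congrArg Subtype.val v.2) hav0 (hO0 _ v.1.2) hv0
    rw [h1, Nat.card_eq_fintype_card, Fintype.card_coe] at hm
    exact hm
  have hle : O.card ≤ 7 := by
    have := Finset.card_le_card (s := O) (t := Finset.univ.erase 0)
      (fun v hv => Finset.mem_erase.2 ⟨hO0 v hv, Finset.mem_univ _⟩)
    simpa using this
  have h14 : O.card = 1 ∨ O.card = 4 := by
    have h := hdvd.trans h24
    generalize O.card = n at h hmod hle
    interval_cases n <;> first | omega | norm_num at h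
  rcases h14 with h1 | h4
  · refine Or.inl ⟨v0, hv0, fun k hk => ?_⟩
    obtain ⟨w, hw⟩ := Finset.card_eq_one.1 h1
    have e1 := hOinv k hk v0 hv0O
    rw [hw, Finset.mem_singleton] at e1 hv0O
    rw [e1, hv0O]
  · let L : Finset V3 := (Finset.univ.erase 0) \ O
    have hL : L.card = 3 := by
      show ((Finset.univ.erase 0) \ O).card = 3
      rw [Finset.card_sdiff_of_subset
        (fun v hv => Finset.mem_erase.2 ⟨hO0 v hv, Finset.mem_univ _⟩), h4]
      simp
    have hLinv : ∀ k ∈ K, ∀ v ∈ L, app k v ∈ L := by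
      intro k hk v hv
      simp only [L, Finset.mem_sdiff, Finset.mem_erase] at hv ⊢
      refine ⟨⟨app_ne_zero _ hv.1.1, Finset.mem_univ _⟩, fun h => hv.2 ?_⟩
      have := hOinv _ (K.inv_mem hk) _ h
      rwa [app_inv] at this
    have hLimg : ∀ k ∈ K, L.image (app k) = L := by
      intro k hk
      refine Finset.eq_of_subset_of_card_le (fun v hv => ?_) ?_
      · obtain ⟨w, hw, rfl⟩ := Finset.mem_image.1 hv
        exact hLinv k hk w hw
      · rw [Finset.card_image_of_injective _ (app_inj k)]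
    have hL0 : ∀ v ∈ L, v ≠ 0 := fun v hv =>
      (Finset.mem_erase.1 (Finset.mem_sdiff.1 hv).1).1
    obtain ⟨p, q, r, hpq, hpr, hqr, hLe⟩ := Finset.card_eq_three.1 hL
    have hp0 : p ≠ 0 := hL0 p (by simp [hLe])
    have hq0 : q ≠ 0 := hL0 q (by simp [hLe])
    have hr0 : r ≠ 0 := hL0 r (by simp [hLe])
    rcases sum_cases p q r hp0 hq0 hr0 hpq hpr hqr with hs | ⟨d, hd0, hdp, hdq, hdr⟩
    · refine Or.inl ⟨p + q + r, hs, fun k hk => ?_⟩
      have h1 : ∑ v ∈ L, v = p + q + r := by
        rw [hLe, Finset.sum_insert (by simp [hpq, hpr]), Finset.sum_pair hqr, add_assoc]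
      have h2 : ∑ v ∈ L.image (app k), v = ∑ v ∈ L, app k v :=
        Finset.sum_image fun _ _ _ _ h => app_inj k h
      rw [hLimg k hk, h1] at h2
      rw [app_add, app_add]
      conv_rhs => rw [h2]
      rw [hLe, Finset.sum_insert (by simp [hpq, hpr]), Finset.sum_pair hqr, add_assoc]
    · refine Or.inr ⟨d, hd0, fun k hk => ?_⟩
      have hd : ∀ v ∈ L, d ⬝ᵥ v = 0 := by
        intro v hv
        rw [hLe] at hv
        simp only [Finset.mem_insert, Finset.mem_singleton] at hv
        rcases hv with rfl | rfl | rfl <;> assumption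
      have hd' : ∀ v ∈ L, app (tw k) d ⬝ᵥ v = 0 := by
        intro v hv
        rw [← hLimg k hk, Finset.mem_image] at hv
        obtain ⟨w, hw, rfl⟩ := hv
        rw [tw_dot]
        exact hd w hw
      exact orth_unique p q hp0 hq0 hpq _ d (app_ne_zero _ hd0) hd0
        (hd' p (by simp [hLe])) (hd' q (by simp [hLe])) hdp hdq

variable {Q : Type*} [CommGroup Q] (ρ : S32 →* MulAut Q)

theorem act_mul (x y : S32) (c : Q) : ρ (x * y) c = ρ x (ρ y c) := by
  rw [map_mul]; rfl

theorem act_inv (x : S32) (c : Q) : ρ x⁻¹ (ρ x c) = c := by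
  rw [← act_mul, inv_mul_cancel, map_one]; rfl

/-- the stabiliser of an element -/
def stabOf (u : Q) : Subgroup S32 where
  carrier := {x | ρ x u = u}
  one_mem' := by simp
  mul_mem' {x y} hx hy := by
    show ρ (x * y) u = u
    rw [act_mul, (hy : ρ y u = u), (hx : ρ x u = u)]
  inv_mem' {x} hx := by
    show ρ x⁻¹ u = u
    have h := act_inv ρ x u
    rwa [(hx : ρ x u = u)] at h

/-- the orbit of an element -/
def orb (u : Q) : Set Q := Set.range fun x => ρ x u

theorem card_orb (u : Q) : (orb ρ u).ncard * Nat.card (stabOf ρ u) = 168 := by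
  letI : MulAction S32 Q := MulAction.compHom Q ρ
  have h1 : stabOf ρ u = MulAction.stabilizer S32 u := Subgroup.ext fun x => Iff.rfl
  have h2 : orb ρ u = MulAction.orbit S32 u := rfl
  rw [h1, h2, ← MulAction.index_stabilizer, Subgroup.index_mul_card, card_S32]

/-- An orbit of size seven is an image of the non-zero vectors. -/
theorem orbit_seven {u : Q} (hu : u ≠ 1) (h : (orb ρ u).ncard = 7) :
    ∃ θ : S32 ≃* S32, ∃ F : V3 → Q, F 0 = 1 ∧ (∀ v, v ≠ 0 → F v ≠ 1) ∧ Function.Injective F ∧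
      (∀ x v, F (app x v) = ρ (θ x) (F v)) ∧ ∀ b ∈ orb ρ u, ∃ v : V3, v ≠ 0 ∧ F v = b := by
  classical
  have hK : Nat.card (stabOf ρ u) = 24 := by
    have := card_orb ρ u
    rw [h] at this
    omega
  obtain ⟨θ, hθ⟩ := fixes_point (stabOf ρ u) (by rw [hK]; norm_num) (by rw [hK])
  have hmap : (stabOf ρ u).map θ.toMonoidHom = stabE := by
    refine Subgroup.eq_of_le_of_card_ge ?_ ?_
    · rintro _ ⟨k, hk, rfl⟩
      exact hθ k hk
    · rw [card_stabE, Subgroup.card_map_of_injective θ.injective, hK]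
  have hiff : ∀ x : S32, app (θ x) e0 = e0 ↔ ρ x u = u := by
    intro x
    refine ⟨fun hx => ?_, fun hx => hθ x hx⟩
    have : θ x ∈ (stabOf ρ u).map θ.toMonoidHom := by rw [hmap]; exact hx
    obtain ⟨y, hy, hyx⟩ := this
    rw [← θ.injective hyx]
    exact hy
  have hex : ∀ v : V3, v ≠ 0 → ∃ x : S32, app (θ x) e0 = v := by
    intro v hv
    obtain ⟨y, hy⟩ := app_trans e0_ne hv
    exact ⟨θ.symm y, by rw [MulEquiv.apply_symm_apply, hy]⟩
  let F : V3 → Q := fun v => if hv : v = 0 then 1 else ρ (hex v hv).choose u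
  have hF : ∀ x : S32, F (app (θ x) e0) = ρ x u := by
    intro x
    have hne : app (θ x) e0 ≠ 0 := app_ne_zero _ e0_ne
    simp only [F, dif_neg hne]
    set y := (hex _ hne).choose with hy
    have hy' : app (θ y) e0 = app (θ x) e0 := (hex _ hne).choose_spec
    have : ρ (x⁻¹ * y) u = u := by
      apply (hiff _).1
      rw [map_mul, map_inv, app_mul, hy', app_inv]
    calc ρ y u = ρ (x * (x⁻¹ * y)) u := by rw [mul_inv_cancel_left]
      _ = ρ x u := by rw [act_mul, this]
  have hF0 : F 0 = 1 := by simp [F]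
  have hFne : ∀ v, v ≠ 0 → F v ≠ 1 := by
    intro v hv he
    obtain ⟨x, rfl⟩ := hex v hv
    rw [hF] at he
    exact hu ((ρ x).injective (he.trans (map_one _).symm))
  refine ⟨θ.symm, F, hF0, hFne, ?_, ?_, ?_⟩
  · intro v w hvw
    by_cases hv : v = 0
    · by_cases hw : w = 0
      · rw [hv, hw]
      · exact absurd (by rw [← hvw, hv, hF0]) (hFne w hw)
    · by_cases hw : w = 0
      · exact absurd (by rw [hvw, hw, hF0]) (hFne v hv)
      · obtain ⟨x, rfl⟩ := hex v hv
        obtain ⟨y, rfl⟩ := hex w hw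
        rw [hF, hF] at hvw
        have : ρ (x⁻¹ * y) u = u := by rw [act_mul, ← hvw, act_inv]
        have h2 := (hiff _).2 this
        rw [map_mul, map_inv, app_mul] at h2
        have h3 := congrArg (app (θ x)) h2
        rw [← app_mul, mul_inv_cancel, app_one] at h3
        exact h3.symm
  · intro y v
    by_cases hv : v = 0
    · rw [hv, app_zero, hF0, map_one]
    · obtain ⟨x, rfl⟩ := hex v hv
      rw [← app_mul]
      have : y * θ x = θ (θ.symm y * x) := by rw [map_mul, MulEquiv.apply_symm_apply]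
      rw [this, hF, hF, act_mul]
  · rintro _ ⟨x, rfl⟩
    exact ⟨app (θ x) e0, app_ne_zero _ e0_ne, hF x⟩

theorem sq_one_inv (h2 : ∀ q : Q, q * q = 1) (q : Q) : q⁻¹ = q := inv_eq_of_mul_eq_one_right (h2 q)

/-- An equivariant map from the natural module is linear or gives a linear map from the dual. -/
theorem lin_or_dual (h2 : ∀ q : Q, q * q = 1) (hfix : ∀ c : Q, (∀ x, ρ x c = c) → c = 1)
    (F : V3 → Q) (hF0 : F 0 = 1) (hF : ∀ x v, F (app x v) = ρ x (F v)) :
    (∀ v w, F (v + w) = F v * F w) ∨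
      ∃ g : V3 → Q, (∀ c d, g (c + d) = g c * g d) ∧ (∀ x c, g (app (tw x) c) = ρ x (g c)) ∧
        ∃ c, g c ≠ 1 := by
  classical
  let g : V3 → Q := fun c => ∏ v ∈ univ.filter (fun v => c ⬝ᵥ v = 0), F v
  have hgeq : ∀ x c, g (app (tw x) c) = ρ x (g c) := by
    intro x c
    simp only [g, map_prod]
    refine Finset.prod_bij' (fun v _ => app x⁻¹ v) (fun v _ => app x v) ?_ ?_ ?_ ?_ ?_
    · intro v hv
      simp only [Finset.mem_filter, Finset.mem_univ, true_and] at hv ⊢
      have h := tw_dot x c (app x⁻¹ v)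
      rw [← app_mul, mul_inv_cancel, app_one, hv] at h
      exact h.symm
    · intro v hv
      simp only [Finset.mem_filter, Finset.mem_univ, true_and] at hv ⊢
      rw [tw_dot, hv]
    · intro v _
      rw [← app_mul, mul_inv_cancel, app_one]
    · intro v _
      exact app_inv x v
    · intro v _
      rw [← hF, ← app_mul, mul_inv_cancel, app_one]
  have htot : ∏ v : V3, F v = 1 := by
    apply hfix
    intro x
    rw [map_prod]
    let e : V3 ≃ V3 := ⟨app x, app x⁻¹, app_inv x, fun v => by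
      rw [← app_mul, mul_inv_cancel, app_one]⟩
    rw [← e.prod_comp F]
    exact Finset.prod_congr rfl fun v _ => (hF x v).symm
  have hsum : ∀ c d, g c * g d * g (c + d) = 1 := by
    intro c d
    simp only [g, Finset.prod_filter]
    rw [← Finset.prod_mul_distrib, ← Finset.prod_mul_distrib]
    conv_rhs => rw [← htot]
    refine Finset.prod_congr rfl fun v _ => ?_
    have h := count_three c d v
    by_cases a1 : c ⬝ᵥ v = 0 <;> by_cases a2 : d ⬝ᵥ v = 0 <;> by_cases a3 : (c + d) ⬝ᵥ v = 0 <;>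
      simp only [a1, a2, a3, if_true, if_false, one_mul, mul_one, h2] at h ⊢ <;> simp_all
  have hgadd : ∀ c d, g (c + d) = g c * g d := by
    intro c d
    have h := hsum c d
    calc g (c + d) = (g c * g d)⁻¹ := (inv_eq_of_mul_eq_one_right h).symm
      _ = g c * g d := sq_one_inv h2 _
  by_cases hg : ∃ c, g c ≠ 1
  · exact Or.inr ⟨g, hgadd, hgeq, hg⟩
  push Not at hg
  refine Or.inl fun v w => ?_
  have key : ∀ a b : V3, a ≠ 0 → b ≠ 0 → a ≠ b → F (a + b) = F a * F b := by
    intro a b ha hb hab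
    obtain ⟨c, hc⟩ := line_covector a b ha hb hab
    have hdd : ∀ a b : V3, a ≠ 0 → b ≠ 0 → a ≠ b →
        a + b ≠ 0 ∧ a + b ≠ a ∧ a + b ≠ b := by decide +kernel
    obtain ⟨n1, n2, n3⟩ := hdd a b ha hb hab
    have h := hg c
    simp only [g, hc] at h
    rw [Finset.prod_insert (by simp [ha.symm, hb.symm, n1.symm]),
      Finset.prod_insert (by simp [hab, n2.symm]), Finset.prod_pair n3.symm, hF0, one_mul,
      ← mul_assoc] at h
    calc F (a + b) = (F a * F b)⁻¹ := (inv_eq_of_mul_eq_one_right h).symm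
      _ = _ := sq_one_inv h2 _
  by_cases hv : v = 0
  · rw [hv, zero_add, hF0, one_mul]
  by_cases hw : w = 0
  · rw [hw, add_zero, hF0, mul_one]
  by_cases hvw : v = w
  · subst hvw
    have : v + v = 0 := by
      funext i
      exact CharTwo.add_self_eq_zero _
    rw [this, hF0, h2]
  exact key v w hv hw hvw

/-- no element of order seven has a fixed point -/
def Free : Prop := ∀ p : S32, orderOf p = 7 → ∀ c : Q, ρ p c = c → c = 1

theorem free_comp (h : Free ρ) (θ : S32 ≃* S32) : Free (ρ.comp θ.toMonoidHom) := by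
  intro p hp c hc
  exact h (θ p) (by rw [MulEquiv.orderOf_eq, hp]) c hc

theorem free_fix (h : Free ρ) (c : Q) (hc : ∀ x, ρ x c = c) : c = 1 := by
  obtain ⟨p, -, hp, -⟩ := exists_seven
  exact h p hp c (hc p)

/-- an invariant set without one has size a multiple of seven -/
theorem seven_dvd (h : Free ρ) (S : Set Q) [Finite Q] (h1 : (1 : Q) ∉ S)
    (hinv : ∀ x, ∀ c ∈ S, ρ x c ∈ S) : 7 ∣ S.ncard := by
  obtain ⟨p, -, hp, -⟩ := exists_seven
  let σ : Equiv.Perm S :=
    { toFun := fun c => ⟨ρ p c.1, hinv p _ c.2⟩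
      invFun := fun c => ⟨ρ p⁻¹ c.1, hinv _ _ c.2⟩
      left_inv := fun c => Subtype.ext (act_inv ρ p c.1)
      right_inv := fun c => Subtype.ext (by
        show ρ p (ρ p⁻¹ c.1) = c.1
        rw [← act_mul, mul_inv_cancel, map_one]; rfl) }
  have hpow : ∀ n (c : S), ((σ ^ n) c).1 = ρ (p ^ n) c.1 := by
    intro n
    induction n with
    | zero => intro c; simp
    | succ n ih => intro c; rw [pow_succ', pow_succ', Equiv.Perm.mul_apply, act_mul, ← ih]; rfl
  have hσ : σ ^ 7 = 1 := Equiv.ext fun c => Subtype.ext (by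
    rw [hpow, ← hp, pow_orderOf_eq_one, map_one]; rfl)
  have hm := modEq_seven σ hσ
  haveI : IsEmpty {c : S // σ c = c} :=
    ⟨fun c => h1 (by
      have := h p hp c.1.1 (congrArg Subtype.val c.2)
      have h2 := c.1.2
      rwa [this] at h2)⟩
  rw [Nat.card_of_isEmpty (α := {c : S // σ c = c}), Nat.card_coe_set_eq] at hm
  exact Nat.modEq_zero_iff_dvd.1 hm

/-- the image of a linear equivariant map, other than the trivial one, has order eight -/
theorem range_eight (h : Free ρ) [Finite Q] (g : V3 → Q) (hg : ∀ c d, g (c + d) = g c * g d)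
    (f : S32 → S32) (heq : ∀ x c, g (app (f x) c) = ρ x (g c)) (hne : ∃ c, g c ≠ 1) :
    Function.Injective g ∧ ∃ S : Subgroup Q, (S : Set Q) = Set.range g ∧ Nat.card S = 8 ∧
      ∀ x, ∀ s ∈ S, ρ x s ∈ S := by
  have hg0 : g 0 = 1 := by
    have := hg 0 0
    rw [add_zero] at this
    exact mul_eq_left.1 this.symm
  have hd : ∀ c : V3, c + c = 0 := fun c => funext fun i => CharTwo.add_self_eq_zero _
  let S : Subgroup Q :=
    { carrier := Set.range g
      one_mem' := ⟨0, hg0⟩
      mul_mem' := by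
        rintro _ _ ⟨c, rfl⟩ ⟨d, rfl⟩
        exact ⟨c + d, hg c d⟩
      inv_mem' := by
        rintro _ ⟨c, rfl⟩
        refine ⟨c, (inv_eq_of_mul_eq_one_right ?_).symm⟩
        rw [← hg, hd, hg0] }
  have hinv : ∀ x, ∀ s ∈ S, ρ x s ∈ S := by
    rintro x _ ⟨c, rfl⟩
    exact ⟨app (f x) c, heq x c⟩
  have hdvd := seven_dvd ρ h ((S : Set Q) \ {1}) (by simp) (fun x c hc => ⟨hinv x c hc.1, by
    intro hx
    apply hc.2
    exact (ρ x).injective ((show ρ x c = 1 from hx).trans (map_one _).symm)⟩)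
  rw [Set.ncard_sdiff_singleton_of_mem S.one_mem, ← Nat.card_coe_set_eq] at hdvd
  change 7 ∣ Nat.card S - 1 at hdvd
  have hle : Nat.card S ≤ 8 := by
    have h1 : (Set.range g).ncard ≤ Nat.card V3 := by
      rw [← Set.image_univ]
      exact (Set.ncard_image_le Set.finite_univ).trans (by rw [Set.ncard_univ])
    rw [← Nat.card_coe_set_eq] at h1
    have : Nat.card V3 = 8 := by simp [Nat.card_eq_fintype_card]
    rw [this] at h1
    exact h1
  have hgt : 1 < Nat.card S := by
    obtain ⟨c, hc⟩ := hne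
    rw [Subgroup.one_lt_card_iff_ne_bot]
    exact fun hb => hc (Subgroup.mem_bot.1 (hb ▸ (⟨c, rfl⟩ : g c ∈ S)))
  have h8 : Nat.card S = 8 := by omega
  refine ⟨?_, S, rfl, h8, hinv⟩
  have hb : Function.Bijective (fun c : V3 => (⟨g c, c, rfl⟩ : S)) := by
    refine (Nat.bijective_iff_surjective_and_card _).2 ⟨?_, ?_⟩
    · rintro ⟨_, c, rfl⟩
      exact ⟨c, rfl⟩
    · rw [h8]; simp [Nat.card_eq_fintype_card]
  exact fun a b hab => hb.1 (Subtype.ext hab)

/-- in a module of order eight an equivariant map is linear -/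
theorem lin_eight (h : Free ρ) [Finite Q] (h2 : ∀ q : Q, q * q = 1) (h8 : Nat.card Q = 8)
    (F : V3 → Q) (hF0 : F 0 = 1) (hne : F e0 ≠ 1) (hF : ∀ x v, F (app x v) = ρ x (F v)) :
    ∀ v w, F (v + w) = F v * F w := by
  rcases lin_or_dual ρ h2 (free_fix ρ h) F hF0 hF with h1 | ⟨g, hg, heq, hg1⟩
  · exact h1
  obtain ⟨hginj, S, hS, hScard, -⟩ := range_eight ρ h g hg tw heq hg1
  have hST : S = ⊤ := Subgroup.eq_top_of_card_eq S (by rw [hScard, h8])
  obtain ⟨c, hc⟩ : F e0 ∈ Set.range g := by rw [← hS, hST]; exact Set.mem_univ _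
  have hc0 : c ≠ 0 := by
    intro hc0
    have hg0 := hg 0 0
    rw [add_zero] at hg0
    rw [hc0, mul_eq_left.1 hg0.symm] at hc
    exact hne hc.symm
  obtain ⟨x, hx, hx2⟩ := dual_moved c hc0
  have h3 : ρ x⁻¹ (F e0) = F e0 := by
    rw [← hF]
    have := app_inv x e0
    rw [hx] at this
    rw [this]
  rw [← hc, ← heq] at h3
  have h4 := hginj h3
  apply absurd h4
  rwa [show app (tw x⁻¹) c = x.1ᵀ *ᵥ c from by
    show ((x⁻¹)⁻¹).1ᵀ *ᵥ c = _
    rw [inv_inv]]

set_option maxHeartbeats 800000 in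
/-- The main statement on a module of order `64`: a subgroup of order eight is invariant. -/
theorem exists_inv_eight (h : Free ρ) [Finite Q] (h2 : ∀ q : Q, q * q = 1)
    (h64 : Nat.card Q = 64) :
    ∃ S : Subgroup Q, Nat.card S = 8 ∧ ∀ x, ∀ s ∈ S, ρ x s ∈ S := by
  classical
  suffices hs : ∃ u : Q, u ≠ 1 ∧ (orb ρ u).ncard = 7 by
    obtain ⟨u, hu, h7⟩ := hs
    obtain ⟨θ, F, hF0, hFne, -, hF, -⟩ := orbit_seven ρ hu h7
    have hfree := free_comp ρ h θ
    have heq : ∀ x v, F (app x v) = (ρ.comp θ.toMonoidHom) x (F v) := hF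
    rcases lin_or_dual (ρ.comp θ.toMonoidHom) h2 (free_fix _ hfree) F hF0 heq with
      h1 | ⟨g, hg, hgeq, hg1⟩
    · obtain ⟨-, S, -, hS, hinv⟩ := range_eight (ρ.comp θ.toMonoidHom) hfree F h1 id heq
        ⟨e0, hFne _ e0_ne⟩
      refine ⟨S, hS, fun x s hs => ?_⟩
      have := hinv (θ.symm x) s hs
      simpa using this
    · obtain ⟨-, S, -, hS, hinv⟩ := range_eight (ρ.comp θ.toMonoidHom) hfree g hg tw hgeq hg1
      refine ⟨S, hS, fun x s hs => ?_⟩
      have := hinv (θ.symm x) s hs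
      simpa using this
  have horb : ∀ u : Q, u ≠ 1 → (orb ρ u).ncard * Nat.card (stabOf ρ u) = 168 ∧
      (orb ρ u).ncard ≤ 63 ∧ 7 ∣ (orb ρ u).ncard := by
    intro u hu
    have h1 : (1 : Q) ∉ orb ρ u := by
      rintro ⟨x, hx⟩
      exact hu ((ρ x).injective ((show ρ x u = 1 from hx).trans (map_one _).symm))
    refine ⟨card_orb ρ u, ?_, seven_dvd ρ h _ h1 ?_⟩
    · have hsub : orb ρ u ⊆ (Set.univ : Set Q) \ {1} := fun c hc => ⟨trivial, fun h => h1 (h ▸ hc)⟩
      have := Set.ncard_le_ncard hsub (Set.toFinite _)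
      rw [Set.ncard_sdiff_singleton_of_mem (Set.mem_univ _), Set.ncard_univ, h64] at this
      exact this
    · rintro x _ ⟨y, rfl⟩
      exact ⟨x * y, act_mul ρ x y u⟩
  have hmem : ∀ u : Q, u ∈ orb ρ u := fun u => ⟨1, by simp⟩
  -- an orbit of size fourteen gives one of size seven
  have h14 : ∀ c : Q, c ≠ 1 → (orb ρ c).ncard = 14 → ∃ u : Q, u ≠ 1 ∧ (orb ρ u).ncard = 7 := by
    intro c hc hn
    have hK : Nat.card (stabOf ρ c) = 12 := by
      have := (horb c hc).1
      rw [hn] at this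
      omega
    obtain ⟨θ, hθ⟩ := fixes_point (stabOf ρ c) (by rw [hK]; norm_num) (by rw [hK]; norm_num)
    let T : Subgroup S32 := stabE.comap θ.toMonoidHom
    have hT : Nat.card T = 24 := by
      have hm : T.map θ.toMonoidHom = stabE :=
        Subgroup.map_comap_eq_self_of_surjective θ.surjective _
      rw [← card_stabE, ← hm, Subgroup.card_map_of_injective θ.injective]
    have hle : stabOf ρ c ≤ T := fun k hk => hθ k hk
    have hidx : ((stabOf ρ c).subgroupOf T).index = 2 := by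
      have h1 := ((stabOf ρ c).subgroupOf T).index_mul_card
      rw [Nat.card_congr (Subgroup.subgroupOfEquivOfLe hle).toEquiv, hK, hT] at h1
      omega
    have hmul : ∀ a ∈ T, ∀ b ∈ T, (ρ (a * b) c = c ↔ (ρ a c = c ↔ ρ b c = c)) := by
      intro a ha b hb
      exact Subgroup.mul_mem_iff_of_index_two hidx (a := ⟨a, ha⟩) (b := ⟨b, hb⟩)
    obtain ⟨s, hsT, hs⟩ : ∃ s ∈ T, ρ s c ≠ c := by
      by_contra! hall
      have := Subgroup.card_le_of_le (show T ≤ stabOf ρ c from hall)
      omega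
    have hsi : ρ s⁻¹ c ≠ c := fun h => hs (by
      have := congrArg (ρ s) h
      rw [← act_mul, mul_inv_cancel, map_one] at this
      exact this.symm)
    have key : ∀ t ∈ T, ρ t (c * ρ s c) = c * ρ s c := by
      intro t ht
      have a1 := hmul t ht s hsT
      have a2 := hmul (s⁻¹ * t) (T.mul_mem (T.inv_mem hsT) ht) s hsT
      have a3 := hmul s⁻¹ (T.inv_mem hsT) t ht
      rw [map_mul]
      by_cases hk : ρ t c = c
      · rw [hk]
        congr 1
        have h0 : ¬ ρ (s⁻¹ * t) c = c := fun q => hsi ((a3.1 q).2 hk)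
        have h1 : ρ (s⁻¹ * t * s) c = c := a2.2 (iff_of_false h0 hs)
        have h4 := congrArg (ρ s) h1
        rw [← act_mul, mul_assoc, mul_inv_cancel_left] at h4
        rw [← act_mul]
        exact h4
      · have h1 : ρ (t * s) c = c := a1.2 (iff_of_false hk hs)
        have h2' : ρ (s⁻¹ * t) c = c := a3.2 (iff_of_false hsi hk)
        have h3 := congrArg (ρ s) h2'
        rw [← act_mul, mul_inv_cancel_left] at h3
        rw [← act_mul, h1, h3, mul_comm]
    have hu : c * ρ s c ≠ 1 := fun he => hs (by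
      rw [eq_comm, ← mul_right_inj c, he, h2])
    refine ⟨c * ρ s c, hu, ?_⟩
    obtain ⟨e1, e2, e3⟩ := horb _ hu
    have hge : 24 ≤ Nat.card (stabOf ρ (c * ρ s c)) := by
      rw [← hT]; exact Subgroup.card_le_of_le (show T ≤ stabOf ρ (c * ρ s c) from key)
    generalize (orb ρ (c * ρ s c)).ncard = n at e1 e2 e3
    obtain ⟨k, rfl⟩ := e3
    have : k ≤ 1 := by
      by_contra hk
      have : 7 * k * Nat.card (stabOf ρ (c * ρ s c)) ≥ 14 * 24 :=
        Nat.mul_le_mul (by omega) hge
      omega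
    interval_cases k <;> omega
  obtain ⟨p, e, hp, he3, he1, hep⟩ := exists_seven
  -- an element fixed by an element of order three
  obtain ⟨c, hc, hec⟩ : ∃ c : Q, c ≠ 1 ∧ ρ e c = c := by
    by_contra! hno
    have hav : ∀ u : Q, u * ρ e u * ρ (e * e) u = 1 := by
      intro u
      by_contra hne
      apply hno _ hne
      rw [map_mul, map_mul, ← act_mul, ← act_mul, ← mul_assoc e e e, he3, map_one]
      show ρ e u * ρ (e * e) u * u = _
      rw [mul_comm, mul_assoc]
    have hcm : ∀ n : ℕ, e * p ^ n = p ^ (2 * n) * e := by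
      intro n
      induction n with
      | zero => simp
      | succ n ih =>
        rw [pow_succ, ← mul_assoc, ih, mul_assoc, hep, show 2 * (n + 1) = 2 * n + 2 by ring,
          pow_add, pow_two]
        simp only [mul_assoc]
    have hp7 : p ^ 7 = 1 := by rw [← hp, pow_orderOf_eq_one]
    have hnorm : ∀ (j : ℕ) (a : Q), ¬ 7 ∣ j → ∏ i ∈ range 7, ρ (p ^ (j * i)) a = 1 := by
      intro j a hj
      have hoj : orderOf (p ^ j) = 7 := by
        rw [(Nat.Coprime.orderOf_pow (by
          rw [hp]; exact (Nat.prime_seven.coprime_iff_not_dvd).2 hj)), hp]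
      apply h (p ^ j) hoj
      rw [map_prod]
      have h1 := Finset.prod_range_succ (fun i => ρ (p ^ (j * i)) a) 7
      have h2' := Finset.prod_range_succ' (fun i => ρ (p ^ (j * i)) a) 7
      rw [h1] at h2'
      have hz : ρ (p ^ (j * 7)) a = ρ (p ^ (j * 0)) a := by
        rw [mul_comm j 7, pow_mul, hp7, one_pow, mul_zero, pow_zero]
      rw [hz] at h2'
      rw [mul_right_cancel h2']
      refine Finset.prod_congr rfl fun i _ => ?_
      rw [← act_mul, ← pow_add, mul_add_one, add_comm]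
    have hone : ∀ u : Q, u = 1 := by
      intro u
      have hterm : ∀ i : ℕ, u * ρ (p ^ (6 * i)) (ρ e u) * ρ (p ^ (4 * i)) (ρ (e * e) u) = 1 := by
        intro i
        have h1 := congrArg (ρ (p ^ i)) (hav (ρ (p ^ (6 * i)) u))
        rw [map_mul, map_mul, map_one, ← act_mul, ← act_mul, ← act_mul, ← act_mul,
          ← act_mul] at h1
        have hred : ∀ m n : ℕ, m % 7 = n % 7 → p ^ m = p ^ n := by
          intro m n hmn
          rw [← pow_mod_orderOf p m, ← pow_mod_orderOf p n, hp, hmn]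
        have ea : p ^ i * p ^ (6 * i) = 1 := by
          rw [← pow_add, ← pow_zero p]; exact hred _ _ (by omega)
        have eb : p ^ i * (e * p ^ (6 * i)) = p ^ (6 * i) * e := by
          rw [hcm, ← mul_assoc, ← pow_add, hred (i + 2 * (6 * i)) (6 * i) (by omega)]
        have ec : p ^ i * (e * e * p ^ (6 * i)) = p ^ (4 * i) * (e * e) := by
          rw [mul_assoc e e, hcm, ← mul_assoc e, hcm, mul_assoc (p ^ (2 * (2 * (6 * i)))),
            ← mul_assoc, ← pow_add, hred (i + 2 * (2 * (6 * i))) (4 * i) (by omega)]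
        rw [ea, mul_assoc (p ^ i) e, mul_assoc (p ^ i) (e * e), eb, ec, map_one] at h1
        rw [← act_mul, ← act_mul]
        exact h1
      have hprod : ∏ i ∈ range 7,
          (u * ρ (p ^ (6 * i)) (ρ e u) * ρ (p ^ (4 * i)) (ρ (e * e) u)) = 1 :=
        Finset.prod_eq_one fun i _ => hterm i
      rw [Finset.prod_mul_distrib, Finset.prod_mul_distrib, hnorm 6 _ (by norm_num),
        hnorm 4 _ (by norm_num), mul_one, mul_one, Finset.prod_const, Finset.card_range] at hprod
      have : u ^ 7 = u := by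
        rw [pow_succ, show u ^ 6 = (u * u) ^ 3 by rw [← pow_two, ← pow_mul], h2, one_pow, one_mul]
      rwa [this] at hprod
    have : Subsingleton Q := ⟨fun a b => (hone a).trans (hone b).symm⟩
    rw [Nat.card_of_subsingleton (1 : Q)] at h64
    norm_num at h64
  obtain ⟨c1, c2, c3⟩ := horb c hc
  have h3 : 3 ∣ Nat.card (stabOf ρ c) := by
    have ho : orderOf (⟨e, hec⟩ : stabOf ρ c) = 3 := by
      haveI : Fact (Nat.Prime 3) := ⟨Nat.prime_three⟩
      rw [← Subgroup.orderOf_coe]
      exact orderOf_eq_prime (by rw [pow_succ, pow_two, he3]) he1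
    exact (dvd_of_eq ho.symm).trans (orderOf_dvd_natCard (G := stabOf ρ c) _)
  have hcases : ∀ n k : ℕ, n * k = 168 → n ≤ 63 → 7 ∣ n →
      n = 7 ∨ n = 14 ∨ n = 21 ∨ n = 28 ∨ n = 42 ∨ n = 56 := by
    intro n k e1 e2 e3
    have hd : n ∣ 168 := Dvd.intro k e1
    interval_cases n <;> first | omega | norm_num at hd
  have hsmall : ∀ (S : Set Q) (d : Q), d ∈ S → (∀ x, ∀ y ∈ S, ρ x y ∈ S) → orb ρ d ⊆ S := by
    rintro S d hd hinv _ ⟨x, rfl⟩
    exact hinv x d hd
  let W : Set Q := (Set.univ \ {1}) \ orb ρ c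
  have hWinv : ∀ x, ∀ y ∈ W, ρ x y ∈ W := by
    intro x y hy
    refine ⟨⟨trivial, fun h => hy.1.2 ?_⟩, fun h => hy.2 ?_⟩
    · exact (ρ x).injective ((show ρ x y = 1 from h).trans (map_one _).symm)
    · obtain ⟨z, hz⟩ := h
      exact ⟨x⁻¹ * z, by
        show ρ (x⁻¹ * z) c = y
        rw [act_mul, show ρ z c = ρ x y from hz, act_inv]⟩
  have hWcard : W.ncard + (orb ρ c).ncard = 63 := by
    have hsub : orb ρ c ⊆ (Set.univ : Set Q) \ {1} := by
      rintro _ ⟨x, rfl⟩
      exact ⟨trivial, fun h => hc ((ρ x).injective ((show ρ x c = 1 from h).trans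
        (map_one _).symm))⟩
    rw [Set.ncard_sdiff_add_ncard_of_subset hsub, Set.ncard_sdiff_singleton_of_mem
      (Set.mem_univ _), Set.ncard_univ, h64]
  rcases hcases _ _ c1 c2 c3 with e7 | e14 | e21 | e28 | e42 | e56
  · exact ⟨c, hc, e7⟩
  · exact h14 c hc e14
  · rw [e21] at c1; omega
  · rw [e28] at hWcard
    obtain ⟨d, hd⟩ := Set.nonempty_of_ncard_ne_zero (show W.ncard ≠ 0 by omega)
    have hd1 : d ≠ 1 := hd.1.2
    obtain ⟨d1, d2, d3⟩ := horb d hd1
    have hsub := hsmall W d hd hWinv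
    have hdle := Set.ncard_le_ncard hsub (Set.toFinite _)
    let W' : Set Q := W \ orb ρ d
    have hW' : W'.ncard + (orb ρ d).ncard = W.ncard := Set.ncard_sdiff_add_ncard_of_subset hsub
    have hW'inv : ∀ x, ∀ y ∈ W', ρ x y ∈ W' := by
      intro x y hy
      refine ⟨hWinv x y hy.1, fun h => hy.2 ?_⟩
      obtain ⟨z, hz⟩ := h
      exact ⟨x⁻¹ * z, by
        show ρ (x⁻¹ * z) d = y
        rw [act_mul, show ρ z d = ρ x y from hz, act_inv]⟩
    rcases hcases _ _ d1 d2 d3 with f7 | f14 | f21 | f28 | f42 | f56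
    · exact ⟨d, hd1, f7⟩
    · exact h14 d hd1 f14
    all_goals try omega
    all_goals
      obtain ⟨f, hf⟩ := Set.nonempty_of_ncard_ne_zero (show W'.ncard ≠ 0 by omega)
      have hf1 : f ≠ 1 := hf.1.1.2
      obtain ⟨f1, f2, f3⟩ := horb f hf1
      have := Set.ncard_le_ncard (hsmall W' f hf hW'inv) (Set.toFinite _)
      rcases hcases _ _ f1 f2 f3 with g7 | g14 | g | g | g | g
      · exact ⟨f, hf1, g7⟩
      · exact h14 f hf1 g14
      all_goals omega
  · rw [e42] at c1; omega
  · rw [e56] at hWcard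
    obtain ⟨d, hd⟩ := Set.nonempty_of_ncard_ne_zero (show W.ncard ≠ 0 by omega)
    have hd1 : d ≠ 1 := hd.1.2
    obtain ⟨d1, d2, d3⟩ := horb d hd1
    have := Set.ncard_le_ncard (hsmall W d hd hWinv) (Set.toFinite _)
    refine ⟨d, hd1, ?_⟩
    rcases hcases _ _ d1 d2 d3 with f | f | f | f | f | f <;> omega

end CfsgLib.M24Nse
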