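import Cfsg.Agent.Lib.M24Nse.Defs
import Cfsg.Agent.Lib.M24Nse.CentreOrbit

/-!
# The normal subgroup of order `128` and its sections
-/

set_option autoImplicit false
set_option linter.style.haveILetI false
set_option linter.unusedSectionVars false

namespace CfsgLib.M24Nse

open Subgroup

universe u

section eight

variable {Q : Type*} [CommGroup Q] [Finite Q] (ρ : S32 →* MulAut Q)

theorem orb_eight (h : Free ρ) (h8 : Nat.card Q = 8) {c : Q} (hc : c ≠ 1) :
    (orb ρ c).ncard = 7 := by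
  have h1 : (1 : Q) ∉ orb ρ c := by
    rintro ⟨x, hx⟩
    exact hc ((ρ x).injective ((show ρ x c = 1 from hx).trans (map_one _).symm))
  have hd := seven_dvd ρ h _ h1 (by rintro x _ ⟨y, rfl⟩; exact ⟨x * y, act_mul ρ x y c⟩)
  have hsub : orb ρ c ⊆ (Set.univ : Set Q) \ {1} := fun d hd => ⟨trivial, fun h => h1 (h ▸ hd)⟩
  have hle := Set.ncard_le_ncard hsub (Set.toFinite _)
  rw [Set.ncard_sdiff_singleton_of_mem (Set.mem_univ _), Set.ncard_univ, h8] at hle
  have hpos : 0 < (orb ρ c).ncard :=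
    (Set.ncard_pos (Set.toFinite _)).2 ⟨c, 1, by simp⟩
  omega

/-- a module of order eight is the natural one, twisted -/
theorem coord_eight (h : Free ρ) (h8 : Nat.card Q = 8) :
    ∃ θ : S32 ≃* S32, ∃ F : V3 → Q, F 0 = 1 ∧ Function.Bijective F ∧
      ∀ x v, F (app x v) = ρ (θ x) (F v) := by
  haveI : Nontrivial Q := Finite.one_lt_card_iff_nontrivial.1 (by omega)
  obtain ⟨c, hc⟩ := exists_ne (1 : Q)
  obtain ⟨θ, F, hF0, -, hinj, hF, -⟩ := orbit_seven ρ hc (orb_eight ρ h h8 hc)
  refine ⟨θ, F, hF0, (Nat.bijective_iff_injective_and_card _).2 ⟨hinj, ?_⟩, hF⟩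
  rw [h8]; simp [Nat.card_eq_fintype_card]

theorem faithful_eight (h : Free ρ) (h8 : Nat.card Q = 8) {y : S32} (hy : ∀ c, ρ y c = c) :
    y = 1 := by
  obtain ⟨θ, F, -, hbij, hF⟩ := coord_eight ρ h h8
  have hv : ∀ v : V3, app (θ.symm y) v = v := fun v =>
    hbij.1 (by rw [hF, MulEquiv.apply_symm_apply, hy])
  have h1 : θ.symm y = 1 := by
    apply Subtype.ext
    exact Matrix.ext_of_mulVec_single fun i => (hv _).trans (app_one _).symm
  simpa using h1

theorem unique_eight (h : Free ρ) (h8 : Nat.card Q = 8) {y : S32} (hy3 : y * y * y = 1)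
    (hy1 : y ≠ 1) {c d : Q} (hc : ρ y c = c) (hd : ρ y d = d) (hc1 : c ≠ 1) (hd1 : d ≠ 1) :
    c = d := by
  obtain ⟨θ, F, hF0, hbij, hF⟩ := coord_eight ρ h h8
  obtain ⟨a, rfl⟩ := hbij.2 c
  obtain ⟨b, rfl⟩ := hbij.2 d
  refine congrArg F (fixed_unique (θ.symm y) (by rw [← map_mul, ← map_mul, hy3, map_one])
    (fun e => hy1 (by simpa using e)) a b ?_ ?_ ?_ ?_)
  · exact hbij.1 (by rw [hF, MulEquiv.apply_symm_apply, hc])
  · exact hbij.1 (by rw [hF, MulEquiv.apply_symm_apply, hd])
  · rintro rfl; exact hc1 hF0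
  · rintro rfl; exact hd1 hF0

end eight

variable {G : Type u} [Group G] {z v : G}

/-- `z` as an element of its centraliser -/
def zc (z : G) : ↥(centralizer ({z} : Set G)) := ⟨z, mem_centralizer_singleton_iff.2 rfl⟩

theorem zc_comm (g : ↥(centralizer ({z} : Set G))) : g * zc z = zc z * g :=
  Subtype.ext (mem_centralizer_singleton_iff.1 g.2)

theorem mem_cent {z g : G} : g ∈ centralizer ({z} : Set G) ↔ g * z = z * g :=
  mem_centralizer_singleton_iff

variable [Finite G] (T : Two z v) (ψ : ↥(centralizer ({z} : Set G)) →* S32)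
  (hψ : Function.Surjective ψ)

include hψ T in
theorem card_ker : Nat.card ψ.ker = 128 := by
  have h1 := ψ.ker.card_mul_index
  rw [Subgroup.index_ker, MonoidHom.range_eq_top.2 hψ, Subgroup.card_top, card_S32, T.cardz] at h1
  omega

theorem no_six' {a b : S32} (ha : a * a * a = 1) (ha1 : a ≠ 1) (hb : Commute a b)
    (hb2 : b * b = 1) : b = 1 :=
  no_six a ha ha1 b hb.eq.symm (by rw [hb2, one_mul, hb2])

include hψ T in
theorem zc_mem_ker : zc z ∈ ψ.ker := by
  obtain ⟨-, h, -, hh, hh1, -⟩ := exists_seven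
  obtain ⟨g, rfl⟩ := hψ h
  refine no_six' hh hh1 ?_ ?_
  · exact (show Commute g (zc z) from zc_comm g).map ψ
  · rw [← map_mul, show zc z * zc z = 1 from Subtype.ext (by
      show z * z = 1
      rw [← pow_two, ← T.oz, pow_orderOf_eq_one]), map_one]

include T in
theorem zc_ne_one : zc z ≠ 1 := fun h => by
  have h1 : z = 1 := congrArg Subtype.val h
  have := T.oz
  rw [h1, orderOf_one] at this
  omega

include T in
theorem zc_sq : zc z * zc z = 1 := Subtype.ext (by
  show z * z = 1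
  rw [← pow_two, ← T.oz, pow_orderOf_eq_one])

include hψ T in
theorem lift_seven (p : S32) (hp : orderOf p = 7) :
    ∃ f : ↥(centralizer ({z} : Set G)), orderOf f = 7 ∧ ψ f = p := by
  haveI : Fact (Nat.Prime 7) := ⟨by norm_num⟩
  obtain ⟨g, hg⟩ := hψ p
  have hp7 : p ^ 7 = 1 := by rw [← hp, pow_orderOf_eq_one]
  have hg7 : g ^ 7 ∈ ψ.ker := by rw [MonoidHom.mem_ker, map_pow, hg, hp7]
  have h128 : (g ^ 7) ^ 128 = 1 := by
    have h := pow_card_eq_one' (x := (⟨g ^ 7, hg7⟩ : ψ.ker))
    rw [card_ker T ψ hψ] at h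
    exact congrArg Subtype.val h
  have hψf : ψ (g ^ 512) = p := by
    rw [map_pow, hg, show 512 = 7 * 73 + 1 by norm_num, pow_add, pow_mul, hp7, one_pow, one_mul,
      pow_one]
  refine ⟨g ^ 512, ?_, hψf⟩
  refine orderOf_eq_prime ?_ (fun h => ?_)
  · rw [← pow_mul, show 512 * 7 = 7 * 128 * 4 by norm_num, pow_mul, pow_mul, h128, one_pow]
  · rw [h, map_one] at hψf
    rw [← hψf, orderOf_one] at hp
    omega

include hψ T in
theorem fixed_seven {f r : ↥(centralizer ({z} : Set G))} (hf : orderOf f = 7) (hr : r ∈ ψ.ker)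
    (hfr : f * r = r * f) : r = 1 ∨ r = zc z := by
  classical
  let C : Subgroup ↥(centralizer ({z} : Set G)) := centralizer {f}
  have hC : Nat.card C = 14 := by
    rw [← T.counts.cent72 (f : G) z (by rw [Subgroup.orderOf_coe, hf]) T.oz (mem_cent.1 f.2)]
    refine Nat.card_congr
      { toFun := fun x => ⟨x.1.1, ?_, (mem_cent.1 x.1.2).symm⟩
        invFun := fun g => ⟨⟨g.1, mem_cent.2 g.2.2.eq.symm⟩,
          mem_centralizer_singleton_iff.2 (Subtype.ext g.2.1.eq.symm)⟩
        left_inv := fun x => Subtype.ext (Subtype.ext rfl)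
        right_inv := fun g => Subtype.ext rfl }
    exact (congrArg Subtype.val (mem_centralizer_singleton_iff.1 x.2)).symm
  have h1 : Nat.card (C ⊓ ψ.ker : Subgroup _) ∣ 2 := by
    have a := Subgroup.card_dvd_of_le (inf_le_left : C ⊓ ψ.ker ≤ C)
    have b := Subgroup.card_dvd_of_le (inf_le_right : C ⊓ ψ.ker ≤ ψ.ker)
    rw [hC] at a
    rw [card_ker T ψ hψ] at b
    exact Nat.dvd_gcd a b
  have hz : zc z ∈ C ⊓ ψ.ker :=
    ⟨mem_centralizer_singleton_iff.2 (zc_comm f).symm, zc_mem_ker T ψ hψ⟩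
  have hrC : r ∈ C ⊓ ψ.ker := ⟨mem_centralizer_singleton_iff.2 hfr.symm, hr⟩
  by_contra! hne
  have hle := Nat.le_of_dvd (by norm_num) h1
  have h3 : ({1, r, zc z} : Set ↥(centralizer ({z} : Set G))).ncard = 3 :=
    Set.ncard_eq_three.2 ⟨1, r, zc z, hne.1.symm, (zc_ne_one T).symm, hne.2, rfl⟩
  have hsub : ({1, r, zc z} : Set ↥(centralizer ({z} : Set G))) ⊆
      ((C ⊓ ψ.ker : Subgroup _) : Set ↥(centralizer ({z} : Set G))) := by
    rintro x (rfl | rfl | rfl)
    exacts [one_mem _, hrC, hz]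
  have := Set.ncard_le_ncard hsub (Set.toFinite _)
  rw [h3, ← Nat.card_coe_set_eq] at this
  change 3 ≤ Nat.card (C ⊓ ψ.ker : Subgroup _) at this
  omega

/-- a coset fixed by an element of order seven lies in the subgroup -/
theorem mem_of_fixed (hψ : Function.Surjective ψ) (T : Two z v)
    (N : Subgroup ↥(centralizer ({z} : Set G))) [N.Normal] (hNz : zc z ∈ N) (hN : N ≤ ψ.ker)
    {f s : ↥(centralizer ({z} : Set G))} (hf : orderOf f = 7) (hs : s ∈ ψ.ker)
    (hfs : f * s * f⁻¹ * s⁻¹ ∈ N) : s ∈ N := by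
  have hinv : ∀ n : N, f * (n.1 * s) * f⁻¹ * s⁻¹ ∈ N := fun n => by
    have : f * (n.1 * s) * f⁻¹ * s⁻¹ = (f * n.1 * f⁻¹) * (f * s * f⁻¹ * s⁻¹) := by group
    rw [this]
    exact N.mul_mem (Subgroup.Normal.conj_mem ‹_› _ n.2 f) hfs
  let φ : N → N := fun n => ⟨_, hinv n⟩
  have hφinj : Function.Injective φ := fun m n hmn => by
    have := congrArg Subtype.val hmn
    exact Subtype.ext (by simpa [φ] using this)
  let σ : Equiv.Perm N := Equiv.ofBijective φ ((Finite.injective_iff_bijective).1 hφinj)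
  have hpow : ∀ k n, ((σ ^ k) n).1 = f ^ k * (n.1 * s) * (f ^ k)⁻¹ * s⁻¹ := by
    intro k
    induction k with
    | zero => intro n; simp
    | succ k ih =>
      intro n
      rw [pow_succ', Equiv.Perm.mul_apply]
      show f * (((σ ^ k) n).1 * s) * f⁻¹ * s⁻¹ = _
      rw [ih, pow_succ']
      group
  have hσ : σ ^ 7 = 1 := Equiv.ext fun n => Subtype.ext (by
    rw [hpow, ← hf, pow_orderOf_eq_one]; simp)
  have hm := modEq_seven σ hσ
  obtain ⟨n, hn⟩ : ∃ n : N, σ n = n := by
    by_contra! hno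
    haveI : IsEmpty {n : N // σ n = n} := ⟨fun n => hno n.1 n.2⟩
    rw [Nat.card_of_isEmpty (α := {n : N // σ n = n}), Nat.modEq_zero_iff_dvd] at hm
    have h1 := hm.trans ((Subgroup.card_dvd_of_le hN).trans (dvd_of_eq (card_ker T ψ hψ)))
    norm_num at h1
  have hcomm : f * (n.1 * s) = n.1 * s * f := by
    have h : f * (n.1 * s) * f⁻¹ * s⁻¹ = n.1 := congrArg Subtype.val hn
    calc f * (n.1 * s) = (f * (n.1 * s) * f⁻¹ * s⁻¹) * s * f := by group
      _ = _ := by rw [h]
  have hmem : n.1 * s ∈ N := by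
    rcases fixed_seven T ψ hψ hf (ψ.ker.mul_mem (hN n.2) hs) hcomm with h | h <;> rw [h]
    exacts [one_mem _, hNz]
  simpa using N.mul_mem (N.inv_mem n.2) hmem

/-- Data for a section of the normal subgroup on which it acts trivially. -/
structure SecData where
  N : Subgroup ↥(centralizer ({z} : Set G))
  S : Subgroup ↥(centralizer ({z} : Set G))
  nN : N.Normal
  nS : S.Normal
  zN : zc z ∈ N
  le : N ≤ S
  leR : S ≤ ψ.ker
  cm : ∀ r ∈ ψ.ker, ∀ s ∈ S, r * s * r⁻¹ * s⁻¹ ∈ N

variable {ψ}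

instance (D : SecData ψ) : D.N.Normal := D.nN

instance (D : SecData ψ) : D.S.Normal := D.nS

/-- the section -/
def SecData.sec (D : SecData ψ) : Subgroup (↥(centralizer ({z} : Set G)) ⧸ D.N) :=
  D.S.map (QuotientGroup.mk' D.N)

instance (D : SecData ψ) : D.sec.Normal :=
  Subgroup.Normal.map D.nS _ (QuotientGroup.mk'_surjective _)

noncomputable instance (D : SecData ψ) : CommGroup D.sec :=
  { (inferInstance : Group D.sec) with
    mul_comm := by
      rintro ⟨_, s, hs, rfl⟩ ⟨_, t, ht, rfl⟩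
      apply Subtype.ext
      show QuotientGroup.mk' D.N s * QuotientGroup.mk' D.N t =
        QuotientGroup.mk' D.N t * QuotientGroup.mk' D.N s
      rw [← map_mul, ← map_mul, QuotientGroup.mk'_apply, QuotientGroup.mk'_apply, QuotientGroup.eq]
      have h := D.nN.conj_mem _ (D.cm _ (D.leR (D.S.inv_mem ht)) _ (D.S.inv_mem hs)) 1
      simpa [mul_assoc] using h }

/-- the class of an element in the section -/
def SecData.cls (D : SecData ψ) (s : ↥(centralizer ({z} : Set G))) (hs : s ∈ D.S) : D.sec :=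
  ⟨QuotientGroup.mk' D.N s, s, hs, rfl⟩

theorem SecData.cls_surj (D : SecData ψ) (c : D.sec) : ∃ s, ∃ hs : s ∈ D.S, D.cls s hs = c := by
  obtain ⟨_, s, hs, rfl⟩ := c
  exact ⟨s, hs, rfl⟩

theorem SecData.cls_eq_one (D : SecData ψ) {s : ↥(centralizer ({z} : Set G))} (hs : s ∈ D.S) :
    D.cls s hs = 1 ↔ s ∈ D.N := by
  rw [Subtype.ext_iff]
  exact QuotientGroup.eq_one_iff s

theorem SecData.cls_mul (D : SecData ψ) {s t : ↥(centralizer ({z} : Set G))} (hs : s ∈ D.S)
    (ht : t ∈ D.S) : D.cls s hs * D.cls t ht = D.cls (s * t) (D.S.mul_mem hs ht) := rfl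

theorem SecData.cls_eq (D : SecData ψ) {s t : ↥(centralizer ({z} : Set G))} (hs : s ∈ D.S)
    (ht : t ∈ D.S) : D.cls s hs = D.cls t ht ↔ s⁻¹ * t ∈ D.N := by
  rw [Subtype.ext_iff]
  exact QuotientGroup.eq

/-- conjugation on the section -/
noncomputable def SecData.act0 (D : SecData ψ) :
    ↥(centralizer ({z} : Set G)) →* MulAut D.sec :=
  (MulAut.conjNormal (H := D.sec)).comp (QuotientGroup.mk' D.N)

theorem SecData.act0_cls (D : SecData ψ) (h : ↥(centralizer ({z} : Set G)))
    {s : ↥(centralizer ({z} : Set G))} (hs : s ∈ D.S) :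
    D.act0 h (D.cls s hs) = D.cls (h * s * h⁻¹) (D.nS.conj_mem _ hs h) := rfl

theorem SecData.ker_le (D : SecData ψ) : ψ.ker ≤ D.act0.ker := by
  intro r hr
  rw [MonoidHom.mem_ker]
  refine MulEquiv.ext fun c => ?_
  obtain ⟨s, hs, rfl⟩ := D.cls_surj c
  rw [D.act0_cls, MulAut.one_apply, D.cls_eq]
  have h := D.nN.conj_mem _ (D.N.inv_mem (D.cm r hr s hs)) s⁻¹
  have e : (r * s * r⁻¹)⁻¹ * s = s⁻¹ * (r * s * r⁻¹ * s⁻¹)⁻¹ * s⁻¹⁻¹ := by group
  rwa [← e] at h

/-- the action of `SL(3, 2)` on the section -/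
noncomputable def SecData.act (D : SecData ψ) (hψ : Function.Surjective ψ) :
    S32 →* MulAut D.sec :=
  ψ.liftOfSurjective hψ ⟨D.act0, D.ker_le⟩

theorem SecData.act_apply (D : SecData ψ) (hψ : Function.Surjective ψ)
    (h : ↥(centralizer ({z} : Set G))) : D.act hψ (ψ h) = D.act0 h :=
  MonoidHom.liftOfRightInverse_comp_apply ψ _ (Function.rightInverse_surjInv hψ) ⟨D.act0, D.ker_le⟩ h

variable (ψ)

include hψ T in
theorem SecData.free (D : SecData ψ) : Free (D.act hψ) := by
  intro p hp c hc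
  obtain ⟨f, hf, rfl⟩ := lift_seven T ψ hψ p hp
  obtain ⟨s, hs, rfl⟩ := D.cls_surj c
  rw [D.act_apply, D.act0_cls, D.cls_eq] at hc
  rw [D.cls_eq_one]
  refine mem_of_fixed ψ hψ T D.N D.zN (D.le.trans D.leR) hf (D.leR hs) ?_
  have h := D.nN.conj_mem _ (D.N.inv_mem hc) s
  have e : f * s * f⁻¹ * s⁻¹ = s * ((f * s * f⁻¹)⁻¹ * s)⁻¹ * s⁻¹ := by group
  rwa [← e] at h

theorem SecData.card_mul (D : SecData ψ) : Nat.card D.sec * Nat.card D.N = Nat.card D.S := by
  let f := (QuotientGroup.mk' D.N).comp D.S.subtype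
  have hk : f.ker = D.N.subgroupOf D.S := by
    ext x
    show (QuotientGroup.mk' D.N) x.1 = 1 ↔ x ∈ D.N.subgroupOf D.S
    rw [Subgroup.mem_subgroupOf]
    exact QuotientGroup.eq_one_iff x.1
  have hr : f.range = D.sec := by
    rw [MonoidHom.range_comp, Subgroup.range_subtype]; rfl
  have h := f.ker.index_mul_card
  rw [Subgroup.index_ker, hr, hk, Nat.card_congr (Subgroup.subgroupOfEquivOfLe D.le).toEquiv] at h
  exact h

include hψ T in
theorem SecData.card_seven (D : SecData ψ) : 7 ∣ Nat.card D.sec - 1 := by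
  have h := seven_dvd (D.act hψ) (D.free T ψ hψ) ((Set.univ : Set D.sec) \ {1}) (by simp)
    (fun x c hc => ⟨trivial, fun h => hc.2 ((D.act hψ x).injective
      ((show D.act hψ x c = 1 from h).trans (map_one _).symm))⟩)
  rwa [Set.ncard_sdiff_singleton_of_mem (Set.mem_univ _), Set.ncard_univ] at h

/-- the subgroup generated by `z` -/
def zsub (z : G) : Subgroup ↥(centralizer ({z} : Set G)) := zpowers (zc z)

instance zsub_normal : (zsub z).Normal := by
  refine ⟨fun n hn g => ?_⟩
  obtain ⟨k, rfl⟩ := mem_zpowers_iff.1 hn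
  refine mem_zpowers_iff.2 ⟨k, ?_⟩
  have : Commute g (zc z) := zc_comm g
  rw [(this.zpow_right k).eq, mul_inv_cancel_right]

include T in
theorem card_zsub : Nat.card (zsub z) = 2 := by
  haveI : Fact (Nat.Prime 2) := ⟨Nat.prime_two⟩
  rw [zsub, Nat.card_zpowers]
  exact orderOf_eq_prime (by rw [pow_two, zc_sq T]) (zc_ne_one T)

include T in
theorem mem_zsub {x : ↥(centralizer ({z} : Set G))} (hx : x ∈ zsub z) : x = 1 ∨ x = zc z := by
  obtain ⟨k, rfl⟩ := mem_zpowers_iff.1 hx
  rcases Int.even_or_odd k with ⟨m, rfl⟩ | ⟨m, rfl⟩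
  · left; rw [← two_mul, zpow_mul, zpow_two, zc_sq T, one_zpow]
  · right; rw [zpow_add_one, zpow_mul, zpow_two, zc_sq T, one_zpow, one_mul]

theorem zc_mem_zsub : zc z ∈ zsub z := mem_zpowers _

/-- the central involutions of the normal subgroup -/
def cInv : Subgroup ↥(centralizer ({z} : Set G)) where
  carrier := {w | w ∈ ψ.ker ∧ (∀ r ∈ ψ.ker, r * w = w * r) ∧ w * w = 1}
  one_mem' := ⟨one_mem _, fun r _ => by simp, one_mul 1⟩
  mul_mem' {a b} ha hb := ⟨mul_mem ha.1 hb.1,
    fun r hr => by rw [← mul_assoc, ha.2.1 r hr, mul_assoc, hb.2.1 r hr, mul_assoc],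
    by
      calc a * b * (a * b) = a * (b * a) * b := by group
        _ = a * (a * b) * b := by rw [ha.2.1 b hb.1]
        _ = (a * a) * (b * b) := by group
        _ = 1 := by rw [ha.2.2, hb.2.2, mul_one]⟩
  inv_mem' {a} ha := by rw [inv_eq_of_mul_eq_one_right ha.2.2]; exact ha

instance cInv_normal : (cInv ψ).Normal := by
  refine ⟨fun w hw g => ⟨(inferInstance : ψ.ker.Normal).conj_mem w hw.1 g, fun r hr => ?_, ?_⟩⟩
  · have hr' : g⁻¹ * r * g ∈ ψ.ker := by
      simpa using (inferInstance : ψ.ker.Normal).conj_mem r hr g⁻¹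
    calc r * (g * w * g⁻¹) = g * ((g⁻¹ * r * g) * w) * g⁻¹ := by group
      _ = g * (w * (g⁻¹ * r * g)) * g⁻¹ := by rw [hw.2.1 _ hr']
      _ = g * w * g⁻¹ * r := by group
  · calc g * w * g⁻¹ * (g * w * g⁻¹) = g * (w * w) * g⁻¹ := by group
      _ = 1 := by rw [hw.2.2]; group

include hψ T in
theorem zc_mem_cInv : zc z ∈ cInv ψ :=
  ⟨zc_mem_ker T ψ hψ, fun r _ => zc_comm r, zc_sq T⟩

include hψ T in
theorem zsub_le_cInv : zsub z ≤ cInv ψ := zpowers_le.2 (zc_mem_cInv T ψ hψ)

/-- the section of the central involutions over `z` -/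
noncomputable def dataA : SecData ψ where
  N := zsub z
  S := cInv ψ
  nN := inferInstance
  nS := inferInstance
  zN := zc_mem_zsub
  le := zsub_le_cInv T ψ hψ
  leR := fun _ h => h.1
  cm := fun r hr s hs => by
    rw [hs.2.1 r hr, mul_inv_cancel_right, mul_inv_cancel]; exact one_mem _

include hψ T in
theorem card_cInv {w : ↥(centralizer ({z} : Set G))} (hw : w ∈ cInv ψ) (hw1 : w ≠ 1)
    (hwz : w ≠ zc z) : Nat.card (cInv ψ) = 16 ∨ Nat.card (cInv ψ) = 128 := by
  have h1 := (dataA T ψ hψ).card_mul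
  have h7 := (dataA T ψ hψ).card_seven T ψ hψ
  rw [show Nat.card (dataA T ψ hψ).N = 2 from card_zsub T] at h1
  change _ = Nat.card (cInv ψ) at h1
  have hd : Nat.card (cInv ψ) ∣ 2 ^ 7 := by
    have := Subgroup.card_dvd_of_le (show cInv ψ ≤ ψ.ker from fun _ h => h.1)
    rwa [card_ker T ψ hψ] at this
  have hne : Nat.card (cInv ψ) ≠ 2 := by
    intro h
    have he : zsub z = cInv ψ := Subgroup.eq_of_le_of_card_ge (zsub_le_cInv T ψ hψ)
      (by rw [h, card_zsub T])
    rcases mem_zsub T (he ▸ hw) with h | h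
    exacts [hw1 h, hwz h]
  obtain ⟨k, hk, e⟩ := (Nat.dvd_prime_pow Nat.prime_two).1 hd
  rw [e] at h1 hne ⊢
  generalize Nat.card (dataA T ψ hψ).sec = m at h1 h7
  interval_cases k <;> omega

include hψ T in
/-- only the centraliser of `z` normalises the subgroup -/
theorem norm_ker (g : G)
    (hg : g ∈ normalizer
      ((ψ.ker.map (centralizer ({z} : Set G)).subtype : Subgroup G) : Set G)) :
    g ∈ centralizer ({z} : Set G) := by
  classical
  set R := ψ.ker.map (centralizer ({z} : Set G)).subtype with hRdef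
  have hR : Nat.card R = 128 := by
    rw [hRdef, Subgroup.card_map_of_injective Subtype.val_injective, card_ker T ψ hψ]
  have hH : centralizer ({z} : Set G) ≤ normalizer (R : Set G) := by
    intro h hh
    rw [Subgroup.mem_normalizer_iff]
    intro x
    constructor
    · rintro ⟨r, hr, rfl⟩
      exact ⟨_, (inferInstance : ψ.ker.Normal).conj_mem r hr ⟨h, hh⟩, rfl⟩
    · rintro ⟨r, hr, he⟩
      refine ⟨_, (inferInstance : ψ.ker.Normal).conj_mem r hr ⟨h, hh⟩⁻¹, ?_⟩
      show h⁻¹ * r.1 * h⁻¹⁻¹ = x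
      rw [show r.1 = h * x * h⁻¹ from he]
      group
  set N := normalizer (R : Set G) with hNdef
  -- the conjugates of `z` under the normaliser
  let O : Set G := (fun n => n * z * n⁻¹) '' (N : Set G)
  have hzR : z ∈ R := ⟨zc z, zc_mem_ker T ψ hψ, rfl⟩
  have hOR : O ⊆ ((R : Set G) \ {1}) := by
    rintro _ ⟨n, hn, rfl⟩
    refine ⟨(Subgroup.mem_normalizer_iff.1 hn z).1 hzR, fun h => ?_⟩
    have h0 : z = 1 := conj_eq_one_iff.1 h
    have := T.oz
    rw [h0, orderOf_one] at this
    omega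
  have hOle : O.ncard ≤ 127 := by
    have := Set.ncard_le_ncard hOR (Set.toFinite _)
    rw [Set.ncard_sdiff_singleton_of_mem R.one_mem, ← Nat.card_coe_set_eq] at this
    change O.ncard ≤ Nat.card R - 1 at this
    omega
  -- the orbit of `z`
  have hcard : Nat.card N = O.ncard * 21504 := by
    letI : MulAction N G := MulAction.compHom G ((MulAut.conj).comp N.subtype)
    have hs : Nat.card (MulAction.stabilizer N z) = 21504 := by
      rw [← T.cardz]
      refine Nat.card_congr
        { toFun := fun x => ⟨x.1.1, ?_⟩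
          invFun := fun h => ⟨⟨h.1, hH h.2⟩, ?_⟩
          left_inv := fun x => Subtype.ext (Subtype.ext rfl)
          right_inv := fun h => Subtype.ext rfl }
      · have : x.1.1 * z * x.1.1⁻¹ = z := x.2
        exact mem_cent.2 (mul_inv_eq_iff_eq_mul.1 this)
      · show h.1 * z * h.1⁻¹ = z
        exact mul_inv_eq_iff_eq_mul.2 (mem_cent.1 h.2)
    have ho : MulAction.orbit N z = O := by
      ext x
      constructor
      · rintro ⟨n, rfl⟩; exact ⟨n.1, n.2, rfl⟩
      · rintro ⟨n, hn, rfl⟩; exact ⟨⟨n, hn⟩, rfl⟩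
    have h := (MulAction.stabilizer N z).index_mul_card
    rw [MulAction.index_stabilizer, ho, hs] at h
    exact h.symm
  have hdvd : O.ncard ∣ 11385 := by
    have h : O.ncard * 21504 ∣ 11385 * 21504 := by
      rw [← hcard, show 11385 * 21504 = 244823040 by norm_num, ← T.counts.card]
      exact Subgroup.card_subgroup_dvd_card N
    exact Nat.dvd_of_mul_dvd_mul_right (by norm_num) h
  have hmod : O.ncard ≡ 1 [MOD 7] := by
    obtain ⟨p, -, hp, -⟩ := exists_seven
    obtain ⟨f, hf, -⟩ := lift_seven T ψ hψ p hp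
    have hinv : ∀ x ∈ O, (f : G) * x * (f : G)⁻¹ ∈ O := by
      rintro _ ⟨n, hn, rfl⟩
      exact ⟨f.1 * n, N.mul_mem (hH f.2) hn, by group⟩
    let φ : O → O := fun x => ⟨_, hinv _ x.2⟩
    have hφi : Function.Injective φ := fun a b hab => by
      have := congrArg Subtype.val hab
      exact Subtype.ext (by simpa [φ] using this)
    let σ : Equiv.Perm O := Equiv.ofBijective φ ((Finite.injective_iff_bijective).1 hφi)
    have hpow : ∀ k x, ((σ ^ k) x).1 = (f : G) ^ k * x.1 * ((f : G) ^ k)⁻¹ := by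
      intro k
      induction k with
      | zero => intro x; simp
      | succ k ih =>
        intro x
        rw [pow_succ', Equiv.Perm.mul_apply]
        show (f : G) * ((σ ^ k) x).1 * (f : G)⁻¹ = _
        rw [ih, pow_succ']
        group
    have hσ : σ ^ 7 = 1 := Equiv.ext fun x => Subtype.ext (by
      rw [hpow, show (f : G) ^ 7 = 1 from by rw [← hf, ← Subgroup.orderOf_coe, pow_orderOf_eq_one]]
      simp)
    have hm := modEq_seven σ hσ
    have h1 : Nat.card {x : O // σ x = x} = 1 := by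
      rw [Nat.card_eq_one_iff_exists]
      have hzO : z ∈ O := ⟨1, N.one_mem, by simp⟩
      have hfix : σ ⟨z, hzO⟩ = ⟨z, hzO⟩ := Subtype.ext
        (mul_inv_eq_iff_eq_mul.2 (mem_cent.1 f.2))
      refine ⟨⟨⟨z, hzO⟩, hfix⟩, fun x => Subtype.ext (Subtype.ext ?_)⟩
      obtain ⟨r, hr, hrx⟩ := (hOR x.1.2).1
      rcases fixed_seven T ψ hψ hf hr (Subtype.ext (by
        show (f : G) * r.1 = r.1 * (f : G)
        rw [show r.1 = x.1.1 from hrx]
        exact mul_inv_eq_iff_eq_mul.1 (congrArg Subtype.val x.2))) with h | h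
      · exfalso
        apply (hOR x.1.2).2
        rw [← hrx, h]; rfl
      · rw [← hrx, h]; rfl
    rwa [h1, Nat.card_coe_set_eq] at hm
  -- an element of order five or eleven cannot normalise the subgroup
  have hno : ∀ q : ℕ, q.Prime → q ∣ Nat.card N → q = 5 ∨ q = 11 → False := by
    intro q hq hqN hq'
    haveI := Fact.mk hq
    obtain ⟨y, hy⟩ := exists_prime_orderOf_dvd_card' q hqN
    have hy' : orderOf (y : G) = q := by rw [Subgroup.orderOf_coe, hy]
    let P : Subgroup G := R ⊓ centralizer {(y : G)}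
    have h128 : Nat.card P ∣ 2 ^ 7 := by
      have := Subgroup.card_dvd_of_le (show P ≤ R from inf_le_left)
      rwa [hR] at this
    have hq2 : q ∣ 128 - Nat.card P := by
      let φ : R → R := fun r => ⟨(y : G) * r.1 * (y : G)⁻¹,
        (Subgroup.mem_normalizer_iff.1 y.2 r.1).1 r.2⟩
      have hφi : Function.Injective φ := fun a b hab => by
        have := congrArg Subtype.val hab
        exact Subtype.ext (by simpa [φ] using this)
      let σ : Equiv.Perm R := Equiv.ofBijective φ ((Finite.injective_iff_bijective).1 hφi)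
      have hpow : ∀ k x, ((σ ^ k) x).1 = (y : G) ^ k * x.1 * ((y : G) ^ k)⁻¹ := by
        intro k
        induction k with
        | zero => intro x; simp
        | succ k ih =>
          intro x
          rw [pow_succ', Equiv.Perm.mul_apply]
          show (y : G) * ((σ ^ k) x).1 * (y : G)⁻¹ = _
          rw [ih, pow_succ']
          group
      have hσ : σ ^ q ^ 1 = 1 := Equiv.ext fun x => Subtype.ext (by
        rw [hpow, pow_one, show (y : G) ^ q = 1 from by rw [← hy', pow_orderOf_eq_one]]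
        simp)
      haveI := Fintype.ofFinite R
      have hc := Equiv.Perm.card_compl_support_modEq (p := q) hσ
      have h2 : Nat.card P = σ.supportᶜ.card := by
        have e1 : Nat.card P = Nat.card {r : R // σ r = r} := Nat.card_congr
          { toFun := fun x => ⟨⟨x.1, x.2.1⟩, Subtype.ext (mul_inv_eq_iff_eq_mul.2
              (mem_centralizer_singleton_iff.1 x.2.2).symm)⟩
            invFun := fun r => ⟨r.1.1, r.1.2, mem_centralizer_singleton_iff.2
              (mul_inv_eq_iff_eq_mul.1 (congrArg Subtype.val r.2)).symm⟩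
            left_inv := fun x => rfl
            right_inv := fun r => rfl }
        rw [e1, Nat.card_eq_fintype_card, Fintype.card_subtype]
        congr 1
        ext a
        simp
      rw [← h2, ← Nat.card_eq_fintype_card, hR] at hc
      exact (Nat.modEq_iff_dvd' (Nat.le_of_dvd (by norm_num) h128)).1 hc
    have hd : Nat.card P ∣ Nat.card (centralizer ({(y : G)} : Set G)) :=
      Subgroup.card_dvd_of_le inf_le_right
    obtain ⟨k, hk, hkP⟩ := (Nat.dvd_prime_pow Nat.prime_two).1 h128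
    rcases hq' with rfl | rfl
    · rw [T.counts.cent5 _ hy'] at hd
      rw [hkP] at hd hq2
      interval_cases k <;> revert hd hq2 <;> norm_num
    · rw [T.counts.cent11 _ hy'] at hd
      rw [hkP] at hd hq2
      interval_cases k <;> revert hd hq2 <;> norm_num
  have hk1 : O.ncard = 1 := by
    have key : ∀ k < 128, k ∣ 11385 → k % 7 = 1 → k = 1 ∨ 5 ∣ k ∨ 11 ∣ k := by decide +kernel
    rcases key _ (by omega) hdvd hmod with h | h | h
    · exact h
    · exact (hno 5 (by norm_num) (hcard ▸ h.mul_right _) (Or.inl rfl)).elim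
    · exact (hno 11 (by norm_num) (hcard ▸ h.mul_right _) (Or.inr rfl)).elim
  obtain ⟨a, ha⟩ := Set.ncard_eq_one.1 hk1
  have h1 : z ∈ O := ⟨1, N.one_mem, by simp⟩
  have h2 : g * z * g⁻¹ ∈ O := ⟨g, hg, rfl⟩
  rw [ha, Set.mem_singleton_iff] at h1 h2
  exact mem_cent.2 (mul_inv_eq_iff_eq_mul.1 (h2.trans h1.symm))

end CfsgLib.M24Nse
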