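import Mathlib

/-!
# The natural module of `SL(3, 2)` and the orbits of size seven

Auxiliary facts for the centre of the normal subgroup of order `128`.
-/

set_option autoImplicit false
set_option maxRecDepth 100000
set_option synthInstance.maxSize 1000
set_option linter.style.haveILetI false

namespace CfsgLib.M24Nse

open Matrix MulAction

/-- `SL(3, 2)` -/
abbrev S32 : Type := Matrix.SpecialLinearGroup (Fin 3) (ZMod 2)

/-- its natural module -/
abbrev V3 : Type := Fin 3 → ZMod 2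

/-- the natural action -/
def app (x : S32) (v : V3) : V3 := x.1 *ᵥ v

theorem app_one (v : V3) : app 1 v = v := by simp [app]

theorem app_mul (x y : S32) (v : V3) : app (x * y) v = app x (app y v) := by
  simp [app, Matrix.mulVec_mulVec]

theorem app_add (x : S32) (v w : V3) : app x (v + w) = app x v + app x w := by
  simp [app, Matrix.mulVec_add]

theorem app_inv (x : S32) (v : V3) : app x⁻¹ (app x v) = v := by
  rw [← app_mul, inv_mul_cancel, app_one]

theorem app_inj (x : S32) : Function.Injective (app x) :=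
  Function.LeftInverse.injective (app_inv x)

theorem app_zero (x : S32) : app x 0 = 0 := by simp [app]

theorem app_ne_zero (x : S32) {v : V3} (h : v ≠ 0) : app x v ≠ 0 := fun h' =>
  h (app_inj x (h'.trans (app_zero x).symm))

/-- the inverse transpose -/
def tw (x : S32) : S32 :=
  ⟨(x⁻¹).1ᵀ, by rw [Matrix.det_transpose]; exact (x⁻¹).2⟩

theorem tw_mul (x y : S32) : tw (x * y) = tw x * tw y := by
  apply Subtype.ext
  show ((x * y)⁻¹).1ᵀ = (x⁻¹).1ᵀ * (y⁻¹).1ᵀ
  rw [_root_.mul_inv_rev, Matrix.SpecialLinearGroup.coe_mul, Matrix.transpose_mul]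

/-- the inverse transpose as a homomorphism -/
def twHom : S32 →* S32 := MonoidHom.mk' tw tw_mul

theorem tw_inv_eq (x : S32) : (tw x)⁻¹.1 = x.1ᵀ := by
  have h : tw x⁻¹ = (tw x)⁻¹ := map_inv twHom x
  rw [← h]
  show ((x⁻¹)⁻¹).1ᵀ = _
  rw [inv_inv]

theorem tw_tw (x : S32) : tw (tw x) = x := by
  apply Subtype.ext
  show ((tw x)⁻¹).1ᵀ = _
  rw [tw_inv_eq, Matrix.transpose_transpose]

theorem tw_dot (x : S32) (c v : V3) : app (tw x) c ⬝ᵥ app x v = c ⬝ᵥ v := by
  show ((x⁻¹).1ᵀ *ᵥ c) ⬝ᵥ (x.1 *ᵥ v) = _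
  rw [Matrix.mulVec_transpose, ← Matrix.dotProduct_mulVec]
  exact congrArg (c ⬝ᵥ ·) (app_inv x v)

/-- The first basis vector. -/
def e0 : V3 := ![1, 0, 0]

theorem e0_ne : e0 ≠ 0 := by decide +kernel

theorem card_S32 : Nat.card S32 = 168 := by
  rw [Nat.card_eq_fintype_card]
  decide +kernel

theorem fixed_unique : ∀ a : S32, a * a * a = 1 → a ≠ 1 → ∀ v w : V3, app a v = v → app a w = w →
    v ≠ 0 → w ≠ 0 → v = w := by
  unfold app; decide +kernel

theorem no_six : ∀ a : S32, a * a * a = 1 → a ≠ 1 → ∀ b : S32, b * a = a * b →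
    b * b * b * b = 1 → b = 1 := by decide +kernel

theorem completion : ∀ a b : V3, a ≠ 0 → b ≠ 0 → a ≠ b →
    ∃ w : V3, (Matrix.of fun i j => (![a, b, w] : Fin 3 → V3) j i).det = 1 := by decide +kernel

theorem orth_unique : ∀ a b : V3, a ≠ 0 → b ≠ 0 → a ≠ b → ∀ c d : V3, c ≠ 0 → d ≠ 0 →
    c ⬝ᵥ a = 0 → c ⬝ᵥ b = 0 → d ⬝ᵥ a = 0 → d ⬝ᵥ b = 0 → c = d := by decide +kernel

theorem line_covector : ∀ a b : V3, a ≠ 0 → b ≠ 0 → a ≠ b →
    ∃ c : V3, (Finset.univ.filter fun v => c ⬝ᵥ v = 0) = {0, a, b, a + b} := by decide +kernel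

theorem dual_moved : ∀ c : V3, c ≠ 0 → ∃ x : S32, app x e0 = e0 ∧ x.1ᵀ *ᵥ c ≠ c := by
  unfold app; decide +kernel

theorem sum_cases : ∀ a b c : V3, a ≠ 0 → b ≠ 0 → c ≠ 0 → a ≠ b → a ≠ c → b ≠ c →
    a + b + c ≠ 0 ∨ ∃ d : V3, d ≠ 0 ∧ d ⬝ᵥ a = 0 ∧ d ⬝ᵥ b = 0 ∧ d ⬝ᵥ c = 0 := by decide +kernel

theorem count_three : ∀ c₁ c₂ v : V3,
    ((if c₁ ⬝ᵥ v = 0 then 1 else 0) + (if c₂ ⬝ᵥ v = 0 then 1 else 0) +
      (if (c₁ + c₂) ⬝ᵥ v = 0 then 1 else 0) : ℕ) % 2 = 1 := by decide +kernel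

/-- `SL(3, 2)` is transitive on ordered pairs of different non-zero vectors. -/
theorem app_pairs {a b a' b' : V3} (ha : a ≠ 0) (hb : b ≠ 0) (hab : a ≠ b) (ha' : a' ≠ 0)
    (hb' : b' ≠ 0) (hab' : a' ≠ b') : ∃ x : S32, app x a = a' ∧ app x b = b' := by
  have key : ∀ a b : V3, a ≠ 0 → b ≠ 0 → a ≠ b →
      ∃ x : S32, app x ![1, 0, 0] = a ∧ app x ![0, 1, 0] = b := by
    intro a b ha hb hab
    obtain ⟨w, hw⟩ := completion a b ha hb hab
    refine ⟨⟨_, hw⟩, ?_, ?_⟩ <;> funext i <;>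
      simp [app, Matrix.mulVec, dotProduct, Fin.sum_univ_three]
  obtain ⟨x, hx1, hx2⟩ := key a b ha hb hab
  obtain ⟨y, hy1, hy2⟩ := key a' b' ha' hb' hab'
  refine ⟨y * x⁻¹, ?_, ?_⟩
  · rw [app_mul, ← hx1, app_inv, hy1]
  · rw [app_mul, ← hx2, app_inv, hy2]

theorem exists_other {a : V3} : ∃ b : V3, b ≠ 0 ∧ a ≠ b := by
  revert a; decide +kernel

theorem app_trans {a a' : V3} (ha : a ≠ 0) (ha' : a' ≠ 0) : ∃ x : S32, app x a = a' := by
  obtain ⟨b, hb, hab⟩ := exists_other (a := a)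
  obtain ⟨b', hb', hab'⟩ := exists_other (a := a')
  obtain ⟨x, hx, -⟩ := app_pairs ha hb hab ha' hb' hab'
  exact ⟨x, hx⟩

/-- The stabiliser of the first basis vector. -/
def stabE : Subgroup S32 where
  carrier := {x | app x e0 = e0}
  one_mem' := app_one _
  mul_mem' {x y} hx hy := by
    show app (x * y) e0 = e0
    rw [app_mul, (hy : app y e0 = e0), (hx : app x e0 = e0)]
  inv_mem' {x} hx := by
    show app x⁻¹ e0 = e0
    have h := app_inv x e0
    rwa [(hx : app x e0 = e0)] at h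

theorem card_stabE : Nat.card stabE = 24 := by
  have h : Nat.card stabE = Nat.card {x : S32 // x.1 *ᵥ e0 = e0} :=
    Nat.card_congr (Equiv.subtypeEquivRight fun x => Iff.rfl)
  rw [h, Nat.card_eq_fintype_card]
  decide +kernel

/-- a permutation of order dividing seven moves blocks of seven -/
theorem modEq_seven {α : Type*} [Finite α] (σ : Equiv.Perm α) (h : σ ^ 7 = 1) :
    Nat.card α ≡ Nat.card {a : α // σ a = a} [MOD 7] := by
  classical
  haveI := Fintype.ofFinite α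
  haveI : Fact (Nat.Prime 7) := ⟨by norm_num⟩
  have hc := Equiv.Perm.card_compl_support_modEq (p := 7) (n := 1) (σ := σ) (by simpa using h)
  have h2 : Nat.card {a : α // σ a = a} = σ.supportᶜ.card := by
    rw [Nat.card_eq_fintype_card, Fintype.card_subtype]
    congr 1
    ext a
    simp
  rw [Nat.card_eq_fintype_card, h2]
  exact hc.symm

/-- a permutation of order dividing three moves blocks of three -/
theorem modEq_three {α : Type*} [Finite α] (σ : Equiv.Perm α) (h : σ ^ 3 = 1) :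
    Nat.card α ≡ Nat.card {a : α // σ a = a} [MOD 3] := by
  classical
  haveI := Fintype.ofFinite α
  haveI : Fact (Nat.Prime 3) := ⟨by norm_num⟩
  have hc := Equiv.Perm.card_compl_support_modEq (p := 3) (n := 1) (σ := σ) (by simpa using h)
  have h2 : Nat.card {a : α // σ a = a} = σ.supportᶜ.card := by
    rw [Nat.card_eq_fintype_card, Fintype.card_subtype]
    congr 1
    ext a
    simp
  rw [Nat.card_eq_fintype_card, h2]
  exact hc.symm

end CfsgLib.M24Nse
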