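import Cfsg.Agent.Lib.M24Nse.CentreBasic

/-!
# With a further central involution the normal subgroup is abelian
-/

set_option autoImplicit false
set_option linter.style.haveILetI false
set_option linter.unusedSectionVars false

namespace CfsgLib.M24Nse

open Subgroup

universe u

variable {G : Type u} [Group G] [Finite G] {z v : G} (T : Two z v)
  (ψ : ↥(centralizer ({z} : Set G)) →* S32) (hψ : Function.Surjective ψ)

include hψ T in
/-- If the central involutions have order `16` the quotient by them has exponent two. -/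
theorem squares_mem (h16 : Nat.card (cInv ψ) = 16) {r : ↥(centralizer ({z} : Set G))}
    (hr : r ∈ ψ.ker) : r * r ∈ cInv ψ := by
  classical
  let π := QuotientGroup.mk' (cInv ψ)
  let Qb := ψ.ker.map π
  have hc : Nat.card Qb = 8 := by
    let f := π.comp ψ.ker.subtype
    have hk : f.ker = (cInv ψ).subgroupOf ψ.ker := by
      ext x
      show π x.1 = 1 ↔ x ∈ (cInv ψ).subgroupOf ψ.ker
      rw [Subgroup.mem_subgroupOf]
      exact QuotientGroup.eq_one_iff x.1
    have hrg : f.range = Qb := by rw [MonoidHom.range_comp, Subgroup.range_subtype]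
    have h := f.ker.index_mul_card
    rw [Subgroup.index_ker, hrg, hk,
      Nat.card_congr (Subgroup.subgroupOfEquivOfLe (show cInv ψ ≤ ψ.ker from fun _ h => h.1)).toEquiv,
      h16, card_ker T ψ hψ] at h
    omega
  obtain ⟨p, -, hp, -⟩ := exists_seven
  obtain ⟨f, hf, -⟩ := lift_seven T ψ hψ p hp
  haveI hn : Qb.Normal :=
    Subgroup.Normal.map inferInstance _ (QuotientGroup.mk'_surjective _)
  let φ : MulAut Qb := MulAut.conjNormal (π f)
  have hfix : ∀ c : Qb, φ c = c → c = 1 := by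
    rintro ⟨_, s, hs, rfl⟩ hcs
    have h : π f * π s * (π f)⁻¹ = π s := congrArg Subtype.val hcs
    apply Subtype.ext
    show π s = 1
    refine (QuotientGroup.eq_one_iff s).2 ?_
    refine mem_of_fixed ψ hψ T (cInv ψ) (zc_mem_cInv T ψ hψ) (fun _ h => h.1) hf hs ?_
    rw [← QuotientGroup.eq_one_iff]
    show π (f * s * f⁻¹ * s⁻¹) = 1
    rw [map_mul, map_mul, map_mul, map_inv, map_inv, h, mul_inv_cancel]
  -- the elements of order two or one
  let S2 : Set Qb := {c | c * c = 1} \ {1}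
  have hinv : ∀ c ∈ S2, φ c ∈ S2 := by
    rintro c ⟨h1, h2⟩
    refine ⟨show φ c * φ c = 1 by rw [← map_mul, show c * c = 1 from h1, map_one], fun h => h2 ?_⟩
    exact φ.injective ((show φ c = 1 from h).trans (map_one _).symm)
  let φ' : S2 → S2 := fun c => ⟨φ c.1, hinv _ c.2⟩
  have hi : Function.Injective φ' := fun a b hab =>
    Subtype.ext (φ.injective (congrArg Subtype.val hab))
  let σ : Equiv.Perm S2 := Equiv.ofBijective φ' ((Finite.injective_iff_bijective).1 hi)
  have hpow : ∀ k c, ((σ ^ k) c).1 = (φ ^ k) c.1 := by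
    intro k
    induction k with
    | zero => intro c; simp
    | succ k ih => intro c; rw [pow_succ', pow_succ', Equiv.Perm.mul_apply, MulAut.mul_apply, ← ih]; rfl
  have hσ : σ ^ 7 = 1 := Equiv.ext fun c => Subtype.ext (by
    rw [hpow, show φ ^ 7 = 1 from by
      rw [← map_pow, ← map_pow, ← hf, pow_orderOf_eq_one, map_one, map_one]]
    rfl)
  have hm := modEq_seven σ hσ
  haveI : IsEmpty {c : S2 // σ c = c} :=
    ⟨fun c => c.1.2.2 (hfix _ (congrArg Subtype.val c.2))⟩
  rw [Nat.card_of_isEmpty (α := {c : S2 // σ c = c}), Nat.modEq_zero_iff_dvd,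
    Nat.card_coe_set_eq] at hm
  have hpos : 0 < S2.ncard := by
    rw [Set.ncard_pos (Set.toFinite _)]
    haveI : Fact (Nat.Prime 2) := ⟨Nat.prime_two⟩
    obtain ⟨c, hc2⟩ := exists_prime_orderOf_dvd_card' (G := Qb) 2 (by rw [hc]; norm_num)
    refine ⟨c, show c * c = 1 by rw [← pow_two, ← hc2, pow_orderOf_eq_one], fun h => ?_⟩
    rw [show c = 1 from h, orderOf_one] at hc2
    omega
  have hle : S2 ⊆ (Set.univ : Set Qb) \ {1} := fun c hc => ⟨trivial, hc.2⟩
  have hu : ((Set.univ : Set Qb) \ {1}).ncard = 7 := by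
    rw [Set.ncard_sdiff_singleton_of_mem (Set.mem_univ _), Set.ncard_univ, hc]
  have heq : S2 = (Set.univ : Set Qb) \ {1} := by
    refine Set.eq_of_subset_of_ncard_le hle ?_ (Set.toFinite _)
    rw [hu]
    exact Nat.le_of_dvd hpos hm
  have hall : ∀ c : Qb, c * c = 1 := by
    intro c
    by_cases h : c = 1
    · rw [h, one_mul]
    · have : c ∈ S2 := heq ▸ ⟨trivial, h⟩
      exact this.1
  have h := congrArg Subtype.val (hall ⟨π r, r, hr, rfl⟩)
  rw [← QuotientGroup.eq_one_iff]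
  exact h

/-- the quotient by the central involutions -/
noncomputable def dataM (hcm : ∀ r ∈ ψ.ker, ∀ s ∈ ψ.ker, r * s * r⁻¹ * s⁻¹ ∈ cInv ψ) :
    SecData ψ where
  N := cInv ψ
  S := ψ.ker
  nN := inferInstance
  nS := inferInstance
  zN := zc_mem_cInv T ψ hψ
  le := fun _ h => h.1
  leR := le_rfl
  cm := hcm

include hψ T in
theorem ker_comm {w : ↥(centralizer ({z} : Set G))} (hw : w ∈ cInv ψ) (hw1 : w ≠ 1)
    (hwz : w ≠ zc z) {a b : ↥(centralizer ({z} : Set G))} (ha : a ∈ ψ.ker) (hb : b ∈ ψ.ker) :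
    a * b = b * a := by
  rcases card_cInv T ψ hψ hw hw1 hwz with h16 | h128
  swap
  · have he : cInv ψ = ψ.ker := Subgroup.eq_of_le_of_card_ge (fun _ h => h.1)
      (by rw [h128, card_ker T ψ hψ])
    rw [← he] at hb
    exact hb.2.1 a ha
  have hA : cInv ψ ≤ ψ.ker := fun _ h => h.1
  have hcm : ∀ r ∈ ψ.ker, ∀ s ∈ ψ.ker, r * s * r⁻¹ * s⁻¹ ∈ cInv ψ := by
    intro r hr s hs
    have h1 := squares_mem T ψ hψ h16 (mul_mem hr hs)
    have h2 := (cInv ψ).inv_mem (squares_mem T ψ hψ h16 hr)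
    have h3 := (cInv ψ).inv_mem (squares_mem T ψ hψ h16 hs)
    have e2 : r * s * r⁻¹ * s⁻¹ = (r * s * (r * s)) * (r * r)⁻¹ * (s * s)⁻¹ := by
      have k : (r * s * r⁻¹ * s⁻¹) * (s * s) * (r * r) = r * s * (r * s) := by
        have q2 := (squares_mem T ψ hψ h16 hr).2.1 s hs
        calc (r * s * r⁻¹ * s⁻¹) * (s * s) * (r * r) = r * s * r⁻¹ * (s * (r * r)) := by group
          _ = r * s * r⁻¹ * (r * r * s) := by rw [q2]
          _ = r * s * (r * s) := by group
      calc r * s * r⁻¹ * s⁻¹ = (r * s * r⁻¹ * s⁻¹) * (s * s) * (r * r) * ((r * r)⁻¹ * (s * s)⁻¹) :=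
            by group
        _ = _ := by rw [k, mul_assoc (r * s * (r * s))]
    rw [e2]
    exact mul_mem (mul_mem h1 h2) h3
  let DM : SecData ψ := dataM T ψ hψ hcm
  let DA : SecData ψ := dataA T ψ hψ
  have hM8 : Nat.card DM.sec = 8 := by
    have := DM.card_mul
    rw [show Nat.card DM.N = 16 from h16, show Nat.card DM.S = 128 from card_ker T ψ hψ] at this
    omega
  have hA8 : Nat.card DA.sec = 8 := by
    have := DA.card_mul
    rw [show Nat.card DA.N = 2 from card_zsub T, show Nat.card DA.S = 16 from h16] at this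
    omega
  have hM2 : ∀ c : DM.sec, c * c = 1 := by
    intro c
    obtain ⟨s, hs, rfl⟩ := DM.cls_surj c
    rw [DM.cls_mul, DM.cls_eq_one]
    exact squares_mem T ψ hψ h16 hs
  have hA2 : ∀ c : DA.sec, c * c = 1 := by
    intro c
    obtain ⟨s, hs, rfl⟩ := DA.cls_surj c
    rw [DA.cls_mul, DA.cls_eq_one, show s * s = 1 from hs.2.2]
    exact one_mem _
  have hMfree := DM.free T ψ hψ
  obtain ⟨θ, F, hF0, hFb, hF⟩ := coord_eight (DM.act hψ) hMfree hM8
  have hFadd : ∀ x y, F (x + y) = F x * F y :=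
    lin_eight ((DM.act hψ).comp θ.toMonoidHom) (free_comp _ hMfree θ) hM2 hM8 F hF0
      (fun h => e0_ne (hFb.1 (h.trans hF0.symm))) hF
  choose rep hrepS hrep using fun x : V3 => DM.cls_surj (F x)
  have hsq : ∀ x, rep x * rep x ∈ DA.S := fun x => squares_mem T ψ hψ h16 (hrepS x)
  let F2 : V3 → DA.sec := fun x => DA.cls (rep x * rep x) (hsq x)
  -- squares depend on the class only
  have hcl : ∀ r s, r ∈ ψ.ker → r⁻¹ * s ∈ cInv ψ → s * s = r * r := by
    intro r s hr hrs
    obtain ⟨n, hn, rfl⟩ : ∃ n ∈ cInv ψ, s = r * n := ⟨r⁻¹ * s, hrs, (mul_inv_cancel_left r s).symm⟩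
    calc r * n * (r * n) = r * (n * r) * n := by group
      _ = r * (r * n) * n := by rw [hn.2.1 r hr]
      _ = r * r * (n * n) := by group
      _ = _ := by rw [hn.2.2, mul_one]
  have hF2 : ∀ x y, F2 (app x y) = ((DA.act hψ).comp θ.toMonoidHom) x (F2 y) := by
    intro x y
    obtain ⟨h, hh⟩ := hψ (θ x)
    have h1 : DM.cls (rep (app x y)) (hrepS _) = DM.act0 h (DM.cls (rep y) (hrepS _)) := by
      rw [hrep, hrep, hF, ← hh, DM.act_apply]
    rw [DM.act0_cls, DM.cls_eq] at h1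
    have h2 := hcl _ _ (hrepS _) h1
    show DA.cls _ _ = DA.act hψ (θ x) (DA.cls _ _)
    rw [← hh, DA.act_apply]
    refine Eq.trans ((DA.cls_eq _ _).2 ?_) (DA.act0_cls h (hsq y)).symm
    have e : h * (rep y * rep y) * h⁻¹ = h * rep y * h⁻¹ * (h * rep y * h⁻¹) := by group
    rw [e, h2, inv_mul_cancel]
    exact one_mem _
  have hAfree := free_comp _ (DA.free T ψ hψ) θ
  have hF20 : F2 0 = 1 := by
    have h := hrep 0
    rw [hF0, DM.cls_eq_one] at h
    exact (DA.cls_eq_one _).2 ((show rep 0 * rep 0 = 1 from h.2.2).symm ▸ one_mem _)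
  have hF2add : ∀ x y, F2 (x + y) = F2 x * F2 y := by
    by_cases he : F2 e0 = 1
    · have hall : ∀ x, F2 x = 1 := by
        intro x
        by_cases hx : x = 0
        · rw [hx, hF20]
        · obtain ⟨y, rfl⟩ := app_trans e0_ne hx
          rw [hF2, he, map_one]
      intro x y
      rw [hall, hall, hall, one_mul]
    · exact lin_eight _ hAfree hA2 hA8 F2 hF20 he hF2
  -- every element is a representative times a central involution
  have hdec : ∀ r ∈ ψ.ker, ∃ x, (rep x)⁻¹ * r ∈ cInv ψ := by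
    intro r hr
    obtain ⟨x, hx⟩ := hFb.2 (DM.cls r hr)
    exact ⟨x, (DM.cls_eq (hrepS x) hr).1 ((hrep x).trans hx)⟩
  have hadd : ∀ x y, (rep (x + y))⁻¹ * (rep x * rep y) ∈ cInv ψ := by
    intro x y
    refine (DM.cls_eq (hrepS _) (mul_mem (hrepS x) (hrepS y))).1 ?_
    rw [← DM.cls_mul (hrepS x) (hrepS y), hrep, hrep, hrep, hFadd]
  have hdz : ∀ x y, rep y * rep x * (rep y)⁻¹ * (rep x)⁻¹ ∈ zsub z := by
    intro x y
    have h1 := hF2add x y
    simp only [F2] at h1
    rw [DA.cls_mul, DA.cls_eq] at h1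
    have h2 := hcl _ _ (hrepS _) (hadd x y)
    rw [← h2] at h1
    have e : rep y * rep x * (rep y)⁻¹ * (rep x)⁻¹ =
        rep x * (rep y * rep y) * (((rep x * rep y) * (rep x * rep y))⁻¹ *
          (rep x * rep x * (rep y * rep y)))⁻¹ * (rep x * (rep y * rep y))⁻¹ := by
      group
    rw [e]
    exact (zsub_normal (z := z)).conj_mem _ ((zsub z).inv_mem h1) _
  let δ := fun x y : ↥(centralizer ({z} : Set G)) => x * y * x⁻¹ * y⁻¹
  have hδA : ∀ r s n m, r ∈ ψ.ker → s ∈ ψ.ker → n ∈ cInv ψ → m ∈ cInv ψ →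
      δ (r * n) (s * m) = δ r s := by
    intro r s n m hr hs hn hm
    have c1 : ∀ t ∈ ψ.ker, n * t * n⁻¹ = t := fun t ht => by
      rw [← hn.2.1 t ht, mul_inv_cancel_right]
    have c2 : ∀ t ∈ ψ.ker, m * t * m⁻¹ = t := fun t ht => by
      rw [← hm.2.1 t ht, mul_inv_cancel_right]
    show r * n * (s * m) * (r * n)⁻¹ * (s * m)⁻¹ = r * s * r⁻¹ * s⁻¹
    calc r * n * (s * m) * (r * n)⁻¹ * (s * m)⁻¹
        = r * (n * (s * m) * n⁻¹) * r⁻¹ * m⁻¹ * s⁻¹ := by group
      _ = r * s * (m * r⁻¹ * m⁻¹) * s⁻¹ := by rw [c1 _ (mul_mem hs (hA hm))]; group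
      _ = _ := by rw [c2 _ (inv_mem hr)]
  have hconst : ∀ x y x' y' : V3, x ≠ 0 → y ≠ 0 → x ≠ y → x' ≠ 0 → y' ≠ 0 → x' ≠ y' →
      δ (rep x') (rep y') = δ (rep x) (rep y) := by
    intro x y x' y' hx hy hxy hx' hy' hxy'
    obtain ⟨t, rfl, rfl⟩ := app_pairs hx hy hxy hx' hy' hxy'
    obtain ⟨h, hh⟩ := hψ (θ t)
    have key : ∀ u, ∃ n ∈ cInv ψ, rep (app t u) = h * rep u * h⁻¹ * n := by
      intro u
      have h1 : DM.act0 h (DM.cls (rep u) (hrepS _)) = DM.cls (rep (app t u)) (hrepS _) := by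
        rw [hrep, hrep, hF, ← hh, DM.act_apply]
      rw [DM.act0_cls, DM.cls_eq] at h1
      exact ⟨_, h1, (mul_inv_cancel_left _ _).symm⟩
    obtain ⟨n, hn, en⟩ := key x
    obtain ⟨m, hm, em⟩ := key y
    rw [en, em, hδA _ _ _ _ ((inferInstance : ψ.ker.Normal).conj_mem _ (hrepS x) h)
      ((inferInstance : ψ.ker.Normal).conj_mem _ (hrepS y) h) hn hm]
    have hz' := hdz y x
    rcases mem_zsub T hz' with e | e
    · have : δ (rep x) (rep y) = 1 := e
      calc δ (h * rep x * h⁻¹) (h * rep y * h⁻¹) = h * δ (rep x) (rep y) * h⁻¹ := by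
            simp only [δ]; group
        _ = δ (rep x) (rep y) := by rw [this]; group
    · have : δ (rep x) (rep y) = zc z := e
      calc δ (h * rep x * h⁻¹) (h * rep y * h⁻¹) = h * δ (rep x) (rep y) * h⁻¹ := by
            simp only [δ]; group
        _ = δ (rep x) (rep y) := by rw [this, zc_comm h, mul_inv_cancel_right]
  obtain ⟨n1, n2, n3, n4, n5, n6, n7, n8⟩ :
      (![1, 0, 0] : V3) ≠ 0 ∧ (![0, 1, 0] : V3) ≠ 0 ∧ (![0, 0, 1] : V3) ≠ 0 ∧
      (![1, 0, 0] : V3) ≠ ![0, 1, 0] ∧ (![1, 0, 0] : V3) ≠ ![0, 0, 1] ∧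
      (![1, 0, 0] : V3) ≠ ![0, 1, 0] + ![0, 0, 1] ∧ (![0, 1, 0] : V3) + ![0, 0, 1] ≠ 0 ∧
      (![0, 1, 0] : V3) ≠ ![0, 0, 1] := by decide +kernel
  have hone : δ (rep ![1, 0, 0]) (rep ![0, 1, 0]) = 1 := by
    have e1 := hconst _ _ _ _ n1 n2 n4 n1 n3 n5
    have e2 := hconst _ _ _ _ n1 n2 n4 n1 n7 n6
    set A' := rep ![1, 0, 0]
    set B := rep ![0, 1, 0]
    set C := rep ![0, 0, 1]
    have h3 : δ A' (B * C) = δ A' (rep (![0, 1, 0] + ![0, 0, 1])) := by
      have h := hadd ![0, 1, 0] ![0, 0, 1]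
      have e : B * C = rep (![0, 1, 0] + ![0, 0, 1]) *
          ((rep (![0, 1, 0] + ![0, 0, 1]))⁻¹ * (B * C)) := (mul_inv_cancel_left _ _).symm
      have := hδA A' (rep (![0, 1, 0] + ![0, 0, 1])) 1 _ (hrepS _) (hrepS _) (one_mem _) h
      rwa [mul_one, ← e] at this
    have h4 : δ A' (B * C) = δ A' B * (B * δ A' C * B⁻¹) := by simp only [δ]; group
    have h5 : B * δ A' C * B⁻¹ = δ A' C := by
      rcases mem_zsub T (show δ A' C ∈ zsub z from hdz _ _) with e | e
      · rw [e]; group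
      · rw [e, zc_comm B, mul_inv_cancel_right]
    rw [h3, e2, h5, e1] at h4
    exact mul_eq_left.1 h4.symm
  have hall : ∀ x y, δ (rep x) (rep y) = 1 := by
    intro x y
    by_cases hx : x = 0
    · subst hx
      have h := hrep 0
      rw [hF0, DM.cls_eq_one] at h
      have := hδA 1 (rep y) (rep 0) 1 (one_mem _) (hrepS _) h (one_mem _)
      simp only [one_mul, mul_one] at this
      rw [this]; simp [δ]
    by_cases hy : y = 0
    · subst hy
      have h := hrep 0
      rw [hF0, DM.cls_eq_one] at h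
      have := hδA (rep x) 1 1 (rep 0) (hrepS _) (one_mem _) (one_mem _) h
      simp only [one_mul, mul_one] at this
      rw [this]; simp [δ]
    by_cases hxy : x = y
    · subst hxy; simp [δ]
    rw [hconst _ _ _ _ n1 n2 n4 hx hy hxy, hone]
  obtain ⟨x, hx⟩ := hdec a ha
  obtain ⟨y, hy⟩ := hdec b hb
  have h := hδA (rep x) (rep y) _ _ (hrepS x) (hrepS y) hx hy
  rw [mul_inv_cancel_left, mul_inv_cancel_left, hall] at h
  exact (commutatorElement_eq_one_iff_mul_comm (g₁ := a) (g₂ := b)).1 h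

include hψ T in
/-- a normal subgroup of order `16` of central involutions containing `z` -/
theorem exists_sixteen {w : ↥(centralizer ({z} : Set G))} (hw : w ∈ cInv ψ) (hw1 : w ≠ 1)
    (hwz : w ≠ zc z) : ∃ A : Subgroup ↥(centralizer ({z} : Set G)),
      A.Normal ∧ zc z ∈ A ∧ A ≤ cInv ψ ∧ Nat.card A = 16 := by
  rcases card_cInv T ψ hψ hw hw1 hwz with h16 | h128
  · exact ⟨_, inferInstance, zc_mem_cInv T ψ hψ, le_rfl, h16⟩
  let D : SecData ψ := dataA T ψ hψ
  have h64 : Nat.card D.sec = 64 := by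
    have := D.card_mul
    rw [show Nat.card D.N = 2 from card_zsub T, show Nat.card D.S = 128 from h128] at this
    omega
  have h2 : ∀ c : D.sec, c * c = 1 := by
    intro c
    obtain ⟨s, hs, rfl⟩ := D.cls_surj c
    rw [D.cls_mul, D.cls_eq_one, show s * s = 1 from hs.2.2]
    exact one_mem _
  obtain ⟨S, hS, hinv⟩ := exists_inv_eight (D.act hψ) (D.free T ψ hψ) h2 h64
  let A : Subgroup ↥(centralizer ({z} : Set G)) :=
    (S.map D.sec.subtype).comap (QuotientGroup.mk' D.N)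
  have hle : A ≤ cInv ψ := by
    intro a ha
    obtain ⟨⟨c, s, hs, hsc⟩, -, hac⟩ := ha
    have h : QuotientGroup.mk' D.N s = QuotientGroup.mk' D.N a := hsc.trans hac
    rw [QuotientGroup.mk'_apply, QuotientGroup.mk'_apply, QuotientGroup.eq] at h
    have := (cInv ψ).mul_mem hs (zsub_le_cInv T ψ hψ h)
    rwa [mul_inv_cancel_left] at this
  have hNA : zsub z ≤ A := fun n hn => by
    refine ⟨1, S.one_mem, ?_⟩
    exact ((QuotientGroup.eq_one_iff n).2 hn).symm
  have hAn : A.Normal := by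
    refine ⟨fun a ha g => ?_⟩
    obtain ⟨c, hc, hac⟩ := ha
    refine ⟨D.act hψ (ψ g) c, hinv _ c hc, ?_⟩
    rw [D.act_apply]
    show QuotientGroup.mk' D.N g * c.1 * (QuotientGroup.mk' D.N g)⁻¹ = _
    rw [show c.1 = QuotientGroup.mk' D.N a from hac, map_mul, map_mul, map_inv]
  refine ⟨A, hAn, hNA zc_mem_zsub, hle, ?_⟩
  let D' : SecData ψ :=
    { N := zsub z, S := A, nN := inferInstance, nS := hAn, zN := zc_mem_zsub, le := hNA,
      leR := fun a ha => (hle ha).1
      cm := fun r hr s hs => by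
        rw [(hle hs).2.1 r hr, mul_inv_cancel_right, mul_inv_cancel]; exact one_mem _ }
  have h := D'.card_mul
  have he : D'.sec = S.map D.sec.subtype :=
    Subgroup.map_comap_eq_self_of_surjective (QuotientGroup.mk'_surjective _) _
  have hc : Nat.card D'.sec = 8 := by
    rw [← hS]
    exact (congrArg (fun K : Subgroup _ => Nat.card K) he).trans
      (Subgroup.card_map_of_injective D.sec.subtype_injective)
  rw [hc, show Nat.card D'.N = 2 from card_zsub T] at h
  exact h.symm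

end CfsgLib.M24Nse
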