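import Cfsg.Agent.Lib.M24Nse.CentreSquares

/-!
# A further central involution is not in the class of `v`
-/

set_option autoImplicit false
set_option maxRecDepth 100000
set_option synthInstance.maxSize 1000
set_option linter.style.haveILetI false
set_option linter.unusedSectionVars false

namespace CfsgLib.M24Nse

open Subgroup

universe u

variable {G : Type u} [Group G] [Finite G] {z v : G} (T : Two z v)
  (ψ : ↥(centralizer ({z} : Set G)) →* S32) (hψ : Function.Surjective ψ)

/-- the section of a subgroup of central involutions over `z` -/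
noncomputable def dataSub {A : Subgroup ↥(centralizer ({z} : Set G))} (hAn : A.Normal)
    (hzA : zc z ∈ A) (hA : A ≤ cInv ψ) : SecData ψ where
  N := zsub z
  S := A
  nN := inferInstance
  nS := hAn
  zN := zc_mem_zsub
  le := zpowers_le.2 hzA
  leR := fun _ h => (hA h).1
  cm := fun r hr s hs => by
    rw [(hA hs).2.1 r hr, mul_inv_cancel_right, mul_inv_cancel]; exact one_mem _

include hψ T in
/-- The stabiliser of an element outside `z` in a subgroup of order `16` of central involutions. -/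
theorem stab_facts {A : Subgroup ↥(centralizer ({z} : Set G))} (hAn : A.Normal)
    (hzA : zc z ∈ A) (hA : A ≤ cInv ψ) (h16 : Nat.card A = 16)
    {w : ↥(centralizer ({z} : Set G))} (hw : w ∈ A) (hwz : w ∉ zsub z) :
    (Nat.card (centralizer ({w} : Set ↥(centralizer ({z} : Set G)))) = 1536 ∨
      Nat.card (centralizer ({w} : Set ↥(centralizer ({z} : Set G)))) = 3072) ∧
      ∃ e : ↥(centralizer ({z} : Set G)), orderOf e = 3 ∧ ψ e ≠ 1 ∧ e * w = w * e := by
  let D : SecData ψ := dataSub ψ hAn hzA hA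
  have h8 : Nat.card D.sec = 8 := by
    have := D.card_mul
    rw [show Nat.card D.N = 2 from card_zsub T, show Nat.card D.S = 16 from h16] at this
    omega
  have hw' : w ∈ D.S := hw
  have hc1 : D.cls w hw' ≠ 1 := fun h => hwz ((D.cls_eq_one hw').1 h)
  have hfree := D.free T ψ hψ
  have ho := orb_eight (D.act hψ) hfree h8 hc1
  have hK : Nat.card (stabOf (D.act hψ) (D.cls w hw')) = 24 := by
    have := card_orb (D.act hψ) (D.cls w hw')
    rw [ho] at this
    omega
  constructor
  · -- the centraliser of `w`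
    have hle : centralizer ({w} : Set ↥(centralizer ({z} : Set G))) ≤ (stabOf (D.act hψ) (D.cls w hw')).comap ψ := by
      intro x hx
      show D.act hψ (ψ x) (D.cls w hw') = D.cls w hw'
      rw [D.act_apply]
      refine Eq.trans (D.act0_cls x hw') ?_
      rw [D.cls_eq]
      rw [mem_centralizer_singleton_iff] at hx
      rw [hx, mul_inv_cancel_right, inv_mul_cancel]
      exact one_mem _
    have h7 : ((stabOf (D.act hψ) (D.cls w hw')).comap ψ).index = 7 := by
      rw [Subgroup.index_comap_of_surjective _ hψ]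
      have := (stabOf (D.act hψ) (D.cls w hw')).index_mul_card
      rw [hK, card_S32] at this
      omega
    have hdvd := Subgroup.index_dvd_of_le hle
    rw [h7] at hdvd
    have h14 : (centralizer ({w} : Set ↥(centralizer ({z} : Set G)))).index ≤ 14 := by
      have hsub : (zsub z : Set ↥(centralizer ({z} : Set G))) ⊆ (A : Set _) :=
        fun x hx => (show zsub z ≤ A from zpowers_le.2 hzA) hx
      have hout : ∀ q : ↥(centralizer ({z} : Set G)) ⧸ centralizer ({w} : Set _),
          q.out * w * q.out⁻¹ ∈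
            (A : Set ↥(centralizer ({z} : Set G))) \ (zsub z : Set _) := by
        intro q
        refine ⟨hAn.conj_mem w hw _, fun hx => hwz ?_⟩
        have h := (zsub_normal (z := z)).conj_mem _ hx q.out⁻¹
        have e : q.out⁻¹ * (q.out * w * q.out⁻¹) * q.out⁻¹⁻¹ = w := by group
        exact e ▸ h
      rw [Subgroup.index_eq_card]
      have hle14 := Nat.card_le_card_of_injective
        (fun q => (⟨_, hout q⟩ :
          ↑((A : Set ↥(centralizer ({z} : Set G))) \ (zsub z : Set _)))) (fun p q hpq => by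
        have h : p.out * w * p.out⁻¹ = q.out * w * q.out⁻¹ := congrArg Subtype.val hpq
        rw [← p.out_eq', ← q.out_eq', QuotientGroup.eq, mem_centralizer_singleton_iff]
        calc p.out⁻¹ * q.out * w = p.out⁻¹ * (q.out * w * q.out⁻¹) * q.out := by group
          _ = p.out⁻¹ * (p.out * w * p.out⁻¹) * q.out := by rw [h]
          _ = _ := by group)
      refine hle14.trans ?_
      rw [Nat.card_coe_set_eq, Set.ncard_sdiff hsub (Set.toFinite _),
        ← Nat.card_coe_set_eq, ← Nat.card_coe_set_eq]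
      show Nat.card A - Nat.card (zsub z) ≤ 14
      rw [h16, card_zsub T]
    have hpos : 0 < (centralizer ({w} : Set ↥(centralizer ({z} : Set G)))).index := Nat.pos_of_ne_zero Subgroup.index_ne_zero_of_finite
    have hmul := (centralizer ({w} : Set ↥(centralizer ({z} : Set G)))).index_mul_card
    rw [T.cardz] at hmul
    obtain ⟨k, hk⟩ := hdvd
    rw [hk] at h14 hpos hmul
    have : k = 1 ∨ k = 2 := by omega
    rcases this with rfl | rfl <;> omega
  · haveI : Fact (Nat.Prime 3) := ⟨Nat.prime_three⟩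
    obtain ⟨a, ha⟩ := exists_prime_orderOf_dvd_card' (G := stabOf (D.act hψ) (D.cls w hw')) 3
      (by rw [hK]; norm_num)
    have ha3 : (a : S32) ^ 3 = 1 := by
      have h := pow_orderOf_eq_one a
      rw [ha] at h
      exact congrArg Subtype.val h
    obtain ⟨g, hg⟩ := hψ a
    have hg3 : g ^ 3 ∈ ψ.ker := by rw [MonoidHom.mem_ker, map_pow, hg, ha3]
    have h128 : (g ^ 3) ^ 128 = 1 := by
      have h := pow_card_eq_one' (x := (⟨g ^ 3, hg3⟩ : ψ.ker))
      rw [card_ker T ψ hψ] at h
      exact congrArg Subtype.val h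
    have hψe : ψ (g ^ 256) = a := by
      rw [map_pow, hg, show 256 = 3 * 85 + 1 by norm_num, pow_add, pow_mul, ha3, one_pow, one_mul,
        pow_one]
    have hne : (a : S32) ≠ 1 := fun h => by
      rw [Subtype.ext h (a2 := (1 : stabOf (D.act hψ) (D.cls w hw'))), orderOf_one] at ha
      omega
    have he3 : orderOf (g ^ 256) = 3 := by
      refine orderOf_eq_prime ?_ (fun h => hne (by rw [← hψe, h, map_one]))
      rw [← pow_mul, show 256 * 3 = 3 * 128 * 2 by norm_num, pow_mul, pow_mul, h128, one_pow]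
    refine ⟨g ^ 256, he3, fun h => hne (hψe ▸ h), ?_⟩
    have hst : D.act hψ (ψ (g ^ 256)) (D.cls w hw') = D.cls w hw' := by rw [hψe]; exact a.2
    rw [D.act_apply] at hst
    have hcl := (D.cls_eq _ hw').1 ((D.act0_cls (g ^ 256) hw').symm.trans hst)
    set e := g ^ 256
    rcases mem_zsub T hcl with h | h
    · have : e * w * e⁻¹ = w := inv_mul_eq_one.1 h
      exact mul_inv_eq_iff_eq_mul.1 this
    · exfalso
      have h1 : e * w * e⁻¹ = w * zc z := by
        have := congrArg (fun x => e * w * e⁻¹ * x) h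
        simp only [mul_inv_cancel_left] at this
        have hzz := zc_sq T
        calc e * w * e⁻¹ = e * w * e⁻¹ * (zc z * zc z) := by rw [hzz, mul_one]
          _ = e * w * e⁻¹ * zc z * zc z := by group
          _ = w * zc z := by rw [← this]
      have he : e ^ 3 = 1 := by rw [← he3, pow_orderOf_eq_one]
      have hcz : ∀ x : ↥(centralizer ({z} : Set G)), x * zc z * x⁻¹ = zc z := fun x => by
        rw [zc_comm x, mul_inv_cancel_right]
      have h2 : e ^ 2 * w * (e ^ 2)⁻¹ = w := by
        calc e ^ 2 * w * (e ^ 2)⁻¹ = e * (e * w * e⁻¹) * e⁻¹ := by rw [pow_two]; group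
          _ = e * (w * zc z) * e⁻¹ := by rw [h1]
          _ = (e * w * e⁻¹) * (e * zc z * e⁻¹) := by group
          _ = w := by rw [h1, hcz, mul_assoc, zc_sq T, mul_one]
      have h3 : e ^ 3 * w * (e ^ 3)⁻¹ = w * zc z := by
        calc e ^ 3 * w * (e ^ 3)⁻¹ = e * (e ^ 2 * w * (e ^ 2)⁻¹) * e⁻¹ := by group
          _ = w * zc z := by rw [h2, h1]
      rw [he, one_mul, inv_one, mul_one] at h3
      exact zc_ne_one T (mul_eq_left.1 h3.symm)

theorem perm_five {α : Type*} [Finite α] (hα : Nat.card α = 5) (x0 : α) (a g : Equiv.Perm α)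
    (ha0 : a x0 = x0) (ha3 : a ^ 3 = 1) (ha1 : a ≠ 1) (hg0 : g x0 = x0) (hag : g * a = a * g)
    (hg8 : g ^ 8 = 1) : g = 1 := by
  classical
  have key : ∀ a : Equiv.Perm (Fin 5), a 0 = 0 → a * a * a = 1 → a ≠ 1 →
      ∀ g : Equiv.Perm (Fin 5), g 0 = 0 → g * a = a * g →
      g * g * g * g = 1 → g = 1 := by decide +kernel
  let q0 := Finite.equivFinOfCardEq hα
  let q := q0.trans (Equiv.swap (q0 x0) 0)
  have hq : q x0 = 0 := Equiv.swap_apply_left (q0 x0) 0
  have hq' : q.symm 0 = x0 := q.symm_apply_eq.2 hq.symm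
  let Φ := q.permCongrHom
  have hΦ0 : ∀ t : Equiv.Perm α, t x0 = x0 → Φ t 0 = 0 := by
    intro t ht
    show q (t (q.symm 0)) = 0
    rw [hq', ht, hq]
  have hA3 : Φ a * Φ a * Φ a = 1 := by
    rw [← map_mul, ← map_mul, show a * a * a = a ^ 3 from by rw [pow_succ, pow_two], ha3, map_one]
  have hA1 : Φ a ≠ 1 := fun h => ha1 (Φ.injective (h.trans (map_one _).symm))
  have h2 : g * g = 1 := by
    refine Φ.injective ((key (Φ a) (hΦ0 a ha0) hA3 hA1 (Φ (g * g)) (hΦ0 _ ?_) ?_ ?_).trans
      (map_one _).symm)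
    · show g (g x0) = x0
      rw [hg0, hg0]
    · rw [← map_mul, ← map_mul, mul_assoc, hag, ← mul_assoc, hag, mul_assoc]
    · rw [← map_mul, ← map_mul, ← map_mul, show g * g * (g * g) * (g * g) * (g * g) = g ^ 8 from by
        simp only [pow_succ, pow_zero, one_mul, mul_assoc], hg8, map_one]
  refine Φ.injective ((key (Φ a) (hΦ0 a ha0) hA3 hA1 (Φ g) (hΦ0 _ hg0) ?_ ?_).trans
    (map_one _).symm)
  · rw [← map_mul, ← map_mul, hag]
  · rw [← map_mul, ← map_mul, ← map_mul, h2, one_mul, h2, map_one]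

include T in
theorem card_twenty {w : G} (hw2 : orderOf w = 2) (q : G) (hq : orderOf q = 5)
    (hqw : Commute q w) :
    Nat.card (centralizer ({q} : Set G) ⊓ centralizer ({w} : Set G) : Subgroup G) = 20 := by
  rw [← T.counts.cent52 q w hq hw2 hqw]
  exact Nat.card_congr
    { toFun := fun x => ⟨x.1, (mem_cent.1 x.2.1).symm, (mem_cent.1 x.2.2).symm⟩
      invFun := fun y => ⟨y.1, mem_cent.2 y.2.1.eq.symm, mem_cent.2 y.2.2.eq.symm⟩
      left_inv := fun x => rfl
      right_inv := fun y => rfl }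

include T in
theorem three_not_dvd {w : G} (hw2 : orderOf w = 2)
    (hC : Nat.card (centralizer ({w} : Set G)) = 7680)
    (K : Subgroup ↥(centralizer ({w} : Set G))) [K.Normal] (hKdvd : Nat.card K ∣ 1536) :
    ¬ 3 ∣ Nat.card K := by
  classical
  haveI hK5 : Fact (Nat.Prime 5) := ⟨by norm_num⟩
  have h5K : ¬ 5 ∣ Nat.card K := fun h => by
    have := h.trans hKdvd
    norm_num at this
  intro h3
  haveI : Fact (Nat.Prime 3) := ⟨Nat.prime_three⟩
  obtain ⟨P⟩ := (inferInstance : Nonempty (Sylow 3 K))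
  have hP : Nat.card P = 3 := by
    obtain ⟨n, hn⟩ := IsPGroup.iff_card.1 P.isPGroup'
    have hd : 3 ^ n ∣ 1536 := hn ▸ (Subgroup.card_subgroup_dvd_card (P : Subgroup K)).trans hKdvd
    have hn0 : n ≠ 0 := by
      intro h0
      have := P.dvd_card_of_dvd_card h3
      rw [hn, h0] at this
      norm_num at this
    have : n = 1 := by
      by_contra hne
      have : 3 ^ 2 ∣ 1536 := (pow_dvd_pow 3 (show 2 ≤ n by omega)).trans hd
      norm_num at this
    rw [hn, this, pow_one]
  set N := normalizer (((P : Subgroup K).map K.subtype : Subgroup (centralizer ({w} : Set G))) : Set (centralizer ({w} : Set G))) with hN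
  have htop : N ⊔ K = ⊤ := Sylow.normalizer_sup_eq_top P
  have h5N : 5 ∣ Nat.card N := by
    have h1 : K.index ∣ Nat.card N := by
      rw [← Subgroup.relIndex_top_right K, ← htop, Subgroup.relIndex_sup_right]
      exact (K.subgroupOf N).index_dvd_card
    refine Dvd.dvd.trans ?_ h1
    have h2 : 5 ∣ K.index * Nat.card K := by
      rw [Subgroup.index_mul_card, hC]; norm_num
    exact (Nat.Prime.dvd_mul (by norm_num)).1 h2 |>.resolve_right h5K
  obtain ⟨q, hq⟩ := exists_prime_orderOf_dvd_card' 5 h5N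
  have hqG : orderOf q.1.1 = 5 := by rw [Subgroup.orderOf_coe, Subgroup.orderOf_coe, hq]
  obtain ⟨y, hy⟩ := exists_prime_orderOf_dvd_card' (G := (P : Subgroup K)) 3 (dvd_of_eq hP.symm)
  have hy' : orderOf y.1.1 = 3 := by rw [Subgroup.orderOf_coe, Subgroup.orderOf_coe, hy]
  set P' := (P : Subgroup K).map K.subtype with hP'
  have hP'c : Nat.card P' = 3 := by
    rw [hP', Subgroup.card_map_of_injective K.subtype_injective]; exact hP
  have hyP : y.1.1 ∈ P' := ⟨y.1, y.2, rfl⟩
  have hzp : zpowers y.1.1 = P' := Subgroup.eq_of_le_of_card_ge (zpowers_le.2 hyP)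
    (by rw [hP'c, Nat.card_zpowers, hy'])
  have hconj : q.1 * y.1.1 * q.1⁻¹ ∈ zpowers y.1.1 := by
    rw [hzp]
    exact (Subgroup.mem_normalizer_iff.1 q.2 _).1 hyP
  obtain ⟨k, hk⟩ := (mem_zpowers_iff_mem_range_orderOf.1 hconj) |> Finset.mem_image.1
  rw [hy', Finset.mem_range] at hk
  have hcomm : q.1 * y.1.1 = y.1.1 * q.1 := by
    obtain ⟨hk3, hk⟩ := hk
    have hstep : ∀ n : ℕ, q.1 ^ n * y.1.1 * (q.1 ^ n)⁻¹ = y.1.1 ^ (k ^ n) := by
      intro n
      induction n with
      | zero => simp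
      | succ n ih =>
        calc q.1 ^ (n + 1) * y.1.1 * (q.1 ^ (n + 1))⁻¹
            = q.1 * (q.1 ^ n * y.1.1 * (q.1 ^ n)⁻¹) * q.1⁻¹ := by rw [pow_succ']; group
          _ = (q.1 * y.1.1 * q.1⁻¹) ^ (k ^ n) := by rw [ih, conj_pow]
          _ = _ := by rw [← hk, ← pow_mul, pow_succ']
    have h5 := hstep 5
    have hq5 : q.1 ^ 5 = 1 := by
      rw [← hq, ← Subgroup.orderOf_coe, pow_orderOf_eq_one]
    rw [hq5, one_mul, inv_one, mul_one] at h5
    nth_rw 1 [← pow_one y.1.1] at h5
    rw [pow_eq_pow_iff_modEq, hy'] at h5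
    interval_cases k
    · exact absurd h5 (by decide)
    · rw [pow_one] at hk
      exact mul_inv_eq_iff_eq_mul.1 hk.symm
    · exact absurd h5 (by decide)
  have hqw : Commute q.1.1 w := mem_cent.1 q.1.2
  have h20 := card_twenty T hw2 q.1.1 hqG hqw
  have hmem : y.1.1.1 ∈ centralizer ({q.1.1} : Set G) ⊓ (centralizer ({w} : Set G)) :=
    ⟨mem_cent.2 (congrArg Subtype.val hcomm).symm, y.1.1.2⟩
  have hd := orderOf_dvd_natCard (⟨_, hmem⟩ : (centralizer ({q.1.1} : Set G) ⊓ (centralizer ({w} : Set G)) : Subgroup G))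
  rw [h20, ← Subgroup.orderOf_coe] at hd
  change orderOf y.1.1.1 ∣ 20 at hd
  rw [Subgroup.orderOf_coe, hy'] at hd
  norm_num at hd

include T in
theorem card_kernel {w : G} (hw2 : orderOf w = 2)
    (hC : Nat.card (centralizer ({w} : Set G)) = 7680)
    (K : Subgroup ↥(centralizer ({w} : Set G))) [K.Normal] (hKdvd : Nat.card K ∣ 1536)
    (hwK : (⟨w, mem_cent.2 rfl⟩ : ↥(centralizer ({w} : Set G))) ∈ K) (n : ℕ) (hr120 : n ∣ 120)
    (hrK : n * Nat.card K = 7680) : Nat.card K = 64 := by
  classical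
  haveI hK5 : Fact (Nat.Prime 5) := ⟨by norm_num⟩
  have h3K : ¬ 3 ∣ Nat.card K := three_not_dvd T hw2 hC K hKdvd
  -- the kernel
  obtain ⟨f, hf⟩ := exists_prime_orderOf_dvd_card' (G := (centralizer ({w} : Set G))) 5 (by rw [hC]; norm_num)
  have hfG : orderOf f.1 = 5 := by rw [Subgroup.orderOf_coe, hf]
  have hfw : Commute f.1 w := mem_cent.1 f.2
  let CK : Subgroup (centralizer ({w} : Set G)) := K ⊓ centralizer {f}
  have hCK20 : Nat.card CK ∣ 20 := by
    rw [← card_twenty T hw2 f.1 hfG hfw, ← (Nat.card_congr (CK.equivMapOfInjective (centralizer ({w} : Set G)).subtype (centralizer ({w} : Set G)).subtype_injective).toEquiv).symm]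
    refine Subgroup.card_dvd_of_le ?_
    rintro _ ⟨x, hx, rfl⟩
    exact ⟨mem_cent.2 (congrArg Subtype.val (mem_centralizer_singleton_iff.1 hx.2)), x.2⟩
  have hKpow : Nat.card K ∣ 2 ^ 9 := by
    have hco : Nat.Coprime (Nat.card K) 3 :=
      ((Nat.prime_three.coprime_iff_not_dvd).2 h3K).symm
    exact hco.dvd_of_dvd_mul_right (by rw [show 2 ^ 9 * 3 = 1536 by norm_num]; exact hKdvd)
  have hCK2 : 2 ≤ Nat.card CK := by
    haveI : Nontrivial CK := ⟨⟨⟨_, hwK, mem_centralizer_singleton_iff.2
      (Subtype.ext hfw.eq.symm)⟩, 1, fun h => by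
        have h1 : w = 1 := congrArg (fun x : CK => x.1.1) h
        rw [h1, orderOf_one] at hw2
        omega⟩⟩
    exact Finite.one_lt_card
  have hmod5 : 5 ∣ Nat.card K - Nat.card CK := by
    let ψ5 : K → K := fun x => ⟨f * x.1 * f⁻¹, (inferInstance : K.Normal).conj_mem _ x.2 f⟩
    have hi : Function.Injective ψ5 := fun a b hab => by
      have := congrArg Subtype.val hab
      exact Subtype.ext (by simpa [ψ5] using this)
    let σ : Equiv.Perm K := Equiv.ofBijective ψ5 ((Finite.injective_iff_bijective).1 hi)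
    have hpow : ∀ k x, ((σ ^ k) x).1 = f ^ k * x.1 * (f ^ k)⁻¹ := by
      intro k
      induction k with
      | zero => intro x; simp
      | succ k ih =>
        intro x
        rw [pow_succ', Equiv.Perm.mul_apply]
        show f * ((σ ^ k) x).1 * f⁻¹ = _
        rw [ih, pow_succ']
        group
    have hσ : σ ^ 5 ^ 1 = 1 := Equiv.ext fun x => Subtype.ext (by
      rw [hpow, pow_one, ← hf, pow_orderOf_eq_one]; simp)
    haveI := Fintype.ofFinite K
    have hc := Equiv.Perm.card_compl_support_modEq (p := 5) hσ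
    have h2 : Nat.card CK = σ.supportᶜ.card := by
      have e1 : Nat.card CK = Nat.card {r : K // σ r = r} := Nat.card_congr
        { toFun := fun x => ⟨⟨x.1, x.2.1⟩, Subtype.ext (mul_inv_eq_iff_eq_mul.2
            (mem_centralizer_singleton_iff.1 x.2.2).symm)⟩
          invFun := fun r => ⟨r.1.1, r.1.2, mem_centralizer_singleton_iff.2
            (mul_inv_eq_iff_eq_mul.1 (congrArg Subtype.val r.2)).symm⟩
          left_inv := fun x => rfl
          right_inv := fun r => rfl }
      rw [e1, Nat.card_eq_fintype_card, Fintype.card_subtype]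
      congr 1
      ext a
      simp
    rw [← h2, ← Nat.card_eq_fintype_card] at hc
    exact (Nat.modEq_iff_dvd' (Subgroup.card_le_of_le inf_le_left)).1 hc
  have hK64 : Nat.card K = 64 := by
    obtain ⟨j, hj, hKj⟩ := (Nat.dvd_prime_pow Nat.prime_two).1 hKpow
    have hCKd : Nat.card CK ∣ 4 := by
      have h1 := Subgroup.card_dvd_of_le (show CK ≤ K from inf_le_left)
      have h2 := Nat.dvd_gcd (h1.trans hKpow) hCK20
      exact h2.trans (by norm_num)
    have hr := Nat.le_of_dvd (by norm_num) hr120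
    have hCK4 : Nat.card CK = 2 ∨ Nat.card CK = 4 := by
      have := Nat.le_of_dvd (by norm_num) hCKd
      generalize Nat.card CK = c at hCKd hCK2 this
      interval_cases c <;> omega
    have hj6 : 6 ≤ j := by
      by_contra hlt
      have : Nat.card K ≤ 32 := by
        rw [hKj]
        exact (Nat.pow_le_pow_right (by norm_num) (show j ≤ 5 by omega)).trans (by norm_num)
      have := Nat.mul_le_mul hr this
      omega
    by_contra hne
    have h512 : j = 9 ∧ Nat.card CK = 2 := by
      rw [hKj] at hmod5 hne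
      interval_cases j <;> omega
    obtain ⟨rfl, hc2⟩ := h512
    -- all three involutions at five lie in the kernel
    have hidx15 : K.index = 15 := by
      have := K.index_mul_card
      rw [hKj, hC] at this
      omega
    have hinv := T.counts.invol5 f.1 hfG
    let emb : {u : G // Commute f.1 u ∧ orderOf u = 2} → CK := fun u =>
      ⟨⟨u.1, mem_cent.2 (T.counts.four5 f.1 u.1 w hfG u.2.2 hw2 u.2.1 hfw).1⟩, by
        refine ⟨?_, mem_centralizer_singleton_iff.2 (Subtype.ext u.2.1.eq.symm)⟩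
        have h := Subgroup.pow_index_mem K
          (⟨u.1, mem_cent.2 (T.counts.four5 f.1 u.1 w hfG u.2.2 hw2 u.2.1 hfw).1⟩ : (centralizer ({w} : Set G)))
        rw [hidx15] at h
        have e15 : (⟨u.1, mem_cent.2 (T.counts.four5 f.1 u.1 w hfG u.2.2 hw2 u.2.1 hfw).1⟩ : (centralizer ({w} : Set G))) ^ 15
            = ⟨u.1, mem_cent.2 (T.counts.four5 f.1 u.1 w hfG u.2.2 hw2 u.2.1 hfw).1⟩ := by
          apply Subtype.ext
          show u.1 ^ 15 = u.1
          rw [← pow_mod_orderOf u.1 15, u.2.2, pow_one]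
        rw [e15] at h
        exact h⟩
    have hle := Nat.card_le_card_of_injective emb
      (fun a b h => Subtype.ext (congrArg (fun x : CK => x.1.1) h))
    omega
  exact hK64

set_option maxHeartbeats 400000 in
include hψ T in
theorem not_class_v {A : Subgroup ↥(centralizer ({z} : Set G))} (hAn : A.Normal)
    (hzA : zc z ∈ A) (hA : A ≤ cInv ψ) (h16 : Nat.card A = 16)
    {w : ↥(centralizer ({z} : Set G))} (hw : w ∈ A) (hwz : w ∉ zsub z) :
    ¬ IsConj (w : G) v := by
  intro hcv
  classical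
  obtain ⟨hM, e, he3, he1, hew⟩ := stab_facts T ψ hψ hAn hzA hA h16 hw hwz
  have hw2 : orderOf (w : G) = 2 := by
    haveI : Fact (Nat.Prime 2) := ⟨Nat.prime_two⟩
    rw [Subgroup.orderOf_coe]
    refine orderOf_eq_prime (by rw [pow_two]; exact (hA hw).2.2) (fun h => hwz ?_)
    rw [h]; exact one_mem _
  set C := centralizer ({(w : G)} : Set G) with hCdef
  have hC : Nat.card C = 7680 := by
    obtain ⟨g, hg⟩ := isConj_iff.1 hcv
    rw [← T.cardv]
    refine Nat.card_congr
      { toFun := fun x => ⟨g * x.1 * g⁻¹, ?_⟩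
        invFun := fun y => ⟨g⁻¹ * y.1 * g, ?_⟩
        left_inv := fun x => Subtype.ext (by show g⁻¹ * (g * x.1 * g⁻¹) * g = x.1; group)
        right_inv := fun y => Subtype.ext (by show g * (g⁻¹ * y.1 * g) * g⁻¹ = y.1; group) }
    · refine mem_cent.2 ?_
      rw [← hg]
      calc g * x.1 * g⁻¹ * (g * w.1 * g⁻¹) = g * (x.1 * w.1) * g⁻¹ := by group
        _ = g * (w.1 * x.1) * g⁻¹ := by rw [mem_cent.1 x.2]
        _ = _ := by group
    · refine mem_cent.2 ?_
      have hy : y.1 * (g * w.1 * g⁻¹) = g * w.1 * g⁻¹ * y.1 := by rw [hg]; exact mem_cent.1 y.2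
      calc g⁻¹ * y.1 * g * w.1 = g⁻¹ * (y.1 * (g * w.1 * g⁻¹)) * g := by group
        _ = g⁻¹ * (g * w.1 * g⁻¹ * y.1) * g := by rw [hy]
        _ = _ := by group
  -- the intersection with the centraliser of `z`
  set M := (centralizer ({z} : Set G)).subgroupOf C with hMdef
  have hMc : Nat.card M = Nat.card (centralizer ({w} : Set ↥(centralizer ({z} : Set G)))) :=
    Nat.card_congr
      { toFun := fun x => ⟨⟨x.1.1, x.2⟩,
          mem_centralizer_singleton_iff.2 (Subtype.ext (mem_cent.1 x.1.2))⟩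
        invFun := fun y => ⟨⟨y.1.1, mem_cent.2
          (congrArg Subtype.val (mem_centralizer_singleton_iff.1 y.2))⟩, y.1.2⟩
        left_inv := fun x => Subtype.ext (Subtype.ext rfl)
        right_inv := fun y => Subtype.ext (Subtype.ext rfl) }
  have hM1 : Nat.card M = 1536 := by
    rcases hM with h | h
    · omega
    · have := Subgroup.card_subgroup_dvd_card M
      rw [hC, hMc, h] at this
      norm_num at this
  have hidx : M.index = 5 := by
    have := M.index_mul_card
    rw [hM1, hC] at this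
    omega
  set φ := MulAction.toPermHom C (C ⧸ M) with hφ
  set K := φ.ker with hKdef
  have hKM : K ≤ M := by
    rw [hKdef, hφ, ← Subgroup.normalCore_eq_ker]
    exact M.normalCore_le
  have hα : Nat.card (C ⧸ M) = 5 := hidx
  have hr120 : Nat.card φ.range ∣ 120 := by
    have h := Subgroup.card_subgroup_dvd_card φ.range
    rwa [Nat.card_perm, hα] at h
  have hrK : Nat.card φ.range * Nat.card K = 7680 := by
    rw [← Subgroup.index_ker, Subgroup.index_mul_card, hC]
  have hKdvd : Nat.card K ∣ 1536 := (Subgroup.card_dvd_of_le hKM).trans (dvd_of_eq hM1)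
  have hwC : w.1 ∈ C := mem_cent.2 rfl
  have hwK : (⟨w.1, hwC⟩ : C) ∈ K := by
    rw [hKdef, hφ, ← Subgroup.normalCore_eq_ker]
    intro b
    show b.1 * w.1 * b.1⁻¹ ∈ centralizer ({z} : Set G)
    rw [mem_cent.1 b.2, mul_inv_cancel_right]
    exact w.2
  have hK64 : Nat.card K = 64 := card_kernel T hw2 hC K hKdvd hwK _ hr120 hrK
  -- the image of the normal subgroup
  let Rc : Subgroup C := (ψ.ker.map (centralizer ({z} : Set G)).subtype).subgroupOf C
  have hRle : ψ.ker.map (centralizer ({z} : Set G)).subtype ≤ C := by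
    rintro _ ⟨r, hr, rfl⟩
    exact mem_cent.2 (congrArg Subtype.val ((hA hw).2.1 r hr))
  have hRc : Nat.card Rc = 128 := by
    rw [Nat.card_congr (Subgroup.subgroupOfEquivOfLe hRle).toEquiv,
      Subgroup.card_map_of_injective Subtype.val_injective, card_ker T ψ hψ]
  let eC : C := ⟨e.1, mem_cent.2 (congrArg Subtype.val hew)⟩
  have heM : eC ∈ M := e.2
  have hfixM : ∀ x : C, x ∈ M → φ x ((1 : C) : C ⧸ M) = ((1 : C) : C ⧸ M) := by
    intro x hx
    show ((x * 1 : C) : C ⧸ M) = _
    rw [mul_one, QuotientGroup.eq]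
    simpa using hx
  have heC3 : eC ^ 3 = 1 := Subtype.ext (by
    show e.1 ^ 3 = 1
    rw [← he3, ← Subgroup.orderOf_coe, pow_orderOf_eq_one])
  have hφe : φ eC ^ 3 = 1 := by rw [← map_pow, heC3, map_one]
  have hφe1 : φ eC ≠ 1 := fun h => by
    have hd : orderOf eC ∣ Nat.card K := by
      have := orderOf_dvd_natCard (⟨eC, h⟩ : K)
      rwa [← Subgroup.orderOf_coe] at this
    have : orderOf eC = 3 := by
      rw [← Subgroup.orderOf_coe]
      show orderOf e.1 = 3
      rw [Subgroup.orderOf_coe, he3]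
    rw [this, hK64] at hd
    norm_num at hd
  have hRM : Rc ≤ M := by
    rintro x ⟨r, hr, hrx⟩
    show x.1 ∈ centralizer ({z} : Set G)
    rw [show x.1 = r.1 from hrx.symm]
    exact r.2
  have heR : ∀ x ∈ Rc, eC * x * eC⁻¹ ∈ Rc := by
    rintro x ⟨r, hr, hrx⟩
    exact ⟨e * r * e⁻¹, (inferInstance : ψ.ker.Normal).conj_mem r hr e, by
      show e.1 * r.1 * e.1⁻¹ = e.1 * x.1 * e.1⁻¹
      rw [show r.1 = x.1 from hrx]⟩
  set I := Rc.map φ with hI
  have hI8 : Nat.card I ∣ 128 := (Rc.card_map_dvd φ).trans (dvd_of_eq hRc)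
  have hImod : Nat.card I % 3 = 1 := by
    let ψ3 : I → I := fun x => ⟨φ eC * x.1 * (φ eC)⁻¹, by
      obtain ⟨r, hr, hrx⟩ := x.2
      exact ⟨_, heR r hr, by rw [map_mul, map_mul, map_inv, hrx]⟩⟩
    have hi : Function.Injective ψ3 := fun a b hab => by
      have := congrArg Subtype.val hab
      exact Subtype.ext (by simpa [ψ3] using this)
    let σ : Equiv.Perm I := Equiv.ofBijective ψ3 ((Finite.injective_iff_bijective).1 hi)
    have hσ : σ ^ 3 = 1 := Equiv.ext fun x => Subtype.ext (by
      show φ eC * (φ eC * (φ eC * x.1 * (φ eC)⁻¹) * (φ eC)⁻¹) * (φ eC)⁻¹ = x.1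
      calc _ = (φ eC * φ eC * φ eC) * x.1 * (φ eC * φ eC * φ eC)⁻¹ := by group
        _ = _ := by
          rw [show φ eC * φ eC * φ eC = φ eC ^ 3 from by rw [pow_succ, pow_two], hφe, one_mul,
            inv_one, mul_one])
    have hm := modEq_three σ hσ
    have h1 : Nat.card {x : I // σ x = x} = 1 := by
      rw [Nat.card_eq_one_iff_exists]
      refine ⟨⟨1, Subtype.ext (by show φ eC * 1 * (φ eC)⁻¹ = 1; group)⟩,
        fun x => Subtype.ext (Subtype.ext ?_)⟩
      have hx8 : x.1.1 ^ 8 = 1 := by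
        have h1 : x.1 ^ Nat.card I = 1 := pow_card_eq_one'
        have hIdvd : Nat.card I ∣ 8 := by
          have h2 : Nat.card I ∣ 120 :=
            (Subgroup.card_dvd_of_le (Subgroup.map_le_range φ Rc)).trans hr120
          exact (Nat.dvd_gcd hI8 h2).trans (by norm_num)
        obtain ⟨k, hk⟩ := hIdvd
        have := congrArg Subtype.val h1
        rw [hk, pow_mul, show x.1.1 ^ Nat.card I = 1 from this, one_pow]
      obtain ⟨r, hr, hrx⟩ := x.1.2
      refine perm_five hα ((1 : C) : C ⧸ M) (φ eC) x.1.1 (hfixM _ heM) hφe hφe1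
        (by rw [← hrx]; exact hfixM _ (hRM hr)) ?_ hx8
      exact (mul_inv_eq_iff_eq_mul.1 (congrArg Subtype.val x.2)).symm
    rw [h1] at hm
    exact hm
  have hI8' : Nat.card I ∣ 8 :=
    (Nat.dvd_gcd hI8 ((Subgroup.card_dvd_of_le (Subgroup.map_le_range φ Rc)).trans hr120)).trans
      (by norm_num)
  have hRK : Nat.card (Rc ⊓ K : Subgroup C) * Nat.card I = 128 := by
    let h := φ.comp Rc.subtype
    have hk : h.ker = (Rc ⊓ K).subgroupOf Rc := by
      ext x
      exact ⟨fun hx => ⟨x.2, hx⟩, fun hx => hx.2⟩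
    have hr : h.range = I := by rw [hI, MonoidHom.range_comp, Subgroup.range_subtype]
    have := h.ker.index_mul_card
    rw [Subgroup.index_ker, hr, hk, Nat.card_congr (Subgroup.subgroupOfEquivOfLe inf_le_left).toEquiv,
      hRc] at this
    rw [mul_comm]; exact this
  have hRK32 : Nat.card (Rc ⊓ K : Subgroup C) = 32 := by
    have hle := Subgroup.card_le_of_le (inf_le_right : Rc ⊓ K ≤ K)
    have := Nat.le_of_dvd (by norm_num) hI8'
    generalize Nat.card (Rc ⊓ K : Subgroup C) = n at hRK hle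
    generalize Nat.card I = m at hI8' hImod hRK this
    interval_cases m <;> omega
  -- the image of the kernel in `SL(3, 2)`
  let κ : K →* ↥(centralizer ({z} : Set G)) :=
    { toFun := fun x => ⟨x.1.1, hKM x.2⟩
      map_one' := rfl
      map_mul' := fun _ _ => rfl }
  let η := ψ.comp κ
  have hηk : η.ker = (Rc ⊓ K).subgroupOf K := by
    ext x
    constructor
    · intro hx
      exact ⟨⟨κ x, hx, rfl⟩, x.2⟩
    · rintro ⟨⟨r, hr, hrx⟩, -⟩
      have : κ x = r := Subtype.ext hrx.symm
      show ψ (κ x) = 1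
      rw [this]; exact hr
  have hη2 : Nat.card η.range = 2 := by
    have := η.ker.index_mul_card
    rw [Subgroup.index_ker, hηk, Nat.card_congr (Subgroup.subgroupOfEquivOfLe inf_le_right).toEquiv,
      hRK32, hK64] at this
    omega
  obtain ⟨b, hb⟩ := exists_prime_orderOf_dvd_card' (G := η.range) 2 (dvd_of_eq hη2.symm)
  obtain ⟨x, hx⟩ := b.2
  have hex : eC * x.1 * eC⁻¹ ∈ K := (inferInstance : K.Normal).conj_mem _ x.2 eC
  have hbconj : ψ e * b.1 * (ψ e)⁻¹ = η ⟨_, hex⟩ := by
    rw [← hx]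
    show ψ e * ψ (κ x) * (ψ e)⁻¹ = ψ (κ ⟨_, hex⟩)
    rw [← map_inv, ← map_mul, ← map_mul]
    rfl
  have hb1 : b ≠ 1 := fun h => by rw [h, orderOf_one] at hb; omega
  have huniq : ∀ c : η.range, c = 1 ∨ c = b := by
    intro c
    by_contra! h
    have h3 : ({1, b, c} : Set η.range).ncard = 3 :=
      Set.ncard_eq_three.2 ⟨1, b, c, hb1.symm, h.1.symm, h.2.symm, rfl⟩
    have := Set.ncard_le_ncard (Set.subset_univ ({1, b, c} : Set η.range)) (Set.toFinite _)
    rw [h3, Set.ncard_univ, hη2] at this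
    omega
  have hcm : Commute (ψ e) b.1 := by
    rcases huniq ⟨_, ⟨_, hex⟩, rfl⟩ with h | h
    · exfalso
      have h' : ψ e * b.1 * (ψ e)⁻¹ = 1 := hbconj.trans (congrArg Subtype.val h)
      exact hb1 (Subtype.ext (conj_eq_one_iff.1 h'))
    · exact mul_inv_eq_iff_eq_mul.1 (hbconj.trans (congrArg Subtype.val h))
  have hb2 : b.1 * b.1 = 1 := by
    have h := pow_orderOf_eq_one b
    rw [hb, pow_two] at h
    exact congrArg Subtype.val h
  refine hb1 (Subtype.ext (no_six' ?_ he1 hcm hb2))
  have h : e * e * e = 1 := by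
    have h := pow_orderOf_eq_one e
    rwa [he3, pow_succ, pow_two] at h
  rw [← map_mul, ← map_mul, h, map_one]

end CfsgLib.M24Nse
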