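import Cfsg.Agent.Lib.M24Nse.CentreV

/-!
# A further central involution is not in the class of `z`
-/

set_option autoImplicit false
set_option linter.style.haveILetI false
set_option linter.unusedSectionVars false

namespace CfsgLib.M24Nse

open Subgroup

universe u

variable {G : Type u} [Group G] [Finite G] {z v : G} (T : Two z v)
  (ψ : ↥(centralizer ({z} : Set G)) →* S32) (hψ : Function.Surjective ψ)

theorem pow_card_ker {x : ↥(centralizer ({z} : Set G))} (h : ψ x = 1) :
    x ^ Nat.card ψ.ker = 1 :=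
  congrArg Subtype.val (pow_card_eq_one' (x := (⟨x, h⟩ : ψ.ker)))

/-- the section by a subgroup of central involutions when the normal subgroup is abelian -/
noncomputable def dataTop (hcomm : ∀ a ∈ ψ.ker, ∀ b ∈ ψ.ker, a * b = b * a)
    {A : Subgroup ↥(centralizer ({z} : Set G))} (hAn : A.Normal) (hzA : zc z ∈ A)
    (hA : A ≤ cInv ψ) : SecData ψ where
  N := A
  S := ψ.ker
  nN := hAn
  nS := inferInstance
  zN := hzA
  le := fun _ h => (hA h).1
  leR := le_rfl
  cm := fun r hr s hs => by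
    rw [hcomm r hr s hs, mul_inv_cancel_right, mul_inv_cancel]; exact one_mem _

set_option maxHeartbeats 800000 in
include hψ T in
theorem not_class_z {A : Subgroup ↥(centralizer ({z} : Set G))} (hAn : A.Normal)
    (hzA : zc z ∈ A) (hA : A ≤ cInv ψ) (h16 : Nat.card A = 16)
    (hcomm : ∀ a ∈ ψ.ker, ∀ b ∈ ψ.ker, a * b = b * a)
    {w : ↥(centralizer ({z} : Set G))} (hw : w ∈ A) (hwz : w ∉ zsub z) :
    ¬ IsConj (w : G) z := by
  intro hcz
  classical
  obtain ⟨g, hg⟩ := isConj_iff.1 hcz.symm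
  obtain ⟨-, e, he3, he1, hew⟩ := stab_facts T ψ hψ hAn hzA hA h16 hw hwz
  have hmem : ∀ x : G, x * w.1 = w.1 * x → g⁻¹ * x * g ∈ centralizer ({z} : Set G) := by
    intro x hx
    refine mem_cent.2 ?_
    calc g⁻¹ * x * g * z = g⁻¹ * (x * (g * z * g⁻¹)) * g := by group
      _ = g⁻¹ * ((g * z * g⁻¹) * x) * g := by rw [hg, hx]
      _ = z * (g⁻¹ * x * g) := by group
  let c : ↥(centralizer ({(w : G)} : Set G)) →* ↥(centralizer ({z} : Set G)) :=
    { toFun := fun x => ⟨g⁻¹ * x.1 * g, hmem x.1 (mem_cent.1 x.2)⟩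
      map_one' := Subtype.ext (by show g⁻¹ * 1 * g = 1; group)
      map_mul' := fun x y => Subtype.ext (by
        show g⁻¹ * (x.1 * y.1) * g = g⁻¹ * x.1 * g * (g⁻¹ * y.1 * g)
        group) }
  have hcinj : Function.Injective c := fun x y hxy => by
    have h := congrArg Subtype.val hxy
    exact Subtype.ext (mul_left_cancel (mul_right_cancel h))
  let ψ1 := ψ.comp c
  let eC : ↥(centralizer ({(w : G)} : Set G)) :=
    ⟨e.1, mem_cent.2 (congrArg Subtype.val hew)⟩
  have he33 : e * e * e = 1 := by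
    have h := pow_orderOf_eq_one e
    rwa [he3, pow_succ, pow_two] at h
  have heC : eC * eC * eC = 1 := Subtype.ext (congrArg Subtype.val he33 :)
  have ha3 : ψ1 eC * ψ1 eC * ψ1 eC = 1 := by rw [← map_mul, ← map_mul, heC, map_one]
  have ha1 : ψ1 eC ≠ 1 := by
    intro h
    have h1 := pow_card_ker ψ (x := c eC) h
    rw [card_ker T ψ hψ, ← map_pow] at h1
    have h2 : eC ^ 128 = 1 := hcinj (h1.trans (map_one c).symm)
    rw [show 128 = 3 * 42 + 2 by norm_num, pow_add, pow_mul,
      show eC ^ 3 = 1 from by rw [pow_succ, pow_two, heC], one_pow, one_mul, pow_two] at h2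
    rw [h2, one_mul] at heC
    exact he1 (by rw [show e = 1 from Subtype.ext (congrArg Subtype.val heC :), map_one])
  have hzw : z * w.1 = w.1 * z := (mem_cent.1 w.2).symm
  let zC : ↥(centralizer ({(w : G)} : Set G)) := ⟨z, mem_cent.2 hzw⟩
  have hz1 : ψ1 zC = 1 := by
    refine no_six' ha3 ha1 ((show Commute eC zC from Subtype.ext (mem_cent.1 e.2)).map ψ1) ?_
    rw [← map_mul, show zC * zC = 1 from Subtype.ext (congrArg Subtype.val (zc_sq T) :), map_one]
  -- the normal subgroup of the centraliser of `z` as a subgroup of `G`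
  set RG := ψ.ker.map (centralizer ({z} : Set G)).subtype with hRG
  have hRGc : Nat.card RG = 128 := by
    rw [hRG, Subgroup.card_map_of_injective Subtype.val_injective, card_ker T ψ hψ]
  let R1 := RG.map (MulAut.conj g).toMonoidHom
  have hR1c : Nat.card R1 = 128 := by
    show Nat.card (RG.map (MulAut.conj g).toMonoidHom) = 128
    rw [Subgroup.card_map_of_injective (MulAut.conj g).injective, hRGc]
  have hR1 : ∀ x, x ∈ R1 ↔ g⁻¹ * x * g ∈ RG := by
    intro x
    constructor
    · rintro ⟨r, hr, rfl⟩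
      show g⁻¹ * (g * r * g⁻¹) * g ∈ RG
      rwa [show g⁻¹ * (g * r * g⁻¹) * g = r by group]
    · intro h
      exact ⟨_, h, by show g * (g⁻¹ * x * g) * g⁻¹ = x; group⟩
  have hRGcomm : ∀ a ∈ RG, ∀ b ∈ RG, a * b = b * a := by
    rintro _ ⟨a, ha, rfl⟩ _ ⟨b, hb, rfl⟩
    exact congrArg Subtype.val (hcomm a ha b hb)
  have hR1comm : ∀ a ∈ R1, ∀ b ∈ R1, a * b = b * a := by
    rintro _ ⟨a, ha, rfl⟩ _ ⟨b, hb, rfl⟩
    rw [← map_mul, ← map_mul, hRGcomm a ha b hb]
  have hzR1 : z ∈ R1 := (hR1 z).2 ⟨c zC, hz1, rfl⟩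
  have hwR1 : w.1 ∈ R1 := by
    refine (hR1 _).2 ⟨zc z, zc_mem_ker T ψ hψ, ?_⟩
    show z = g⁻¹ * w.1 * g
    rw [← hg]; group
  have hR1H : R1 ≤ centralizer ({z} : Set G) := fun x hx => mem_cent.2 (hR1comm x hx z hzR1)
  have hwker : w ∈ ψ.ker := (hA hw).1
  have hRGC : ∀ r ∈ RG, r * w.1 = w.1 * r := fun r hr => hRGcomm r hr _ ⟨w, hwker, rfl⟩
  have hne : R1 ≠ RG := by
    intro h
    have hgN : g ∈ normalizer (RG : Set G) := by
      rw [Subgroup.mem_normalizer_iff]
      intro x
      constructor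
      · intro hx
        have : g * x * g⁻¹ ∈ R1 := ⟨x, hx, rfl⟩
        rwa [h] at this
      · intro hx
        rw [← h] at hx
        have := (hR1 _).1 hx
        rwa [show g⁻¹ * (g * x * g⁻¹) * g = x by group] at this
    have h1 := mem_cent.1 (norm_ker T ψ hψ g hgN)
    apply hwz
    rw [show w = zc z from Subtype.ext (by
      show w.1 = z
      rw [← hg, h1, mul_inv_cancel_right])]
    exact zc_mem_zsub
  -- the intersection of the two subgroups
  set D := RG ⊓ R1 with hD
  have hD32 : 32 ≤ Nat.card D := by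
    let ι : RG →* ↥(centralizer ({(w : G)} : Set G)) :=
      { toFun := fun r => ⟨r.1, mem_cent.2 (hRGC r.1 r.2)⟩
        map_one' := rfl
        map_mul' := fun _ _ => rfl }
    let η := ψ1.comp ι
    have hk : η.ker = D.subgroupOf RG := by
      ext x
      constructor
      · intro hx
        exact ⟨x.2, (hR1 _).2 ⟨c (ι x), hx, rfl⟩⟩
      · intro hx
        obtain ⟨r, hr, hrx⟩ := (hR1 _).1 hx.2
        show ψ (c (ι x)) = 1
        rw [show c (ι x) = r from Subtype.ext hrx.symm]
        exact hr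
    have hmul := η.ker.index_mul_card
    rw [Subgroup.index_ker, hk, Nat.card_congr (Subgroup.subgroupOfEquivOfLe inf_le_left).toEquiv,
      hRGc] at hmul
    have h8 : Nat.card η.range ∣ 8 := by
      have h1 : Nat.card η.range ∣ 128 := Dvd.intro _ hmul
      have h2 : Nat.card η.range ∣ 168 := by
        have := Subgroup.card_subgroup_dvd_card η.range
        rwa [card_S32] at this
      exact (Nat.dvd_gcd h1 h2).trans (by norm_num)
    have hinv : ∀ x : η.range, ψ1 eC * x.1 * (ψ1 eC)⁻¹ ∈ η.range := by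
      rintro ⟨_, r, rfl⟩
      have hr : e.1 * r.1 * e.1⁻¹ ∈ RG := by
        obtain ⟨s, hs, hsr⟩ := r.2
        exact ⟨e * s * e⁻¹, (inferInstance : ψ.ker.Normal).conj_mem s hs e, by
          show e.1 * s.1 * e.1⁻¹ = _
          rw [show s.1 = r.1 from hsr]⟩
      refine ⟨⟨_, hr⟩, ?_⟩
      show ψ1 (ι ⟨_, hr⟩) = ψ1 eC * ψ1 (ι r) * (ψ1 eC)⁻¹
      rw [← map_inv, ← map_mul, ← map_mul]
      rfl
    let f : η.range → η.range := fun x => ⟨_, hinv x⟩
    have hi : Function.Injective f := fun a b hab => by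
      have := congrArg Subtype.val hab
      exact Subtype.ext (by simpa [f] using this)
    let σ : Equiv.Perm η.range := Equiv.ofBijective f ((Finite.injective_iff_bijective).1 hi)
    have hσ : σ ^ 3 = 1 := Equiv.ext fun x => Subtype.ext (by
      show ψ1 eC * (ψ1 eC * (ψ1 eC * x.1 * (ψ1 eC)⁻¹) * (ψ1 eC)⁻¹) * (ψ1 eC)⁻¹ = x.1
      calc _ = (ψ1 eC * ψ1 eC * ψ1 eC) * x.1 * (ψ1 eC * ψ1 eC * ψ1 eC)⁻¹ := by group
        _ = _ := by rw [ha3, one_mul, inv_one, mul_one])
    have hm := modEq_three σ hσ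
    have h1 : Nat.card {x : η.range // σ x = x} = 1 := by
      rw [Nat.card_eq_one_iff_exists]
      refine ⟨⟨1, Subtype.ext (by show ψ1 eC * 1 * (ψ1 eC)⁻¹ = 1; group)⟩,
        fun x => Subtype.ext (Subtype.ext ?_)⟩
      have hc : Commute (ψ1 eC) x.1.1 :=
        mul_inv_eq_iff_eq_mul.1 (congrArg Subtype.val x.2)
      have h8' : x.1.1 ^ 8 = 1 := by
        obtain ⟨k, hk8⟩ := h8
        have h := congrArg Subtype.val (pow_card_eq_one' (x := x.1))
        rw [hk8, pow_mul, show x.1.1 ^ Nat.card η.range = 1 from h, one_pow]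
      have hsq : x.1.1 * x.1.1 = 1 := by
        refine no_six _ ha3 ha1 _ (hc.symm.mul_left hc.symm).eq ?_
        rw [← h8']
        simp only [pow_succ, pow_zero, one_mul, mul_assoc]
      exact no_six' ha3 ha1 hc hsq
    rw [h1] at hm
    have hle := Nat.le_of_dvd (by norm_num) h8
    change Nat.card η.range % 3 = 1 at hm
    generalize Nat.card η.range = m at h8 hm hle hmul
    generalize Nat.card D = d at hmul
    interval_cases m <;> omega
  -- the section `A / ⟨z⟩`
  let D1 : SecData ψ := dataSub ψ hAn hzA hA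
  have h81 : Nat.card D1.sec = 8 := by
    have := D1.card_mul
    rw [show Nat.card D1.N = 2 from card_zsub T, show Nat.card D1.S = 16 from h16] at this
    omega
  let J : Subgroup ↥(centralizer ({z} : Set G)) := A ⊓ R1.subgroupOf (centralizer ({z} : Set G))
  have hJd : Nat.card J ∣ 16 := h16 ▸ Subgroup.card_dvd_of_le (inf_le_left : J ≤ A)
  have heR1 : ∀ x ∈ R1, e.1 * x * e.1⁻¹ ∈ R1 := by
    intro x hx
    obtain ⟨r, hr, hrx⟩ := (hR1 x).1 hx
    refine (hR1 _).2 ⟨c eC * r * (c eC)⁻¹, (inferInstance : ψ.ker.Normal).conj_mem r hr _, ?_⟩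
    show (g⁻¹ * e.1 * g) * r.1 * (g⁻¹ * e.1 * g)⁻¹ = g⁻¹ * (e.1 * x * e.1⁻¹) * g
    rw [show r.1 = g⁻¹ * x * g from hrx]
    group
  have heJ : ∀ x ∈ J, e * x * e⁻¹ ∈ J := fun x hx => ⟨hAn.conj_mem x hx.1 e, heR1 x.1 hx.2⟩
  have hefix : ∀ x ∈ A, e * x * e⁻¹ = x → x = 1 ∨ x = zc z ∨ x = w ∨ x = w * zc z := by
    intro x hx hex
    have hxS : x ∈ D1.S := hx
    have hwS : w ∈ D1.S := hw
    by_cases hx1 : D1.cls x hxS = 1
    · rcases mem_zsub T ((D1.cls_eq_one hxS).1 hx1) with h | h
      exacts [Or.inl h, Or.inr (Or.inl h)]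
    · have hy3 : ψ e * ψ e * ψ e = 1 := by rw [← map_mul, ← map_mul, he33, map_one]
      have hfixc : ∀ y (hy : y ∈ D1.S), e * y * e⁻¹ = y →
          D1.act hψ (ψ e) (D1.cls y hy) = D1.cls y hy := by
        intro y hy hey
        rw [D1.act_apply, D1.act0_cls]
        exact (D1.cls_eq _ hy).2 (by rw [hey, inv_mul_cancel]; exact one_mem _)
      have heq := unique_eight (D1.act hψ) (D1.free T ψ hψ) h81 hy3 he1
        (hfixc x hxS hex) (hfixc w hwS (mul_inv_eq_iff_eq_mul.2 hew)) hx1
        (fun h => hwz ((D1.cls_eq_one hwS).1 h))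
      rcases mem_zsub T ((D1.cls_eq hxS hwS).1 heq) with h | h
      · exact Or.inr (Or.inr (Or.inl (inv_mul_eq_one.1 h)))
      · refine Or.inr (Or.inr (Or.inr ?_))
        calc x = w * (x⁻¹ * w)⁻¹ := by group
          _ = w * zc z := by rw [h, inv_eq_of_mul_eq_one_right (zc_sq T)]
  have hJmod : Nat.card J % 3 = 1 := by
    let f : J → J := fun x => ⟨_, heJ x.1 x.2⟩
    have hi : Function.Injective f := fun a b hab => by
      have := congrArg Subtype.val hab
      exact Subtype.ext (by simpa [f] using this)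
    let σ : Equiv.Perm J := Equiv.ofBijective f ((Finite.injective_iff_bijective).1 hi)
    have hσ : σ ^ 3 = 1 := Equiv.ext fun x => Subtype.ext (by
      show e * (e * (e * x.1 * e⁻¹) * e⁻¹) * e⁻¹ = x.1
      calc _ = (e * e * e) * x.1 * (e * e * e)⁻¹ := by group
        _ = _ := by rw [he33, one_mul, inv_one, mul_one])
    have hm := modEq_three σ hσ
    have hzJ : zc z ∈ J := ⟨hzA, hzR1⟩
    have hwJ : w ∈ J := ⟨hw, hwR1⟩
    have hfe : ∀ y ∈ ({1, zc z, w, w * zc z} : Set ↥(centralizer ({z} : Set G))),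
        y ∈ J ∧ e * y * e⁻¹ = y := by
      have h1 : e * zc z * e⁻¹ = zc z := mul_inv_eq_iff_eq_mul.2 (zc_comm e)
      have h2 : e * w * e⁻¹ = w := mul_inv_eq_iff_eq_mul.2 hew
      rintro y (rfl | rfl | rfl | rfl)
      · exact ⟨one_mem _, by group⟩
      · exact ⟨hzJ, h1⟩
      · exact ⟨hwJ, h2⟩
      · refine ⟨mul_mem hwJ hzJ, ?_⟩
        calc e * (w * zc z) * e⁻¹ = (e * w * e⁻¹) * (e * zc z * e⁻¹) := by group
          _ = _ := by rw [h1, h2]
    have hfour : Nat.card {x : J // σ x = x} = 4 := by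
      have e4 : Nat.card {x : J // σ x = x} =
          Nat.card ({1, zc z, w, w * zc z} : Set ↥(centralizer ({z} : Set G))) := by
        refine Nat.card_congr
          { toFun := fun x => ⟨x.1.1, ?_⟩
            invFun := fun y => ⟨⟨y.1, (hfe _ y.2).1⟩, Subtype.ext (hfe _ y.2).2⟩
            left_inv := fun x => rfl
            right_inv := fun y => rfl }
        rcases hefix _ x.1.2.1 (congrArg Subtype.val x.2) with h | h | h | h <;> simp [h]
      have hz := zc_ne_one T
      have hw1 : w ≠ 1 := fun h => hwz (h ▸ one_mem _)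
      have hw2 : w ≠ zc z := fun h => hwz (h ▸ zc_mem_zsub)
      have hwz1 : w * zc z ≠ 1 := fun h => hw2
        ((eq_inv_of_mul_eq_one_left h).trans (inv_eq_of_mul_eq_one_right (zc_sq T)))
      rw [e4, Nat.card_coe_set_eq]
      rw [Set.ncard_insert_of_notMem (by simp [hz.symm, hw1.symm, hwz1.symm]) (Set.toFinite _),
        Set.ncard_insert_of_notMem (by simp [hw2.symm, Ne.symm, hw1]) (Set.toFinite _),
        Set.ncard_pair (by simp [hz])]
    rw [hfour] at hm
    exact hm
  have hJ4 : 4 ≤ Nat.card J := by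
    have hw1 : w ≠ 1 := fun h => hwz (h ▸ one_mem _)
    have hw2 : w ≠ zc z := fun h => hwz (h ▸ zc_mem_zsub)
    have hsub : ({1, zc z, w} : Set ↥(centralizer ({z} : Set G))) ⊆
        (J : Set ↥(centralizer ({z} : Set G))) := by
      rintro y (rfl | rfl | rfl)
      exacts [one_mem _, ⟨hzA, hzR1⟩, ⟨hw, hwR1⟩]
    have h3 : ({1, zc z, w} : Set ↥(centralizer ({z} : Set G))).ncard = 3 :=
      Set.ncard_eq_three.2 ⟨1, zc z, w, (zc_ne_one T).symm, hw1.symm, hw2.symm, rfl⟩
    have := Set.ncard_le_ncard hsub (Set.toFinite _)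
    rw [h3, ← Nat.card_coe_set_eq] at this
    change 3 ≤ Nat.card J at this
    have hle := Nat.le_of_dvd (by norm_num) hJd
    generalize Nat.card J = n at hJd hJmod this hle
    interval_cases n <;> omega
  have hJ : Nat.card J = 4 ∨ Nat.card J = 16 := by
    have hle := Nat.le_of_dvd (by norm_num) hJd
    generalize Nat.card J = n at hJd hJmod hJ4 hle
    interval_cases n <;> omega
  -- `R1` is contained in `RG`, a contradiction
  suffices hsub : ∀ x (hx : x ∈ R1), ψ ⟨x, hR1H hx⟩ = 1 by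
    refine hne (Subgroup.eq_of_le_of_card_ge (fun x hx => ⟨⟨x, hR1H hx⟩, hsub x hx, rfl⟩) ?_)
    rw [hRGc, hR1c]
  intro x hx
  set xH : ↥(centralizer ({z} : Set G)) := ⟨x, hR1H hx⟩
  rcases hJ with h4 | hall
  · let D2 : SecData ψ := dataTop ψ hcomm hAn hzA hA
    have h82 : Nat.card D2.sec = 8 := by
      have := D2.card_mul
      rw [show Nat.card D2.N = 16 from h16, show Nat.card D2.S = 128 from card_ker T ψ hψ] at this
      omega
    refine faithful_eight (D2.act hψ) (D2.free T ψ hψ) h82 fun q => ?_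
    let Dh : Subgroup ↥(centralizer ({z} : Set G)) := D.subgroupOf (centralizer ({z} : Set G))
    have hDle : D ≤ centralizer ({z} : Set G) := fun y hy => hR1H hy.2
    have hDh : Nat.card Dh = Nat.card D :=
      Nat.card_congr (Subgroup.subgroupOfEquivOfLe hDle).toEquiv
    have hDker : Dh ≤ D2.S := by
      intro y hy
      obtain ⟨r, hr, hry⟩ := hy.1
      rw [show y = r from Subtype.ext hry.symm]
      exact hr
    let π : Dh →* D2.sec :=
      { toFun := fun y => D2.cls y.1 (hDker y.2)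
        map_one' := (D2.cls_eq_one _).2 (one_mem _)
        map_mul' := fun a b => (D2.cls_mul _ _).symm }
    have hkerle : Nat.card π.ker ≤ 4 := by
      rw [← h4]
      refine Nat.card_le_card_of_injective
        (fun y => (⟨y.1.1, (D2.cls_eq_one (hDker y.1.2)).1 y.2, y.1.2.2⟩ : J)) ?_
      intro a b hab
      exact Subtype.ext (Subtype.ext (congrArg (fun t : J => t.1) hab))
    have hsurj : π.range = ⊤ := by
      refine Subgroup.eq_top_of_card_eq _ ?_
      have hmul := π.ker.index_mul_card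
      rw [Subgroup.index_ker, hDh] at hmul
      have hle := Subgroup.card_le_of_le (le_top : π.range ≤ ⊤)
      rw [Subgroup.card_top, h82] at hle
      rw [h82]
      have h32 : Nat.card π.range * Nat.card π.ker ≤ Nat.card π.range * 4 :=
        Nat.mul_le_mul_left _ hkerle
      omega
    obtain ⟨y, hy⟩ : q ∈ π.range := hsurj ▸ Subgroup.mem_top q
    rw [← hy]
    show D2.act hψ (ψ xH) (D2.cls y.1 (hDker y.2)) = D2.cls y.1 (hDker y.2)
    rw [D2.act_apply, D2.act0_cls]
    refine (D2.cls_eq _ _).2 ?_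
    have : xH * y.1 * xH⁻¹ = y.1 := Subtype.ext (by
      show x * y.1.1 * x⁻¹ = y.1.1
      have hc : x * y.1.1 = y.1.1 * x := hR1comm x hx _ y.2.2
      rw [hc, mul_inv_cancel_right])
    rw [this, inv_mul_cancel]
    exact one_mem _
  · refine faithful_eight (D1.act hψ) (D1.free T ψ hψ) h81 fun q => ?_
    have hJA : J = A := Subgroup.eq_of_le_of_card_ge inf_le_left (by rw [h16, hall])
    obtain ⟨s, hs, rfl⟩ := D1.cls_surj q
    rw [D1.act_apply, D1.act0_cls]
    refine (D1.cls_eq _ _).2 ?_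
    have hsJ : s ∈ J := hJA.symm ▸ hs
    have : xH * s * xH⁻¹ = s := Subtype.ext (by
      show x * s.1 * x⁻¹ = s.1
      have hc : x * s.1 = s.1 * x := hR1comm x hx _ hsJ.2
      rw [hc, mul_inv_cancel_right])
    rw [this, inv_mul_cancel]
    exact one_mem _

end CfsgLib.M24Nse
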