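import Cfsg.Agent.Lib.M24Nse.ClosedTools

/-!
# S3596, piece P4: no element of order three in the intersection of the two centralisers
-/

set_option autoImplicit false
set_option linter.unusedSectionVars false
set_option linter.style.haveILetI false

namespace CfsgLib.M24Nse.Closed

open Subgroup CfsgLib.M24Nse.Five

universe u

/-- a cycle of four points is not in a 2-subgroup normalised by a cycle of three -/
theorem perm_check : ∀ f : Equiv.Perm (Fin 5), f 0 = 0 → f ^ 8 = 1 → f ^ 2 ≠ 1 →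
    ∀ e : Equiv.Perm (Fin 5), e 0 = 0 → e ^ 3 = 1 → e ≠ 1 →
      (f * (e * f * e⁻¹)) ^ 8 ≠ 1 := by
  decide +kernel

variable {H : Type u} [Group H] [Finite H]

/-- no such group of order 7680 -/
theorem no_7680 (hH : Nat.card H = 7680) (M S : Subgroup H) (hM : Nat.card M = 1536)
    (hSM : S ≤ M) (hS : Nat.card S = 512) (hnorm : ∀ m ∈ M, ∀ s ∈ S, m * s * m⁻¹ ∈ S)
    (hC : ∀ y : H, orderOf y = 5 → Nat.card (centralizer ({y} : Set H)) = 20)
    {x g : H} (hx : orderOf x = 5) (hg : g * x * g⁻¹ = x ^ 2) : False := by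
  haveI : Fact (Nat.Prime 3) := ⟨Nat.prime_three⟩
  haveI : Fact (Nat.Prime 5) := ⟨Nat.prime_five⟩
  have hidx : M.index = 5 := by
    have := M.card_mul_index
    rw [hH, hM] at this
    omega
  haveI : Fintype (H ⧸ M) := Fintype.ofFinite _
  have hcard : Fintype.card (H ⧸ M) = 5 := by
    rw [← Nat.card_eq_fintype_card, ← Subgroup.index_eq_card, hidx]
  let e0 : H ⧸ M ≃ Fin 5 := (Fintype.equivFinOfCardEq hcard).trans
    (Equiv.swap (Fintype.equivFinOfCardEq hcard ((1 : H) : H ⧸ M)) 0)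
  have hbase : e0 ((1 : H) : H ⧸ M) = 0 := by simp [e0]
  let ψ : H →* Equiv.Perm (Fin 5) :=
    e0.permCongrHom.toMonoidHom.comp (MulAction.toPermHom H (H ⧸ M))
  have happ : ∀ h : H, ψ h 0 = e0 ((h : H) : H ⧸ M) := fun h => by
    show e0 (h • e0.symm 0) = _
    rw [show e0.symm 0 = ((1 : H) : H ⧸ M) from e0.symm_apply_eq.2 hbase.symm,
      MulAction.Quotient.smul_coe, smul_eq_mul, mul_one]
  have hfix : ∀ h : H, ψ h 0 = 0 ↔ h ∈ M := fun h => by
    rw [happ]
    conv_lhs => rhs; rw [← hbase]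
    rw [e0.injective.eq_iff, QuotientGroup.eq, mul_one, inv_mem_iff]
  have hker : ψ.ker ≤ M := fun h hh => (hfix h).1 (by rw [MonoidHom.mem_ker.1 hh]; rfl)
  have e5 : x ^ 5 = 1 := by have h := pow_orderOf_eq_one x; rwa [hx] at h
  have hnx : x ∉ M := fun hxM => by
    have := Subgroup.orderOf_dvd_natCard M hxM
    rw [hx, hM] at this
    norm_num at this
  obtain ⟨e', he'⟩ := exists_prime_orderOf_dvd_card' (G := M) 3 (by rw [hM]; norm_num)
  have he : orderOf (e' : H) = 3 := by rw [orderOf_coe, he']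
  by_cases hek : (e' : H) ∈ ψ.ker
  · -- Frattini: an element of order five centralises one of order three
    obtain ⟨Q⟩ := (inferInstance : Nonempty (Sylow 3 ψ.ker))
    have hQ : Nat.card (Q : Subgroup ψ.ker) = 3 := by
      obtain ⟨n, hn⟩ := IsPGroup.iff_card.1 Q.2
      have h1 : 3 ∣ Nat.card (Q : Subgroup ψ.ker) := Q.dvd_card_of_dvd_card
        (he ▸ Subgroup.orderOf_dvd_natCard _ hek)
      have h2 : 3 ^ n ∣ 7680 := by
        rw [← hn, ← hH]; exact (card_subgroup_dvd_card _).trans (card_subgroup_dvd_card _)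
      rw [hn] at h1 ⊢
      rcases n with _ | _ | n
      · norm_num at h1
      · norm_num
      · exact absurd ((pow_dvd_pow 3 (by omega : 2 ≤ n + 2)).trans h2) (by norm_num)
    have hfr := Sylow.normalizer_sup_eq_top (N := ψ.ker) Q
    set R : Subgroup H := (Q : Subgroup ψ.ker).map ψ.ker.subtype with hR
    have hRc : Nat.card R = 3 := by
      rw [hR, Subgroup.card_map_of_injective (subtype_injective _), hQ]
    have h5 : 5 ∣ Nat.card (normalizer (R : Set H)) := by
      let f : normalizer (R : Set H) →* H ⧸ ψ.ker :=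
        (QuotientGroup.mk' ψ.ker).comp (Subgroup.subtype _)
      refine dvd_trans ?_ (Subgroup.card_dvd_of_surjective f fun q => ?_)
      · have h1 := ψ.ker.card_mul_index
        rw [hH] at h1
        have h2 : ¬ 5 ∣ Nat.card ψ.ker := fun hd =>
          absurd (hd.trans (hM ▸ card_dvd_of_le hker)) (by norm_num)
        rw [← Subgroup.index_eq_card]
        exact ((Nat.Prime.dvd_mul Nat.prime_five).1 (h1 ▸ (by norm_num : 5 ∣ 7680))).resolve_left h2
      · obtain ⟨q, rfl⟩ := QuotientGroup.mk_surjective q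
        obtain ⟨a, ha, b, hb, e⟩ := mem_sup_of_normal_right.1
          (show q ∈ normalizer (R : Set H) ⊔ ψ.ker by rw [hfr]; exact mem_top q)
        refine ⟨⟨a, ha⟩, ?_⟩
        show ((a : H) : H ⧸ ψ.ker) = (q : H ⧸ ψ.ker)
        rw [QuotientGroup.eq, ← e, inv_mul_cancel_left]
        exact hb
    obtain ⟨y, hy⟩ := exists_prime_orderOf_dvd_card' (G := normalizer (R : Set H)) 5 h5
    have hy5 : orderOf (y : H) = 5 := by rw [orderOf_coe, hy]
    have hm := fixed_modEq hy5 R y.2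
    have hd : Nat.card ↥(R ⊓ centralizer ({(y : H)} : Set H)) ∣ 3 :=
      hRc ▸ card_dvd_of_le inf_le_left
    have hd2 : Nat.card ↥(R ⊓ centralizer ({(y : H)} : Set H)) ∣ 20 :=
      hC _ hy5 ▸ card_dvd_of_le inf_le_right
    rw [Nat.dvd_one.1 ((Nat.dvd_gcd hd hd2).trans (by norm_num)), hRc] at hm
    exact absurd (hm : 3 % 5 = 1 % 5) (by norm_num)
  -- an element of the 2-group inducing a cycle of four points
  obtain ⟨i, hgM⟩ : ∃ i : ℕ, x ^ i * g ∈ M := by
    let q : Fin 5 → H ⧸ M := fun i => ((x ^ (i : ℕ) * g : H) : H ⧸ M)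
    have hinj : Function.Injective q := fun i j hij => by
      have h : x ^ (((j : ℕ) : ℤ) - (i : ℕ)) ∈ (M.map (MulAut.conj g).toMonoidHom) := by
        refine ⟨_, QuotientGroup.eq.1 hij, ?_⟩
        show g * ((x ^ (i : ℕ) * g)⁻¹ * (x ^ (j : ℕ) * g)) * g⁻¹ = _
        rw [sub_eq_neg_add, zpow_add, zpow_neg, zpow_natCast, zpow_natCast]
        group
      have hd := Subgroup.orderOf_dvd_natCard _ h
      rw [Subgroup.card_map_of_injective (MulAut.conj g).injective, hM] at hd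
      have hd5 : orderOf (x ^ (((j : ℕ) : ℤ) - (i : ℕ))) ∣ 5 := orderOf_dvd_of_pow_eq_one (by
        rw [← zpow_natCast, ← zpow_mul, mul_comm, zpow_mul, zpow_natCast, e5, one_zpow])
      have h1 := orderOf_eq_one_iff.1 (Nat.dvd_one.1 ((Nat.dvd_gcd hd hd5).trans (by norm_num)))
      have h2 : (5 : ℤ) ∣ ((j : ℕ) : ℤ) - (i : ℕ) := by
        have := orderOf_dvd_iff_zpow_eq_one.2 h1
        rw [hx] at this
        exact_mod_cast this
      exact Fin.ext (by omega)
    obtain ⟨i, hi⟩ := ((Fintype.bijective_iff_injective_and_card q).2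
      ⟨hinj, by rw [hcard, Fintype.card_fin]⟩).2 ((1 : H) : H ⧸ M)
    exact ⟨i, inv_mem_iff.1 (by simpa [q, QuotientGroup.eq] using hi)⟩
  set n := x ^ i * g with hn
  have hnx2 : n * x * n⁻¹ = x ^ 2 := by
    calc n * x * n⁻¹ = x ^ i * (g * x * g⁻¹) * (x ^ i)⁻¹ := by rw [hn]; group
      _ = x ^ i * x ^ 2 * (x ^ i)⁻¹ := by rw [hg]
      _ = x ^ 2 := by rw [← pow_add, add_comm, pow_add, mul_inv_cancel_right]
  set s := n ^ 3 with hs
  have hsS : s ∈ S := by
    haveI : (S.subgroupOf M).Normal := ⟨fun a ha m => hnorm m m.2 a ha⟩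
    have hi3 : (S.subgroupOf M).index = 3 := by
      have h1 := (S.subgroupOf M).card_mul_index
      rw [Nat.card_congr (subgroupOfEquivOfLe hSM).toEquiv, hS, hM] at h1
      omega
    have h2 := pow_index_mem (S.subgroupOf M) (⟨n, hgM⟩ : M)
    rw [hi3] at h2
    exact mem_subgroupOf.1 h2
  have hsx : s * x * s⁻¹ = x ^ 3 := by
    have h4 : n * x ^ 2 * n⁻¹ = x ^ 4 := by rw [← conj_pow, hnx2, ← pow_mul]
    have h8 : n * x ^ 4 * n⁻¹ = x ^ 8 := by rw [← conj_pow, hnx2, ← pow_mul]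
    have e : x ^ 8 = x ^ 3 := pow_eq_pow_iff_modEq.2 (by rw [hx]; rfl)
    calc s * x * s⁻¹ = n * (n * (n * x * n⁻¹) * n⁻¹) * n⁻¹ := by
          rw [hs, pow_succ, pow_two]; group
      _ = x ^ 3 := by rw [hnx2, h4, h8, e]
  have h2grp : ∀ a ∈ S, ψ a ^ 8 = 1 := fun a ha => by
    have h1 : orderOf (ψ a) ∣ 512 :=
      (orderOf_map_dvd ψ a).trans (hS ▸ Subgroup.orderOf_dvd_natCard S ha)
    have h2 : orderOf (ψ a) ∣ 120 := by
      have := orderOf_dvd_natCard (ψ a)
      rwa [Nat.card_eq_fintype_card, Fintype.card_perm, Fintype.card_fin] at this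
    exact orderOf_dvd_iff_pow_eq_one.1 ((Nat.dvd_gcd h1 h2).trans (by norm_num))
  have hcne : ψ x ≠ 1 := fun h => hnx (hker (MonoidHom.mem_ker.2 h))
  refine perm_check (ψ s) ((hfix s).2 (hSM hsS)) (h2grp s hsS) ?_ (ψ e') ((hfix _).2 e'.2)
    (by rw [← map_pow, ← he, pow_orderOf_eq_one, map_one]) (fun h => hek (MonoidHom.mem_ker.2 h)) ?_
  · intro h2
    have h9 : ψ x ^ 9 = ψ x := by
      have e1 : ψ s * ψ x * (ψ s)⁻¹ = ψ x ^ 3 := by
        rw [← map_pow, ← hsx]; simp only [map_mul, map_inv]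
      calc ψ x ^ 9 = ψ s * (ψ x ^ 3) * (ψ s)⁻¹ := by rw [← conj_pow, e1, ← pow_mul]
        _ = ψ s ^ 2 * ψ x * (ψ s ^ 2)⁻¹ := by rw [← e1, pow_two]; group
        _ = ψ x := by rw [h2, one_mul, inv_one, mul_one]
    have h5' : ψ x ^ 5 = 1 := by rw [← map_pow, e5, map_one]
    have h8 : ψ x ^ 8 = 1 := mul_eq_left.1
      (show ψ x * ψ x ^ 8 = ψ x by rw [← pow_succ', h9])
    exact hcne (by simpa using pow_gcd_eq_one.2 ⟨h5', h8⟩)
  · have hp : (e' : H) * s * (e' : H)⁻¹ ∈ S := hnorm _ e'.2 _ hsS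
    have := h2grp _ (S.mul_mem hsS hp)
    simpa only [map_mul, map_inv] using this

end CfsgLib.M24Nse.Closed
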