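import Cfsg.Agent.Lib.M24Nse.ClosedBase
import Cfsg.Agent.Lib.M24Nse.ClosedFive

/-!
# S3596, piece P4: the centraliser of `z` is not 2-closed
-/

set_option autoImplicit false
set_option linter.unusedSectionVars false
set_option linter.style.haveILetI false

namespace CfsgLib.M24Nse.Closed

open Subgroup CfsgLib.M24Nse.Five

universe u

variable {G : Type u} [Group G] [Finite G] {z v : G} {h : Two z v} {T : Subgroup G}

theorem mem_zp (h : Two z v) {w : G} (hw : w ∈ zpowers z) : w = 1 ∨ w = z := by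
  obtain ⟨i, rfl⟩ := mem_zpowers_iff.1 hw
  rcases Int.even_or_odd i with ⟨j, rfl⟩ | ⟨j, rfl⟩
  · left; rw [← two_mul, zpow_mul, zpow_two, z_sq h, one_zpow]
  · right; rw [zpow_add, zpow_mul, zpow_two, z_sq h, one_zpow, one_mul, zpow_one]

/-- no element of order three centralises both `z` and a conjugate of `v` whose centraliser meets
`T` in half of it -/
theorem no_three (d : TData h T) {u e : G} (hu : IsConj v u)
    (hTu : Nat.card ↥(T ⊓ centralizer ({u} : Set G)) = 512) (he : orderOf e = 3)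
    (hez : Commute e z) (heu : Commute e u) : False := by
  haveI : Fact (Nat.Prime 5) := ⟨Nat.prime_five⟩
  have hCu : Nat.card (centralizer ({u} : Set G)) = 7680 := by
    obtain ⟨c, rfl⟩ := isConj_iff.1 hu
    rw [CfsgLib.M23Nse.Local.card_cent_conj, h.cardv]
  have hou : orderOf u = 2 :=
    (CfsgLib.M23Nse.Local.orderOf_eq_of_isConj hu).trans h.ov
  have hM : Nat.card ↥(centralizer ({z} : Set G) ⊓ centralizer ({u} : Set G)) = 1536 := by
    refine Nat.dvd_antisymm ?_ ?_
    · refine (Nat.dvd_gcd (card_dvd_of_le inf_le_left) (card_dvd_of_le inf_le_right)).trans ?_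
      rw [h.cardz, hCu]; norm_num
    · rw [show 1536 = 512 * 3 by norm_num]
      refine Nat.Coprime.mul_dvd_of_dvd_of_dvd (by norm_num) ?_ ?_
      · rw [← hTu]; exact card_dvd_of_le (inf_le_inf_right _ d.le)
      · rw [← he]
        exact Subgroup.orderOf_dvd_natCard _ ⟨mem_of_commute hez.symm, mem_of_commute heu.symm⟩
  obtain ⟨x, hx'⟩ := exists_prime_orderOf_dvd_card' (G := centralizer ({u} : Set G)) 5
    (by rw [hCu]; norm_num)
  set x0 : G := (x : G) with hx0
  have hx : orderOf x0 = 5 := by rw [hx0, orderOf_coe, hx']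
  have hxu : Commute x0 u := (commute_of_mem x.2).symm
  -- an element of the centraliser of `u` squaring `x`
  obtain ⟨g, hgu, hgx⟩ : ∃ g : G, Commute g u ∧ g * x0 * g⁻¹ = x0 ^ 2 := by
    have hcP : Nat.card (zpowers x0) = 5 ^ (Nat.card G).factorization 5 := by
      rw [Nat.card_zpowers, hx, h.counts.card, show (244823040 : ℕ) = 5 * 48964608 by norm_num,
        Nat.factorization_mul (by norm_num) (by norm_num),
        Finsupp.add_apply, Nat.Prime.factorization_self Nat.prime_five,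
        Nat.factorization_eq_zero_of_not_dvd (by norm_num : ¬ 5 ∣ 48964608)]
      norm_num
    have hN := h.counts.norm5 (Sylow.ofCard (zpowers x0) hcP)
    rw [Sylow.coe_ofCard] at hN
    have hle : centralizer ({x0} : Set G) ≤ normalizer (zpowers x0 : Set G) := by
      rw [← centralizer_closure, ← zpowers_eq_closure]
      exact centralizer_le_normalizer _
    have hgen : Nat.card {y : zpowers x0 // y ≠ 1} = 4 := by
      classical
      haveI := Fintype.ofFinite (zpowers x0)
      rw [Nat.card_eq_fintype_card, Fintype.card_subtype_compl, Fintype.card_subtype_eq,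
        ← Nat.card_eq_fintype_card, Nat.card_zpowers, hx]
    have hgen' : Nat.card {y : G // y ∈ zpowers x0 ∧ y ≠ 1} = 4 := by
      rw [← hgen]
      exact Nat.card_congr
        { toFun := fun y => ⟨⟨y.1, y.2.1⟩, fun e => y.2.2 (congrArg Subtype.val e)⟩
          invFun := fun w => ⟨w.1.1, w.1.2, fun e => w.2 (Subtype.ext e)⟩
          left_inv := fun _ => rfl
          right_inv := fun _ => rfl }
    obtain ⟨n, hn, hnx⟩ := orbit_fill (normalizer (zpowers x0 : Set G)) x0
      (fun y => y ∈ zpowers x0 ∧ y ≠ 1)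
      (fun c hc => ⟨(mem_normalizer_iff.1 hc x0).1 (mem_zpowers x0), fun e => by
        rw [conj_eq_one_iff] at e
        rw [e, orderOf_one] at hx
        omega⟩)
      (by rw [inf_eq_right.2 hle, hgen', h.counts.cent5 x0 hx, hN])
      (y := x0 ^ 2) ⟨pow_mem (mem_zpowers x0) 2, fun e => by
        have := orderOf_dvd_of_pow_eq_one e
        rw [hx] at this
        norm_num at this⟩
    -- correct it inside the centraliser of `x`
    have hxn : Commute x0 (n * u * n⁻¹) := by
      have h1 := hxu.conj n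
      rw [hnx] at h1
      have h6 : (x0 ^ 2) ^ 3 = x0 := by
        rw [← pow_mul, show 2 * 3 = 5 + 1 by norm_num, pow_succ, ← hx, pow_orderOf_eq_one, one_mul]
      exact h6 ▸ h1.pow_left 3
    have hcA : centralizer ({x0} : Set G) ⊓ centralizer ({u} : Set G) =
        centralizer ({x0} : Set G) ⊓ centralizer ({u} : Set G) := rfl
    obtain ⟨c, hc, hcu⟩ := orbit_fill (centralizer ({x0} : Set G)) u
      (fun y => Commute x0 y ∧ orderOf y = 2)
      (fun c hc => ⟨by
        have h1 := hxu.conj c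
        rwa [mul_inv_eq_iff_eq_mul.2 (commute_of_mem hc).eq.symm] at h1,
        by rw [CfsgLib.M22Nse.CountsP1.conj_order, hou]⟩)
      (by
        rw [h.counts.invol5 x0 hx, h.counts.cent5 x0 hx, ← card_cent_eq,
          h.counts.cent52 x0 u hx hou hxu])
      (y := n * u * n⁻¹) ⟨hxn, by rw [CfsgLib.M22Nse.CountsP1.conj_order, hou]⟩
    refine ⟨c⁻¹ * n, commute_of_conj_eq ?_, ?_⟩
    · calc c⁻¹ * n * u * (c⁻¹ * n)⁻¹ = c⁻¹ * (n * u * n⁻¹) * c := by group
        _ = u := by rw [← hcu]; group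
    · calc c⁻¹ * n * x0 * (c⁻¹ * n)⁻¹ = c⁻¹ * (n * x0 * n⁻¹) * c := by group
        _ = c⁻¹ * (x0 ^ 2 * c) := by rw [hnx, mul_assoc]
        _ = x0 ^ 2 := by rw [((commute_of_mem hc).pow_left 2).eq, inv_mul_cancel_left]
  refine no_7680 (H := centralizer ({u} : Set G)) hCu
    ((centralizer ({z} : Set G)).subgroupOf (centralizer ({u} : Set G)))
    (T.subgroupOf (centralizer ({u} : Set G)))
    ?_ (fun a ha => d.le ha) ?_ ?_ ?_ (x := x) (g := ⟨g, mem_of_commute hgu.symm⟩) hx'
    (Subtype.ext (by push_cast; exact hgx))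
  · rw [← inf_subgroupOf_right, Nat.card_congr (subgroupOfEquivOfLe inf_le_right).toEquiv, hM]
  · rw [← inf_subgroupOf_right, Nat.card_congr (subgroupOfEquivOfLe inf_le_right).toEquiv, hTu]
  · intro m hm s hs
    exact d.conj m.1 (commute_of_mem (mem_subgroupOf.1 hm)).symm s.1 hs
  · intro y hy
    have hy5 : orderOf (y : G) = 5 := by rw [orderOf_coe, hy]
    have hyu : Commute (y : G) u := (commute_of_mem y.2).symm
    rw [← h.counts.cent52 (y : G) u hy5 hou hyu]
    exact Nat.card_congr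
      { toFun := fun g => ⟨g.1.1,
          (show Commute (y : G) g.1.1 from congrArg Subtype.val (commute_of_mem g.2).eq),
          commute_of_mem g.1.2⟩
        invFun := fun g => ⟨⟨g.1, mem_of_commute g.2.2⟩,
          mem_of_commute (Subtype.ext g.2.1.eq)⟩
        left_inv := fun _ => rfl
        right_inv := fun _ => rfl }

/-- an involution of `T` conjugate to `v` with a centraliser of index two in `T` -/
theorem exists_u (d : TData h T) :
    ∃ u : G, u ∈ T ∧ IsConj v u ∧ Nat.card ↥(T ⊓ centralizer ({u} : Set G)) = 512 := by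
  haveI : Fact (Nat.Prime 2) := ⟨Nat.prime_two⟩
  obtain ⟨S, hS⟩ := Sylow.exists_subgroup_card_pow_prime (G := centralizer ({v} : Set G)) 2
    (n := 9) (by rw [h.cardv]; norm_num)
  set v' : centralizer ({v} : Set G) := ⟨v, mem_of_commute (Commute.refl v)⟩
  have hvc : zpowers v' ≤ normalizer (S : Set (centralizer ({v} : Set G))) := by
    refine zpowers_le.2 ?_
    have hcv : ∀ k : centralizer ({v} : Set G), v' * k * v'⁻¹ = k := fun k =>
      Subtype.ext (mul_inv_eq_iff_eq_mul.2 (commute_of_mem k.2).eq)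
    exact mem_normalizer_iff.2 fun k => by rw [hcv k]
  have hp : IsPGroup 2 (S ⊔ zpowers v' : Subgroup (centralizer ({v} : Set G))) :=
    (IsPGroup.of_card (n := 9) hS).to_sup_of_normal_left'
      (IsPGroup.of_card (n := 1) (by
        rw [Nat.card_zpowers, pow_one, ← orderOf_coe]; exact h.ov)) hvc
  have hSS : S ⊔ zpowers v' = S := by
    refine (Subgroup.eq_of_le_of_card_ge le_sup_left ?_).symm
    obtain ⟨n, hn⟩ := IsPGroup.iff_card.1 hp
    have h1 : 2 ^ n ∣ 7680 := by rw [← hn, ← h.cardv]; exact card_subgroup_dvd_card _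
    rw [hS, hn]
    refine Nat.pow_le_pow_right (by norm_num) ?_
    by_contra h10
    exact absurd ((pow_dvd_pow 2 (by omega : 10 ≤ n)).trans h1) (by norm_num)
  have hvS : v' ∈ S := hSS ▸ mem_sup_right (mem_zpowers v')
  set S0 := S.map (centralizer ({v} : Set G)).subtype with hS0
  have hS0c : Nat.card S0 = 512 := by
    rw [hS0, Subgroup.card_map_of_injective (subtype_injective _), hS]; norm_num
  obtain ⟨R, hR⟩ := (IsPGroup.of_card (p := 2) (n := 9)
    (show Nat.card S0 = 2 ^ 9 by rw [hS0c]; norm_num)).exists_le_sylow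
  obtain ⟨P, hP⟩ := d.exists_sylow
  obtain ⟨c, hc⟩ := MulAction.exists_smul_eq G R P
  have hmem : ∀ a ∈ S0, c * a * c⁻¹ ∈ T := fun a ha => by
    have h1 : c * a * c⁻¹ ∈ ((c • R : Sylow 2 G) : Subgroup G) :=
      Subgroup.smul_mem_pointwise_smul a (MulAut.conj c) (R : Subgroup G) (hR ha)
    rwa [hc, hP] at h1
  refine ⟨c * v * c⁻¹, hmem v ⟨v', hvS, rfl⟩, isConj_iff.2 ⟨c, rfl⟩, ?_⟩
  have hle : S0.map (MulAut.conj c).toMonoidHom ≤
      T ⊓ centralizer ({c * v * c⁻¹} : Set G) := by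
    rintro _ ⟨a, ha, rfl⟩
    obtain ⟨a', ha', rfl⟩ := ha
    exact ⟨hmem _ ⟨a', ha', rfl⟩,
      mem_of_commute ((commute_of_mem a'.2).conj c)⟩
  have h512 : 512 ≤ Nat.card ↥(T ⊓ centralizer ({c * v * c⁻¹} : Set G)) := by
    rw [← hS0c, ← Subgroup.card_map_of_injective (f := (MulAut.conj c).toMonoidHom)
      (MulAut.conj c).injective]
    exact card_le_of_le hle
  obtain ⟨k, hk, e⟩ := two_pow_of_le (n := 10)
    (inf_le_left : T ⊓ centralizer ({c * v * c⁻¹} : Set G) ≤ T) (by rw [d.card]; norm_num)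
  have hk' : k ≠ 10 := by
    rintro rfl
    have h1 := card_dvd_of_le
      (inf_le_right : T ⊓ centralizer ({c * v * c⁻¹} : Set G) ≤ _)
    rw [e, CfsgLib.M23Nse.Local.card_cent_conj, h.cardv] at h1
    norm_num at h1
  have h9 : 9 ≤ k := by
    by_contra h8
    have : 2 ^ k ≤ 2 ^ 8 := Nat.pow_le_pow_right (by norm_num) (by omega)
    omega
  rw [e, show k = 9 by omega]
  norm_num

/-- the elements that `T` moves by at most `z` -/
def U (d : TData h T) : Subgroup G where
  carrier := {a | a ∈ T ∧ ∀ t ∈ T, Near z t a}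
  one_mem' := ⟨T.one_mem, fun t _ => Or.inl (by group)⟩
  mul_mem' {a b} ha hb := by
    refine ⟨T.mul_mem ha.1 hb.1, fun t ht => ?_⟩
    have e : t * (a * b) * t⁻¹ = (t * a * t⁻¹) * (t * b * t⁻¹) := by group
    rw [Near, e]
    rcases ha.2 t ht with e1 | e1 <;> rcases hb.2 t ht with e2 | e2 <;> rw [e1, e2]
    · exact Or.inl rfl
    · exact Or.inr (mul_assoc a b z).symm
    · exact Or.inr (by rw [mul_assoc, ← (d.comm hb.1).eq, mul_assoc])
    · refine Or.inl ?_
      rw [mul_assoc, ← mul_assoc z, ← (d.comm hb.1).eq, mul_assoc b, z_sq h, mul_one]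
  inv_mem' {a} ha := by
    refine ⟨T.inv_mem ha.1, fun t ht => ?_⟩
    have e : t * a⁻¹ * t⁻¹ = (t * a * t⁻¹)⁻¹ := by group
    rw [Near, e]
    rcases ha.2 t ht with e1 | e1 <;> rw [e1]
    · exact Or.inl rfl
    · exact Or.inr (by
        rw [mul_inv_rev, ((d.comm ha.1).symm.inv_inv).eq, inv_eq_of_mul_eq_one_right (z_sq h)])

theorem U_le (d : TData h T) : U d ≤ T := fun _ ha => ha.1

theorem z_mem_U (d : TData h T) : z ∈ U d :=
  ⟨d.z_mem, fun t ht => Or.inl (mul_inv_eq_iff_eq_mul.2 (d.comm ht).eq)⟩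

theorem U_conj (d : TData h T) {g : G} (hg : Commute g z) {a : G} (ha : a ∈ U d) :
    g * a * g⁻¹ ∈ U d := by
  refine ⟨d.conj g hg a ha.1, fun t ht => ?_⟩
  have ht' : g⁻¹ * t * g ∈ T := by simpa using d.conj g⁻¹ hg.inv_left t ht
  rcases ha.2 _ ht' with e | e
  · exact Or.inl (calc t * (g * a * g⁻¹) * t⁻¹
      = g * (g⁻¹ * t * g * a * (g⁻¹ * t * g)⁻¹) * g⁻¹ := by group
      _ = g * a * g⁻¹ := by rw [e])
  · exact Or.inr (calc t * (g * a * g⁻¹) * t⁻¹
      = g * (g⁻¹ * t * g * a * (g⁻¹ * t * g)⁻¹) * g⁻¹ := by group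
      _ = g * a * (z * g⁻¹) := by rw [e]; group
      _ = g * a * g⁻¹ * z := by rw [← hg.inv_left.eq]; group)

/-- the involution lies in `U` -/
theorem u_mem (d : TData h T) {u : G} (hu : u ∈ T) (huv : IsConj v u)
    (hTu : Nat.card ↥(T ⊓ centralizer ({u} : Set G)) = 512) : u ∈ U d := by
  have hou : orderOf u = 2 := (CfsgLib.M23Nse.Local.orderOf_eq_of_isConj huv).trans h.ov
  set A := (centralizer ({u} : Set G)).subgroupOf T with hA
  have hidx : A.index = 2 := by
    have h1 := A.card_mul_index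
    rw [hA, ← inf_subgroupOf_left,
      Nat.card_congr (subgroupOfEquivOfLe inf_le_left).toEquiv, hTu, d.card] at h1
    rw [hA, ← inf_subgroupOf_left]
    omega
  have hmul : ∀ a b : G, a ∈ T → b ∈ T → ¬ Commute a u → ¬ Commute b u →
      Commute (a * b) u := fun a b ha hb na nb => by
    have := (Subgroup.mul_mem_iff_of_index_two hidx (a := (⟨a, ha⟩ : T)) (b := ⟨b, hb⟩)).2
      (iff_of_false (fun e => na (commute_of_mem (mem_subgroupOf.1 e)).symm)
        (fun e => nb (commute_of_mem (mem_subgroupOf.1 e)).symm))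
    exact (commute_of_mem (mem_subgroupOf.1 this)).symm
  have huA : Commute u u := Commute.refl u
  refine ⟨hu, fun t ht => ?_⟩
  by_cases htu : Commute t u
  · exact Or.inl (mul_inv_eq_iff_eq_mul.2 htu.eq)
  set u' := t * u * t⁻¹ with hu'
  have ntu : ¬ Commute t⁻¹ u := fun e => htu (by simpa using e.inv_left)
  -- the commutator is central
  have hAu' : ∀ a ∈ T, Commute a u → Commute a u' := fun a ha hau => by
    have h1 : Commute (t⁻¹ * a * t) u := by
      have nat' : ¬ Commute (t⁻¹ * a) u := fun e => ntu (by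
        have := e.mul_left hau.inv_left
        simpa using this)
      exact hmul _ _ (T.mul_mem (T.inv_mem ht) ha) ht nat' htu
    simpa [hu', mul_assoc] using h1.conj t
  have htu' : t * u' * t⁻¹ = u := by
    rw [hu', show t * (t * u * t⁻¹) * t⁻¹ = t * t * u * (t * t)⁻¹ by group]
    exact mul_inv_eq_iff_eq_mul.2 (hmul t t ht ht htu htu).eq
  have huu' : Commute u u' := hAu' u hu huA
  have hd : ∀ a ∈ T, Commute a (u * u') := by
    have h1 : Commute t (u * u') := commute_of_conj_eq (by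
      calc t * (u * u') * t⁻¹ = (t * u * t⁻¹) * (t * u' * t⁻¹) := by group
        _ = u * u' := by rw [htu', ← hu', huu'.eq])
    intro a ha
    by_cases hau : Commute a u
    · exact hau.mul_right (hAu' a ha hau)
    · have h2 := hmul a t ha ht hau htu
      have h3 : Commute (a * t) (u * u') := h2.mul_right (hAu' _ (T.mul_mem ha ht) h2)
      have := h3.mul_left h1.inv_left
      rwa [mul_inv_cancel_right] at this
  have huu : u * u = 1 := by
    have := pow_orderOf_eq_one u
    rwa [hou, pow_two] at this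
  rcases mem_zp h (d.centre (T.mul_mem hu (T.mul_mem (T.mul_mem ht hu) (T.inv_mem ht))) hd) with e | e
  · exact Or.inl (mul_left_cancel (e.trans huu.symm))
  · exact Or.inr (mul_left_cancel (a := u) (by rw [e, ← mul_assoc, huu, one_mul]))

theorem card_U_ge (d : TData h T) {u : G} (hu : u ∈ T) (huv : IsConj v u)
    (hTu : Nat.card ↥(T ⊓ centralizer ({u} : Set G)) = 512) : 44 ≤ Nat.card (U d) := by
  haveI : Fact (Nat.Prime 3) := ⟨Nat.prime_three⟩
  have huU := u_mem d hu huv hTu
  have hou : orderOf u = 2 := (CfsgLib.M23Nse.Local.orderOf_eq_of_isConj huv).trans h.ov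
  have hCu : Nat.card (centralizer ({u} : Set G)) = 7680 := by
    obtain ⟨c, rfl⟩ := isConj_iff.1 huv
    rw [CfsgLib.M23Nse.Local.card_cent_conj, h.cardv]
  have hM : Nat.card ↥(centralizer ({z} : Set G) ⊓ centralizer ({u} : Set G)) = 512 := by
    have h1 : Nat.card ↥(centralizer ({z} : Set G) ⊓ centralizer ({u} : Set G)) ∣ 512 * 3 := by
      refine (Nat.dvd_gcd (card_dvd_of_le inf_le_left) (card_dvd_of_le inf_le_right)).trans ?_
      rw [h.cardz, hCu]; norm_num
    have h3 : ¬ 3 ∣ Nat.card ↥(centralizer ({z} : Set G) ⊓ centralizer ({u} : Set G)) := fun h3 => by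
      obtain ⟨e, he, heo⟩ := CfsgLib.M23Nse.Local.exists_order 3 h3
      exact no_three d huv hTu heo (commute_of_mem he.1).symm (commute_of_mem he.2).symm
    refine Nat.dvd_antisymm
      (((Nat.Prime.coprime_iff_not_dvd Nat.prime_three).2 h3).symm.dvd_of_dvd_mul_right h1) ?_
    rw [← hTu]
    exact card_dvd_of_le (inf_le_inf_right _ d.le)
  have horb := orbit_card (centralizer ({z} : Set G)) u
  rw [hM, h.cardz] at horb
  haveI := Fintype.ofFinite {y : G // ∃ c ∈ centralizer ({z} : Set G), c * u * c⁻¹ = y}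
  let f : Option (Option {y : G // ∃ c ∈ centralizer ({z} : Set G), c * u * c⁻¹ = y}) → U d :=
    fun o => o.elim ⟨1, (U d).one_mem⟩ fun o => o.elim ⟨z, z_mem_U d⟩ fun y => ⟨y.1, by
      obtain ⟨c, hc, e⟩ := y.2
      exact e ▸ U_conj d (commute_of_mem hc).symm huU⟩
  have hne : ∀ y : {y : G // ∃ c ∈ centralizer ({z} : Set G), c * u * c⁻¹ = y},
      y.1 ≠ 1 ∧ y.1 ≠ z := by
    rintro ⟨y, c, -, rfl⟩
    refine ⟨fun (e : c * u * c⁻¹ = 1) => ?_, fun (e : c * u * c⁻¹ = z) => ?_⟩
    · rw [conj_eq_one_iff] at e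
      rw [e, orderOf_one] at hou
      omega
    · exact h.not_conj (huv.trans (isConj_iff.2 ⟨c, e⟩))
  have hf : Function.Injective f := by
    rintro (_ | _ | a) (_ | _ | b) e <;>
      have e' := congrArg Subtype.val e <;> simp only [f, Option.elim] at e'
    · rfl
    · exact absurd e'.symm (z_ne_one h)
    · exact absurd e'.symm (hne b).1
    · exact absurd e' (z_ne_one h)
    · rfl
    · exact absurd e'.symm (hne b).2
    · exact absurd e' (hne a).1
    · exact absurd e' (hne a).2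
    · rw [Subtype.ext e']
  have h2 := Nat.card_le_card_of_injective f hf
  rw [Finite.card_option, Finite.card_option] at h2
  omega

/-- the finish -/
theorem false_of_tdata (d : TData h T) : False := by
  obtain ⟨p, hp, hpz⟩ := exists_seven_elt h
  obtain ⟨u, hu, huv, hTu⟩ := exists_u d
  have hU44 := card_U_ge d hu huv hTu
  have hpN : ∀ W : Subgroup G, (∀ g : G, Commute g z → ∀ a ∈ W, g * a * g⁻¹ ∈ W) →
      p ∈ normalizer (W : Set G) := fun W hW => mem_normalizer_iff.2 fun k =>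
    ⟨hW p hpz k, fun hk => by simpa [mul_assoc] using hW p⁻¹ hpz.inv_left _ hk⟩
  have hUc : ∀ g : G, Commute g z → ∀ a ∈ U d, g * a * g⁻¹ ∈ U d := fun g hg a ha => U_conj d hg ha
  obtain ⟨a, ha, hUa, hamod⟩ := d.card_mod hp hpz (U_le d) (z_mem_U d) (hpN _ hUc)
  set C1 := T ⊓ centralizer (U d : Set G) with hC1
  have hzC1 : z ∈ C1 := ⟨d.z_mem, mem_centralizer_iff.2 fun x hx => (d.comm hx.1).eq⟩
  have hC1c : ∀ g : G, Commute g z → ∀ a ∈ C1, g * a * g⁻¹ ∈ C1 := fun g hg a ha =>
    ⟨d.conj g hg a ha.1, mem_centralizer_iff.2 fun x hx => by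
      have h1 : Commute (g⁻¹ * x * g) a := mem_centralizer_iff.1 ha.2 _ (by
        simpa using U_conj d hg.inv_left hx)
      simpa [mul_assoc] using (h1.conj g).eq⟩
  obtain ⟨c, hc, hCc, hcmod⟩ := d.card_mod hp hpz inf_le_left hzC1 (hpN _ hC1c)
  have hctr : U d ⊓ centralizer (T : Set G) = zpowers z :=
    le_antisymm (fun x hx => d.centre hx.1.1 fun t ht => mem_centralizer_iff.1 hx.2 t ht)
      (zpowers_le.2 (mem_inf.2 ⟨z_mem_U d, mem_centralizer_iff.2 fun t ht => (d.comm ht).eq⟩))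
  have hnear : ∀ x ∈ U d, ∀ t ∈ T, Near z x t := fun x hx t ht =>
    (near_iff (z_sq h) (d.comm ht) (d.comm hx.1)).2 (hx.2 t ht)
  have hnear' : ∀ t ∈ T, ∀ x ∈ U d, Near z t x := fun t ht x hx => hx.2 t ht
  have hTc : Nat.card ↥(T ⊓ centralizer (U d : Set G)) = 2 ^ c := hCc
  have hp1 := pair_le (A := U d) (B := T) hnear (n := 10 - c) (by
    rw [hTc, d.card, ← pow_add, show 10 - c + c = 10 by omega]; norm_num)
  have hp2 := pair_le (A := T) (B := U d) hnear' (n := a - 1) (by
    rw [hctr, Nat.card_zpowers, h.oz, hUa, ← pow_succ]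
    exact Nat.pow_le_pow_right (by norm_num) (by omega))
  rw [hctr, Nat.card_zpowers, h.oz, hUa, ← pow_succ] at hp1
  rw [hTc, d.card, ← pow_add] at hp2
  have hp1' := (Nat.pow_le_pow_iff_right (by norm_num : 1 < 2)).1 hp1
  have hp2' := (Nat.pow_le_pow_iff_right (by norm_num : 1 < 2)).1
    (show 2 ^ 10 ≤ 2 ^ (a - 1 + c) by simpa using hp2)
  have ha7 : a = 7 ∨ a = 10 := by
    rw [hUa] at hU44
    interval_cases a <;> omega
  rcases ha7 with rfl | rfl
  swap
  · -- `U = T`
    have hUT : U d = T := Subgroup.eq_of_le_of_card_ge (U_le d) (by rw [hUa, d.card]; norm_num)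
    have hTT : T ⊓ centralizer (T : Set G) = zpowers z := by
      have := hctr
      rwa [hUT] at this
    obtain ⟨r, hr⟩ := square_index (z := z) (Nat.card T) T le_rfl d.zp_le (mem_zpowers z)
      (fun x hx => d.comm hx) hTT (fun x hx y hy => (hUT ▸ hnear) x hx y hy)
    rw [d.card, Nat.card_zpowers, h.oz] at hr
    have h512 : 2 ^ (2 * r) = 2 ^ 9 := by rw [pow_mul]; norm_num; omega
    have := Nat.pow_right_injective le_rfl h512
    omega
  have hc4 : c = 4 := by omega
  subst hc4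
  -- the centre of `U`
  obtain ⟨b, -, hbc, hbmod⟩ := d.card_mod hp hpz ((inf_le_left : U d ⊓ C1 ≤ U d).trans (U_le d))
    (W := U d ⊓ C1) ⟨z_mem_U d, hzC1⟩
    (hpN _ fun g hg x hx => ⟨hUc g hg x hx.1, hC1c g hg x hx.2⟩)
  have hb4 : b ≤ 4 := by
    have h1 := card_le_of_le (inf_le_right : U d ⊓ C1 ≤ C1)
    rw [hbc, hCc] at h1
    exact (Nat.pow_le_pow_iff_right (by norm_num : 1 < 2)).1 h1
  have hUU : U d ⊓ centralizer (U d : Set G) = U d ⊓ C1 := by
    ext x
    simp only [hC1, mem_inf]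
    exact ⟨fun hx => ⟨hx.1, U_le d hx.1, hx.2⟩, fun hx => ⟨hx.1, hx.2.2⟩⟩
  obtain ⟨r, hr⟩ := square_index (z := z) (Nat.card (U d)) (U d) le_rfl
    (inf_le_left : U d ⊓ C1 ≤ U d) ⟨z_mem_U d, hzC1⟩
    (fun x hx => d.comm hx.1) hUU (fun x hx y hy => hy.2 x hx.1)
  rw [hUa, hbc] at hr
  have hb1 : b = 1 := by
    have h7 : 2 ^ (2 * r + b) = 2 ^ 7 := by rw [pow_add, pow_mul]; norm_num at hr ⊢; omega
    have := Nat.pow_right_injective le_rfl h7
    interval_cases b <;> omega
  subst hb1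
  have hzeq : U d ⊓ C1 = zpowers z :=
    (Subgroup.eq_of_le_of_card_ge (zpowers_le.2 (mem_inf.2 ⟨z_mem_U d, hzC1⟩))
      (by rw [hbc, Nat.card_zpowers, h.oz]; norm_num)).symm
  -- `T` is generated by `U` and `C1`
  have hsup : U d ⊔ C1 = T := by
    refine Subgroup.eq_of_le_of_card_ge (sup_le (U_le d) inf_le_left) ?_
    have h1 := card_mul_card_le (le_sup_left : U d ≤ U d ⊔ C1) (le_sup_right : C1 ≤ U d ⊔ C1)
    rw [hzeq, Nat.card_zpowers, h.oz, hUa, hCc] at h1
    rw [d.card]
    omega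
  -- one element outside with square inside
  obtain ⟨c0, hc0, hc0n, hc0s⟩ : ∃ c0, c0 ∈ C1 ∧ c0 ∉ zpowers z ∧ c0 * c0 ∈ zpowers z := by
    have hexp : ∀ n : ℕ, ∀ w : G, w ∈ C1 → w ∉ zpowers z → w ^ 2 ^ n = 1 →
        ∃ c0, c0 ∈ C1 ∧ c0 ∉ zpowers z ∧ c0 * c0 ∈ zpowers z := by
      intro n
      induction n with
      | zero =>
        intro w _ hw e
        rw [pow_zero, pow_one] at e
        exact absurd (e ▸ one_mem _) hw
      | succ n ih =>
        intro w hwC hw e
        by_cases hww : w * w ∈ zpowers z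
        · exact ⟨w, hwC, hw, hww⟩
        exact ih (w * w) (C1.mul_mem hwC hwC) hww (by rw [← pow_two, ← pow_mul, ← pow_succ', e])
    obtain ⟨w, hwC, hw⟩ : ∃ w ∈ C1, w ∉ zpowers z := SetLike.not_le_iff_exists.1 fun hle => by
      have := card_le_of_le hle
      rw [hCc, Nat.card_zpowers, h.oz] at this
      norm_num at this
    refine hexp 4 w hwC hw (orderOf_dvd_iff_pow_eq_one.1 ?_)
    exact hCc ▸ Subgroup.orderOf_dvd_natCard C1 hwC
  have hpc : ∀ i : ℕ, Commute (p ^ i) z := fun i => hpz.pow_left i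
  have hfree : ∀ k : ℕ, k < 7 → k ≠ 0 → ¬ Commute (p ^ k) c0 := fun k hk hk0 hcm => by
    refine hc0n (d.fixed hp hpz hc0.1 ?_)
    obtain ⟨m, hm⟩ : ∃ m, k * m % 7 = 1 := by
      interval_cases k
      exacts [absurd rfl hk0, ⟨1, rfl⟩, ⟨4, rfl⟩, ⟨5, rfl⟩, ⟨2, rfl⟩, ⟨3, rfl⟩, ⟨6, rfl⟩]
    have e : (p ^ k) ^ m = p := by
      rw [← pow_mul, ← pow_mod_orderOf, hp, hm, pow_one]
    exact e ▸ hcm.pow_left m
  have hmove : ∀ k : ℕ, k < 7 → k ≠ 0 → p ^ k * c0 * (p ^ k)⁻¹ ≠ c0 ∧
      p ^ k * c0 * (p ^ k)⁻¹ ≠ c0 * z := fun k hk hk0 => by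
    refine ⟨fun e => hfree k hk hk0 (commute_of_conj_eq e), fun e => ?_⟩
    refine hfree ((2 * k) % 7) (Nat.mod_lt _ (by norm_num)) (by omega) (commute_of_conj_eq ?_)
    rw [← hp, pow_mod_orderOf, two_mul, pow_add]
    calc p ^ k * p ^ k * c0 * (p ^ k * p ^ k)⁻¹
        = p ^ k * (p ^ k * c0 * (p ^ k)⁻¹) * (p ^ k)⁻¹ := by group
      _ = p ^ k * (c0 * z) * (p ^ k)⁻¹ := by rw [e]
      _ = (p ^ k * c0 * (p ^ k)⁻¹) * (p ^ k * z * (p ^ k)⁻¹) := by group
      _ = c0 * (z * z) := by rw [(hpc k).eq, mul_inv_cancel_right, e, mul_assoc]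
      _ = c0 := by rw [z_sq h, mul_one]
  have horbit : ∀ w ∈ C1, w ∉ zpowers z →
      ∃ i : ℕ, w = p ^ i * c0 * (p ^ i)⁻¹ ∨ w = p ^ i * c0 * (p ^ i)⁻¹ * z := by
    classical
    haveI := Fintype.ofFinite C1
    let f : Fin 7 × Bool → {w : C1 // (w : G) ∉ zpowers z} := fun ib =>
      ⟨⟨p ^ (ib.1 : ℕ) * c0 * (p ^ (ib.1 : ℕ))⁻¹ * cond ib.2 z 1, C1.mul_mem
        (hC1c _ (hpc _) c0 hc0) (by cases ib.2; exacts [C1.one_mem, hzC1])⟩, fun e => by
        refine hc0n ?_
        have h1 : p ^ (ib.1 : ℕ) * c0 * (p ^ (ib.1 : ℕ))⁻¹ ∈ zpowers z := by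
          have hb : cond ib.2 z 1 ∈ zpowers z := by
            cases ib.2
            exacts [one_mem _, mem_zpowers z]
          exact (mul_mem_cancel_right hb).1 e
        rcases mem_zp h h1 with e1 | e1
        · rw [conj_eq_one_iff] at e1
          rw [e1]; exact one_mem _
        · have e2 : c0 = z := by
            rw [mul_inv_eq_iff_eq_mul, ← (hpc _).eq] at e1
            exact mul_left_cancel e1
          rw [e2]; exact mem_zpowers z⟩
    have hf : Function.Injective f := by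
      rintro ⟨i, b⟩ ⟨j, b'⟩ e
      have e' : p ^ (i : ℕ) * c0 * (p ^ (i : ℕ))⁻¹ * cond b z 1 =
          p ^ (j : ℕ) * c0 * (p ^ (j : ℕ))⁻¹ * cond b' z 1 :=
        congrArg (fun t : {w : C1 // (w : G) ∉ zpowers z} => ((t : C1) : G)) e
      have hij : i = j := by
        by_contra hne
        set k := ((i : ℕ) + 7 - (j : ℕ)) % 7 with hk
        have hk0 : k ≠ 0 := fun e0 => hne (Fin.ext (by omega))
        have hpk : p ^ k = (p ^ (j : ℕ))⁻¹ * p ^ (i : ℕ) := by
          rw [eq_inv_mul_iff_mul_eq, ← pow_add, ← pow_mod_orderOf, hp]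
          conv_rhs => rw [← pow_mod_orderOf, hp]
          congr 1
          omega
        have key : p ^ k * c0 * (p ^ k)⁻¹ = c0 ∨ p ^ k * c0 * (p ^ k)⁻¹ = c0 * z := by
          have e2 : p ^ k * c0 * (p ^ k)⁻¹ * cond b z 1 = c0 * cond b' z 1 := by
            have hcb : ∀ q : Bool, Commute (p ^ (j : ℕ))⁻¹ (cond q z 1) := by
              rintro (_ | _)
              exacts [Commute.one_right _, (hpc _).inv_left]
            calc p ^ k * c0 * (p ^ k)⁻¹ * cond b z 1
                = (p ^ (j : ℕ))⁻¹ * (p ^ (i : ℕ) * c0 * (p ^ (i : ℕ))⁻¹) *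
                    ((p ^ (j : ℕ))⁻¹⁻¹ * cond b z 1) := by rw [hpk]; group
              _ = (p ^ (j : ℕ))⁻¹ * (p ^ (i : ℕ) * c0 * (p ^ (i : ℕ))⁻¹ * cond b z 1) *
                    (p ^ (j : ℕ))⁻¹⁻¹ := by rw [((hcb b).inv_left).eq]; group
              _ = c0 * ((p ^ (j : ℕ))⁻¹ * cond b' z 1 * p ^ (j : ℕ)) := by rw [e']; group
              _ = c0 * cond b' z 1 := by rw [(hcb b').eq, inv_mul_cancel_right]
          cases b <;> cases b' <;> simp only [cond_true, cond_false, mul_one] at e2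
          · exact Or.inl e2
          · exact Or.inr e2
          · refine Or.inr ?_
            rw [← mul_left_inj z, e2, mul_assoc, z_sq h, mul_one]
          · exact Or.inl (mul_right_cancel e2)
        exact key.elim (hmove k (Nat.mod_lt _ (by norm_num)) hk0).1
          (hmove k (Nat.mod_lt _ (by norm_num)) hk0).2
      subst hij
      rw [mul_right_inj] at e'
      cases b <;> cases b' <;> simp only [cond_true, cond_false] at e'
      exacts [rfl, absurd e'.symm (z_ne_one h), absurd e' (z_ne_one h), rfl]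
    have hcard : Nat.card {w : C1 // (w : G) ∉ zpowers z} = 14 := by
      rw [Nat.card_eq_fintype_card, Fintype.card_subtype_compl, ← Nat.card_eq_fintype_card,
        ← Nat.card_eq_fintype_card, hCc]
      rw [show Nat.card {w : C1 // (w : G) ∈ zpowers z} = Nat.card (zpowers z) from
        Nat.card_congr (subgroupOfEquivOfLe (zpowers_le.2 hzC1 : zpowers z ≤ C1)).toEquiv,
        Nat.card_zpowers, h.oz]
      norm_num
    intro w hw hwn
    obtain ⟨⟨i, b⟩, e⟩ := ((Nat.bijective_iff_injective_and_card f).2 ⟨hf, by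
      rw [hcard]; simp⟩).2 ⟨⟨w, hw⟩, hwn⟩
    have e' : p ^ (i : ℕ) * c0 * (p ^ (i : ℕ))⁻¹ * cond b z 1 = w :=
      congrArg (fun t : {w : C1 // (w : G) ∉ zpowers z} => ((t : C1) : G)) e
    refine ⟨i, ?_⟩
    cases b
    · exact Or.inl (by simpa using e'.symm)
    · exact Or.inr e'.symm
  have hsq : ∀ w ∈ C1, w * w = 1 ∨ w * w = z := by
    intro w hw
    by_cases hwn : w ∈ zpowers z
    · rcases mem_zp h hwn with rfl | rfl
      exacts [Or.inl (one_mul 1), Or.inl (z_sq h)]
    obtain ⟨i, hi⟩ := horbit w hw hwn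
    have hcz : Commute z (p ^ i * c0 * (p ^ i)⁻¹) :=
      (d.comm (hC1c _ (hpc i) c0 hc0).1).symm
    have e : w * w = p ^ i * (c0 * c0) * (p ^ i)⁻¹ := by
      rcases hi with rfl | rfl
      · group
      · rw [hcz.mul_mul_mul_comm, z_sq h, mul_one]; group
    rw [e]
    rcases mem_zp h hc0s with e1 | e1 <;> rw [e1]
    · exact Or.inl (by group)
    · exact Or.inr (mul_inv_eq_iff_eq_mul.2 (hpc i).eq)
  -- every element of `C1` lies in `U`
  have hle : C1 ≤ U d := fun w hw => by
    refine ⟨hw.1, fun t ht => ?_⟩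
    rw [← hsup] at ht
    have hnorm : C1 ≤ normalizer (U d : Set G) := fun y hy => mem_normalizer_iff.2 fun k =>
      ⟨hUc y (d.comm hy.1) k, fun hk => by
        simpa [mul_assoc] using hUc y⁻¹ (d.comm hy.1).inv_left _ hk⟩
    rw [sup_comm, ← SetLike.mem_coe, coe_mul_of_left_le_normalizer_right _ _ hnorm] at ht
    obtain ⟨y, hy, x, hx, rfl⟩ := Set.mem_mul.1 ht
    have hxw : Commute x w := mem_centralizer_iff.1 hw.2 x hx
    have e0 : y * x * w * (y * x)⁻¹ = y * w * y⁻¹ := by
      rw [mul_assoc y x w, hxw.eq]; group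
    have key : y * w * y⁻¹ = (y * w) * (y * w) * (w * w)⁻¹ * w * (y * y)⁻¹ := by group
    have hwz : Commute w z := d.comm hw.1
    have hzm : ∀ a ∈ C1, a * a ∈ zpowers z := fun a ha => by
      rcases hsq a ha with e | e <;> rw [e]
      exacts [one_mem _, mem_zpowers z]
    set A := (y * w) * (y * w) * (w * w)⁻¹ with hA
    set B := (y * y)⁻¹ with hB
    have hA1 : A ∈ zpowers z :=
      mul_mem (hzm _ (C1.mul_mem hy hw)) (inv_mem (hzm w hw))
    have hAB : A * B ∈ zpowers z := mul_mem hA1 (inv_mem (hzm y hy))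
    have hcA : Commute A w := by
      rcases mem_zp h hA1 with e | e <;> rw [e]
      exacts [Commute.one_left w, hwz.symm]
    rw [Near, e0, key, hcA.eq, mul_assoc w]
    rcases mem_zp h hAB with e | e <;> rw [e]
    · exact Or.inl (mul_one w)
    · exact Or.inr rfl
  have h16 := card_le_of_le (le_inf hle le_rfl : C1 ≤ U d ⊓ C1)
  rw [hCc, hbc] at h16
  norm_num at h16

end CfsgLib.M24Nse.Closed

namespace CfsgLib.M24Nse

universe u

/-- Piece P4: the centraliser of `z` is not 2-closed. -/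
theorem not_closed : StmtNotClosed.{u} := by
  intro G _ _ z v h hc
  obtain ⟨T, d⟩ := Closed.exists_tdata h hc
  exact Closed.false_of_tdata d

end CfsgLib.M24Nse
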