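import Cfsg.Agent.Lib.M24Nse.ClosedTools
import Cfsg.Agent.Lib.M23Nse.LocalBase

/-!
# S3596, piece P4: the normal Sylow 2-subgroup of the centraliser of `z` and its centre
-/

set_option autoImplicit false
set_option linter.unusedSectionVars false
set_option linter.style.haveILetI false

namespace CfsgLib.M24Nse.Closed

open Subgroup CfsgLib.M24Nse.Five

universe u

variable {G : Type u} [Group G] [Finite G]

/-- a normal Sylow 2-subgroup `T` of the centraliser of `z` -/
structure TData {z v : G} (h : Two z v) (T : Subgroup G) : Prop where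
  card : Nat.card T = 1024
  le : T ≤ centralizer ({z} : Set G)
  conj : ∀ g : G, Commute g z → ∀ t ∈ T, g * t * g⁻¹ ∈ T
  two_mem : ∀ g : G, Commute g z → orderOf g ∣ 1024 → g ∈ T

theorem exists_tdata {z v : G} (h : Two z v) (hc : Closed z) : ∃ T, TData h T := by
  obtain ⟨T, hn, hT⟩ := hc
  haveI := hn
  refine ⟨T.map (centralizer ({z} : Set G)).subtype, ⟨?_, map_subtype_le T, ?_, ?_⟩⟩
  · rw [Subgroup.card_map_of_injective (subtype_injective _), hT]
  · rintro g hg _ ⟨t, ht, rfl⟩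
    exact ⟨⟨g, mem_centralizer_singleton_iff.2 hg.eq⟩ * t * ⟨g, mem_centralizer_singleton_iff.2 hg.eq⟩⁻¹,
      hn.conj_mem t ht _, rfl⟩
  · intro g hg hd
    refine ⟨⟨g, mem_centralizer_singleton_iff.2 hg.eq⟩, ?_, rfl⟩
    refine mem_of_coprime_index' ?_
    have h1 := T.card_mul_index
    rw [hT, h.cardz] at h1
    rw [show T.index = 21 by omega, orderOf_mk]
    exact Nat.Coprime.coprime_dvd_left hd (by norm_num)
where
  mem_of_coprime_index' {H : Type u} [Group H] [Finite H] {N : Subgroup H} [N.Normal] {g : H}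
      (hh : (orderOf g).Coprime N.index) : g ∈ N :=
    CfsgLib.M22Nse.CountsP1.mem_of_coprime_index hh

variable {z v : G} {h : Two z v} {T : Subgroup G}

/-- the orbit of `a` under `A` -/
theorem orbit_card (A : Subgroup G) (a : G) :
    Nat.card {y : G // ∃ c ∈ A, c * a * c⁻¹ = y} * Nat.card ↥(A ⊓ centralizer ({a} : Set G)) =
      Nat.card A := by
  set K := (centralizer ({a} : Set G)).subgroupOf A with hK
  have key : ∀ c d : A, ((c : A ⧸ K) = d) ↔ (c : G) * a * (c : G)⁻¹ = (d : G) * a * (d : G)⁻¹ := by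
    intro c d
    rw [QuotientGroup.eq, hK, mem_subgroupOf, mem_centralizer_singleton_iff]
    push_cast
    constructor
    · intro e
      calc (c : G) * a * (c : G)⁻¹ = (c : G) * (a * ((c : G)⁻¹ * d)) * (d : G)⁻¹ := by group
        _ = (c : G) * (((c : G)⁻¹ * d) * a) * (d : G)⁻¹ := by rw [e]
        _ = (d : G) * a * (d : G)⁻¹ := by group
    · intro e
      calc (c : G)⁻¹ * d * a = (c : G)⁻¹ * ((d : G) * a * (d : G)⁻¹) * d := by group
        _ = a * ((c : G)⁻¹ * d) := by rw [← e]; group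
  let f : A ⧸ K → {y : G // ∃ c ∈ A, c * a * c⁻¹ = y} :=
    Quotient.lift (fun c : A => ⟨(c : G) * a * (c : G)⁻¹, c, c.2, rfl⟩) (fun c d e =>
      Subtype.ext ((key c d).1 (Quotient.sound e)))
  have hf : Function.Bijective f := by
    refine ⟨fun p q e => ?_, ?_⟩
    · induction p using QuotientGroup.induction_on with
      | _ c =>
        induction q using QuotientGroup.induction_on with
        | _ d => exact (key c d).2 (congrArg Subtype.val e)
    · rintro ⟨y, c, hc, rfl⟩
      exact ⟨((⟨c, hc⟩ : A) : A ⧸ K), rfl⟩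
  have hKc : Nat.card ↥(A ⊓ centralizer ({a} : Set G)) = Nat.card K := by
    rw [hK, ← inf_subgroupOf_left]
    exact (Nat.card_congr (subgroupOfEquivOfLe inf_le_left).toEquiv).symm
  rw [← Nat.card_congr (Equiv.ofBijective f hf), ← Subgroup.index_eq_card, hKc, mul_comm,
    Subgroup.card_mul_index]

/-- an orbit with as many elements as a property holds everything with the property -/
theorem orbit_fill (A : Subgroup G) (a : G) (P : G → Prop) (hP : ∀ c ∈ A, P (c * a * c⁻¹))
    (hle : Nat.card {y : G // P y} * Nat.card ↥(A ⊓ centralizer ({a} : Set G)) ≤ Nat.card A)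
    {y : G} (hy : P y) : ∃ c ∈ A, c * a * c⁻¹ = y := by
  let f : {y : G // ∃ c ∈ A, c * a * c⁻¹ = y} → {y : G // P y} :=
    fun y => ⟨y.1, by obtain ⟨c, hc, e⟩ := y.2; exact e ▸ hP c hc⟩
  have hf : Function.Injective f := fun p q e =>
    Subtype.ext (congrArg (fun t : {y : G // P y} => t.1) e)
  have hcard : Nat.card {y : G // ∃ c ∈ A, c * a * c⁻¹ = y} = Nat.card {y : G // P y} :=
    le_antisymm (Nat.card_le_card_of_injective f hf)
      (Nat.le_of_mul_le_mul_right (hle.trans_eq (orbit_card A a).symm) Nat.card_pos)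
  obtain ⟨⟨w, hw⟩, e⟩ := ((Nat.bijective_iff_injective_and_card f).2 ⟨hf, hcard⟩).2 ⟨y, hy⟩
  have e' : w = y := congrArg Subtype.val e
  exact e' ▸ hw

theorem z_sq (h : Two z v) : z * z = 1 := by
  have := pow_orderOf_eq_one z
  rwa [h.oz, pow_two] at this

theorem z_ne_one (h : Two z v) : z ≠ 1 := fun e => by
  have := h.oz
  rw [e, orderOf_one] at this
  omega

theorem not_conj_z (h : Two z v) {w : G} (hw : orderOf w = 2)
    (hd : 1024 ∣ Nat.card (centralizer ({w} : Set G))) : IsConj w z := by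
  refine (h.two w hw).resolve_right fun hc => ?_
  obtain ⟨c, rfl⟩ := isConj_iff.1 hc
  rw [← CfsgLib.M23Nse.Local.card_cent_conj c w, h.cardv] at hd
  norm_num at hd

theorem exists_seven_elt (h : Two z v) : ∃ p : G, orderOf p = 7 ∧ Commute p z := by
  haveI : Fact (Nat.Prime 7) := ⟨by norm_num⟩
  obtain ⟨p, hp⟩ := exists_prime_orderOf_dvd_card' (G := centralizer ({z} : Set G)) 7
    (by rw [h.cardz]; norm_num)
  exact ⟨p, by rw [orderOf_coe, hp], (commute_of_mem p.2).symm⟩

namespace TData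

variable (d : TData h T)
include d

theorem comm {t : G} (ht : t ∈ T) : Commute t z := (commute_of_mem (d.le ht)).symm

theorem z_mem : z ∈ T := d.two_mem z (Commute.refl z) (by rw [h.oz]; norm_num)

theorem zp_le : zpowers z ≤ T := zpowers_le.2 d.z_mem

theorem normal_le {g : G} (hg : Commute g z) : g ∈ normalizer (T : Set G) := by
  rw [mem_normalizer_iff]
  refine fun k => ⟨d.conj g hg k, fun hk => ?_⟩
  have := d.conj g⁻¹ hg.inv_left _ hk
  simpa [mul_assoc] using this

theorem fixed {p a : G} (hp : orderOf p = 7) (hpz : Commute p z) (ha : a ∈ T)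
    (hpa : Commute p a) : a ∈ zpowers z := by
  have h14 := h.counts.cent72 p z hp h.oz hpz
  rw [card_cent_eq] at h14
  set W := centralizer ({p} : Set G) ⊓ centralizer ({z} : Set G) with hW
  have haW : a ∈ W := ⟨mem_of_commute hpa, d.le ha⟩
  have hzW : z ∈ W := ⟨mem_of_commute hpz, mem_of_commute (Commute.refl z)⟩
  have hle : T ⊓ W ≤ T := inf_le_left
  have hd : Nat.card ↥(T ⊓ W) ∣ 2 :=
    (Nat.dvd_gcd (d.card ▸ card_dvd_of_le hle)
      ((card_dvd_of_le (inf_le_right : T ⊓ W ≤ W)).trans h14.dvd)).trans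
      (by norm_num)
  have hzp : zpowers z ≤ T ⊓ W := zpowers_le.2 ⟨d.z_mem, hzW⟩
  rw [Subgroup.eq_of_le_of_card_ge hzp
    (by rw [Nat.card_zpowers, h.oz]; exact Nat.le_of_dvd (by norm_num) hd)]
  exact ⟨ha, haW⟩

/-- a normalised subgroup of `T` has two fixed points -/
theorem card_mod {p : G} (hp : orderOf p = 7) (hpz : Commute p z) {W : Subgroup G} (hW : W ≤ T)
    (hz : z ∈ W) (hn : p ∈ normalizer (W : Set G)) :
    ∃ k, k ≤ 10 ∧ Nat.card W = 2 ^ k ∧ 2 ^ k % 7 = 2 := by
  haveI : Fact (Nat.Prime 7) := ⟨by norm_num⟩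
  obtain ⟨k, hk, e⟩ := two_pow_of_le (n := 10) hW (by rw [d.card]; norm_num)
  have hm := fixed_modEq hp W hn
  have hfix : W ⊓ centralizer ({p} : Set G) = zpowers z :=
    le_antisymm (fun a ha => d.fixed hp hpz (hW ha.1) (commute_of_mem ha.2))
      (zpowers_le.2 ⟨hz, mem_of_commute hpz⟩)
  rw [hfix, Nat.card_zpowers, h.oz, e] at hm
  exact ⟨k, hk, e, hm⟩

theorem exists_sylow : ∃ P : Sylow 2 G, (P : Subgroup G) = T := by
  refine ⟨Sylow.ofCard T ?_, Sylow.coe_ofCard _ _⟩
  rw [d.card, h.counts.card, show (244823040 : ℕ) = 2 ^ 10 * 239085 by norm_num,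
    Nat.factorization_mul (by norm_num) (by norm_num),
    Nat.Prime.factorization_pow Nat.prime_two]
  simp [Nat.factorization_eq_zero_of_not_dvd (by norm_num : ¬ 2 ∣ 239085)]

/-- the central involutions of `T` form one orbit of the normaliser, which is trivial -/
theorem central_invol {a : G} (ha : a ∈ T) (hc : ∀ t ∈ T, Commute t a) (h2 : a * a = 1) :
    a ∈ zpowers z := by
  obtain ⟨p, hp, hpz⟩ := exists_seven_elt h
  haveI : Fact (Nat.Prime 2) := ⟨Nat.prime_two⟩
  let Ω : Subgroup G :=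
    { carrier := {w | (w ∈ T ∧ ∀ t ∈ T, Commute t w) ∧ w * w = 1}
      one_mem' := ⟨⟨T.one_mem, fun t _ => Commute.one_right t⟩, one_mul 1⟩
      mul_mem' := fun {x y} hx hy => ⟨⟨T.mul_mem hx.1.1 hy.1.1, fun t ht =>
        (hx.1.2 t ht).mul_right (hy.1.2 t ht)⟩, by
        rw [(hy.1.2 x hx.1.1).symm.mul_mul_mul_comm, hx.2, hy.2, mul_one]⟩
      inv_mem' := fun {x} hx => ⟨⟨T.inv_mem hx.1.1, fun t ht => (hx.1.2 t ht).inv_right⟩, by
        rw [← mul_inv_rev, hx.2, inv_one]⟩ }
  have hΩ : Ω ≤ T := fun w hw => hw.1.1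
  have hzΩ : z ∈ Ω := ⟨⟨d.z_mem, fun t ht => d.comm ht⟩, z_sq h⟩
  set N := normalizer (T : Set G) with hN
  have hNΩ : ∀ n ∈ N, ∀ w ∈ Ω, n * w * n⁻¹ ∈ Ω := fun n hn w hw => by
    refine ⟨⟨(mem_normalizer_iff.1 hn w).1 hw.1.1, fun t ht => ?_⟩, by
      rw [show n * w * n⁻¹ * (n * w * n⁻¹) = n * (w * w) * n⁻¹ by group, hw.2, mul_one,
        mul_inv_cancel]⟩
    have ht' : n⁻¹ * t * n ∈ T := (mem_normalizer_iff.1 hn _).2 (by simpa [mul_assoc] using ht)
    have := (hw.1.2 _ ht').conj n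
    simpa [mul_assoc] using this
  obtain ⟨k, hk, hcard, hmod⟩ := d.card_mod hp hpz hΩ hzΩ (by
    rw [mem_normalizer_iff]
    refine fun w => ⟨hNΩ p (d.normal_le hpz) w, fun hw => ?_⟩
    have := hNΩ p⁻¹ (inv_mem (d.normal_le hpz)) _ hw
    simpa [mul_assoc] using this)
  by_contra haz
  have hk1 : Nat.card (zpowers z) < Nat.card Ω := by
    by_contra hle
    push Not at hle
    exact haz ((Subgroup.eq_of_le_of_card_ge (zpowers_le.2 hzΩ) hle).symm ▸
      (show a ∈ Ω from ⟨⟨ha, hc⟩, h2⟩))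
  rw [Nat.card_zpowers, h.oz, hcard] at hk1
  -- the orbit
  have hord : ∀ w ∈ Ω, w ≠ 1 → orderOf w = 2 := fun w hw hne =>
    orderOf_eq_prime (by rw [pow_two]; exact hw.2) hne
  obtain ⟨P, hPT⟩ := d.exists_sylow
  have horb : ∀ y, (∃ n ∈ N, n * z * n⁻¹ = y) ↔ y ∈ Ω ∧ y ≠ 1 := by
    intro y
    constructor
    · rintro ⟨n, hn, rfl⟩
      exact ⟨hNΩ n hn z hzΩ, fun e => z_ne_one h (conj_eq_one_iff.1 e)⟩
    · rintro ⟨hy, hne⟩
      have hTy : T ≤ centralizer ({y} : Set G) := fun t ht => mem_of_commute (hy.1.2 t ht).symm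
      obtain ⟨g, hg⟩ := isConj_iff.1 (not_conj_z h (hord y hy hne)
        (d.card ▸ card_dvd_of_le hTy)).symm
      have hzc : z ∈ centralizer ((P : Subgroup G) : Set G) :=
        mem_centralizer_iff.2 fun t ht => (d.comm (hPT ▸ ht)).eq
      have hyc : (g⁻¹)⁻¹ * z * g⁻¹ ∈ centralizer ((P : Subgroup G) : Set G) := by
        rw [inv_inv, hg]
        exact mem_centralizer_iff.2 fun t ht => (hy.1.2 t (hPT ▸ ht)).eq
      obtain ⟨n, hn, e⟩ := P.conj_eq_normalizer_conj_of_mem_centralizer z g⁻¹ hzc hyc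
      refine ⟨n⁻¹, ?_, ?_⟩
      · rw [hN, ← hPT]; exact inv_mem hn
      · rw [inv_inv, ← e, inv_inv, hg]
  have hcnt : Nat.card {y : G // ∃ n ∈ N, n * z * n⁻¹ = y} + 1 = 2 ^ k := by
    rw [Nat.card_congr (Equiv.subtypeEquivRight horb), ← hcard]
    have e : Nat.card {y : G // y ∈ Ω ∧ y ≠ 1} = Nat.card {w : Ω // w ≠ 1} :=
      Nat.card_congr
        { toFun := fun y => ⟨⟨y.1, y.2.1⟩, fun e => y.2.2 (congrArg Subtype.val e)⟩
          invFun := fun w => ⟨w.1.1, w.1.2, fun e => w.2 (Subtype.ext e)⟩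
          left_inv := fun _ => rfl
          right_inv := fun _ => rfl }
    rw [e]
    classical
    haveI := Fintype.ofFinite Ω
    rw [Nat.card_eq_fintype_card, Fintype.card_subtype_compl, Fintype.card_subtype_eq,
      Nat.card_eq_fintype_card]
    have := Fintype.card_pos (α := Ω)
    omega
  have hNz : N ⊓ centralizer ({z} : Set G) = centralizer ({z} : Set G) :=
    inf_eq_right.2 fun g hg => d.normal_le (commute_of_mem hg).symm
  have hprod := orbit_card N z
  rw [hNz, h.cardz] at hprod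
  set o := Nat.card {y : G // ∃ n ∈ N, n * z * n⁻¹ = y}
  have hdvd : o * 21504 ∣ 11385 * 21504 := by
    rw [hprod, show 11385 * 21504 = 244823040 by norm_num, ← h.counts.card]
    exact card_subgroup_dvd_card N
  have ho : o ∣ 11385 := (Nat.mul_dvd_mul_iff_right (by norm_num : 0 < 21504)).1 hdvd
  have hk4 : k = 4 := by
    interval_cases k <;> first | omega | (simp at hmod; done) | skip
    all_goals
      rw [show o = _ from Nat.eq_sub_of_add_eq hcnt] at ho
      norm_num at ho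
  subst hk4
  rw [show o = 15 by omega] at hprod
  -- the normaliser of order `1024 * 315`
  set T' := T.subgroupOf N with hT'
  haveI : T'.Normal := normal_in_normalizer
  have hT'c : Nat.card T' = 1024 := by
    rw [Nat.card_congr (subgroupOfEquivOfLe le_normalizer).toEquiv, d.card]
  have hQ : Nat.card (N ⧸ T') = 315 := by
    have := T'.card_mul_index
    rw [hT'c, ← hprod, Subgroup.index_eq_card] at this
    omega
  obtain ⟨q, hq⟩ := exists_thirtyfive hQ
  obtain ⟨g, rfl⟩ := QuotientGroup.mk_surjective q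
  obtain ⟨m, hm⟩ := (hq ▸ orderOf_map_dvd (QuotientGroup.mk' T') g : 35 ∣ orderOf g)
  have hg35 : orderOf ((g : G) ^ m) = 35 := by
    rw [← Subgroup.coe_pow, orderOf_coe, orderOf_pow' _ (by
      rintro rfl; exact (orderOf_pos g).ne' (by simpa using hm)), hm, Nat.gcd_mul_left_left,
      Nat.mul_div_cancel]
    exact Nat.pos_of_ne_zero (by rintro rfl; exact (orderOf_pos g).ne' (by simpa using hm))
  have hb : orderOf (((g : G) ^ m) ^ 5) = 7 := by
    rw [orderOf_pow' _ (by norm_num), hg35]; norm_num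
  have h35 := Subgroup.orderOf_dvd_natCard (centralizer ({((g : G) ^ m) ^ 5} : Set G))
    (mem_of_commute ((Commute.refl ((g : G) ^ m)).pow_left 5))
  rw [hg35, h.counts.cent7 _ hb] at h35
  norm_num at h35

/-- the centre of `T` has order two -/
theorem centre {a : G} (ha : a ∈ T) (hc : ∀ t ∈ T, Commute t a) : a ∈ zpowers z := by
  obtain ⟨p, hp, hpz⟩ := exists_seven_elt h
  by_contra haz
  have hzz : ∀ {w : G}, w ∈ zpowers z → w = 1 ∨ w = z := by
    intro w hw
    obtain ⟨i, rfl⟩ := mem_zpowers_iff.1 hw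
    rcases Int.even_or_odd i with ⟨j, rfl⟩ | ⟨j, rfl⟩
    · left; rw [← two_mul, zpow_mul, zpow_two, z_sq h, one_zpow]
    · right; rw [zpow_add, zpow_mul, zpow_two, z_sq h, one_zpow, one_mul, zpow_one]
  have hord : orderOf a ∣ 2 ^ 10 := by
    rw [show (2 : ℕ) ^ 10 = Nat.card T by rw [d.card]; norm_num]
    exact Subgroup.orderOf_dvd_natCard T ha
  -- an element outside the subgroup with its square inside
  obtain ⟨c, hcT, hcc, hcn, hc2⟩ : ∃ c, c ∈ T ∧ (∀ t ∈ T, Commute t c) ∧ c ∉ zpowers z ∧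
      c * c ∈ zpowers z := by
    have : ∀ n : ℕ, ∀ b : G, b ∈ T → (∀ t ∈ T, Commute t b) → b ∉ zpowers z → b ^ 2 ^ n = 1 →
        ∃ c, c ∈ T ∧ (∀ t ∈ T, Commute t c) ∧ c ∉ zpowers z ∧ c * c ∈ zpowers z := by
      intro n
      induction n with
      | zero =>
        intro b _ _ hb e
        rw [pow_zero, pow_one] at e
        exact absurd (e ▸ one_mem _) hb
      | succ n ih =>
        intro b hbT hbc hb e
        by_cases hbb : b * b ∈ zpowers z
        · exact ⟨b, hbT, hbc, hb, hbb⟩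
        refine ih (b * b) (T.mul_mem hbT hbT) (fun t ht => (hbc t ht).mul_right (hbc t ht)) hbb ?_
        rw [← pow_two, ← pow_mul, ← pow_succ', e]
    exact this 10 a ha hc haz (orderOf_dvd_iff_pow_eq_one.1 hord)
  have hcz : c * c = z := (hzz hc2).resolve_left fun e => hcn (d.central_invol hcT hcc e)
  set c' := p * c * p⁻¹ with hc'
  have hpN := d.normal_le hpz
  have hc'T : c' ∈ T := (mem_normalizer_iff.1 hpN c).1 hcT
  have hc'c : ∀ t ∈ T, Commute t c' := fun t ht => by
    have ht' : p⁻¹ * t * p ∈ T := (mem_normalizer_iff.1 hpN _).2 (by simpa [mul_assoc] using ht)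
    simpa [hc', mul_assoc] using (hcc _ ht').conj p
  have hc'2 : c' * c' = z := by
    rw [hc', show p * c * p⁻¹ * (p * c * p⁻¹) = p * (c * c) * p⁻¹ by group, hcz, hpz.eq,
      mul_inv_cancel_right]
  have hdiff : c⁻¹ * c' ∈ zpowers z := by
    refine d.central_invol (T.mul_mem (T.inv_mem hcT) hc'T)
      (fun t ht => (hcc t ht).inv_right.mul_right (hc'c t ht)) ?_
    rw [(hc'c c hcT).symm.inv_right.mul_mul_mul_comm, hc'2, ← mul_inv_rev, hcz, inv_mul_cancel]
  rcases hzz hdiff with e | e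
  · exact hcn (d.fixed hp hpz hcT (commute_of_conj_eq (inv_mul_eq_one.1 e).symm))
  · have e1 : c' = c * z := by rw [← e, mul_inv_cancel_left]
    have h2 : Commute (p ^ 2) c := by
      refine commute_of_conj_eq ?_
      calc p ^ 2 * c * (p ^ 2)⁻¹ = p * c' * p⁻¹ := by rw [hc', pow_two]; group
        _ = p * c * p⁻¹ * (p * z * p⁻¹) := by rw [e1]; group
        _ = c * (z * z) := by rw [hpz.eq, mul_inv_cancel_right, ← hc', e1, mul_assoc]
        _ = c := by rw [z_sq h, mul_one]
    have hp2 : (p ^ 2) ^ 4 = p := by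
      rw [← pow_mul, show 2 * 4 = 7 + 1 by norm_num, pow_succ, ← hp, pow_orderOf_eq_one, one_mul]
    exact hcn (d.fixed hp hpz hcT (hp2 ▸ h2.pow_left 4))

end TData

end CfsgLib.M24Nse.Closed
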