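import Cfsg.Agent.Lib.M24Nse.Defs
import Cfsg.Agent.Lib.Small.Order168
import Cfsg.Agent.Lib.Small.A6Centralizer
import Cfsg.Agent.Lib.Spor.TransvectionFive
import Cfsg.Agent.Lib.Classical.PSLSimple

/-!
# S3596, piece P3: tools

Fixed points of elements of prime order on normalised subgroups, and a bound on the fixed points of
an element of order three on a 2-group on which a group of order 21 acts.
-/

set_option autoImplicit false
set_option linter.unusedSectionVars false
set_option linter.style.haveILetI false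

namespace CfsgLib.M24Nse.Five

open Subgroup

universe u

variable {H : Type u} [Group H]

theorem commute_of_mem {g a : H} (h : a ∈ centralizer ({g} : Set H)) : Commute g a :=
  (mem_centralizer_singleton_iff.1 h).symm

theorem mem_of_commute {g a : H} (h : Commute g a) : a ∈ centralizer ({g} : Set H) :=
  mem_centralizer_singleton_iff.2 h.symm.eq

theorem conj_order (c g : H) : orderOf (c * g * c⁻¹) = orderOf g :=
  (MulAut.conj c).orderOf_eq g

theorem commute_of_conj_eq {c g : H} (h : c * g * c⁻¹ = g) : Commute c g :=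
  mul_inv_eq_iff_eq_mul.1 h

theorem card_cent_eq (x y : H) :
    Nat.card {g : H // Commute x g ∧ Commute y g} =
      Nat.card ↥(centralizer ({x} : Set H) ⊓ centralizer ({y} : Set H)) :=
  Nat.card_congr (Equiv.subtypeEquivRight fun _ =>
    ⟨fun h => ⟨mem_of_commute h.1, mem_of_commute h.2⟩,
      fun h => ⟨commute_of_mem h.1, commute_of_mem h.2⟩⟩)

variable [Finite H]

/-- the fixed points of a `p`-element acting by conjugation count a normalised subgroup modulo `p` -/
theorem fixed_modEq {p : ℕ} [Fact p.Prime] {u : H} (hu : orderOf u = p) (R : Subgroup H)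
    (hn : u ∈ normalizer (R : Set H)) :
    Nat.card R ≡ Nat.card ↥(R ⊓ centralizer ({u} : Set H)) [MOD p] := by
  classical
  let ρ : zpowers u →* MulAut R :=
    (normalizerMonoidHom R).comp (inclusion (zpowers_le.2 hn))
  letI : MulAction (zpowers u) R := MulAction.compHom R ρ
  have hp : IsPGroup p (zpowers u) :=
    IsPGroup.of_card (n := 1) (by rw [Nat.card_zpowers, hu, pow_one])
  refine (hp.card_modEq_card_fixedPoints (α := R)).trans (congrArg (· % p) (Nat.card_congr ?_))
  have key : ∀ (g : zpowers u) (r : R), ((g • r : R) : H) = (g : H) * r * (g : H)⁻¹ :=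
    fun g r => rfl
  exact
    { toFun := fun r => ⟨(r.1 : H), r.1.2, mem_of_commute (commute_of_conj_eq (by
        have e : ((⟨u, mem_zpowers u⟩ : zpowers u) • r.1 : R) = r.1 := r.2 ⟨u, mem_zpowers u⟩
        have e' := congrArg Subtype.val e
        rwa [key] at e'))⟩
      invFun := fun r => ⟨⟨r.1, r.2.1⟩, fun g => Subtype.ext (by
        rw [key]
        obtain ⟨i, hi⟩ := mem_zpowers_iff.1 g.2
        rw [← hi]
        exact mul_inv_eq_iff_eq_mul.2 ((commute_of_mem r.2.2).zpow_left i).eq)⟩
      left_inv := fun r => rfl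
      right_inv := fun r => rfl }

omit [Finite H] in
/-- the cardinal of a subgroup of a 2-group is a power of 2 -/
theorem two_pow_of_le {A B : Subgroup H} {n : ℕ} (h : A ≤ B) (hB : Nat.card B = 2 ^ n) :
    ∃ k ≤ n, Nat.card A = 2 ^ k :=
  (Nat.dvd_prime_pow Nat.prime_two).1 (hB ▸ card_dvd_of_le h)

/-- two subgroups inside a third -/
theorem card_mul_card_le {A B T : Subgroup H} (hA : A ≤ T) (hB : B ≤ T) :
    Nat.card A * Nat.card B ≤ Nat.card T * Nat.card ↥(A ⊓ B) := by
  have e1 : Nat.card ↥(A ⊓ B) * B.relIndex A = Nat.card A := by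
    rw [← inf_relIndex_right B A, inf_comm B A, ← relIndex_bot_left, ← relIndex_bot_left]
    exact relIndex_mul_relIndex _ _ _ bot_le inf_le_left
  have e2 : Nat.card B * B.relIndex T = Nat.card T := by
    rw [← relIndex_bot_left, ← relIndex_bot_left]
    exact relIndex_mul_relIndex _ _ _ bot_le hB
  have h1 : B.relIndex A ≤ B.relIndex T :=
    relIndex_le_of_le_right hA index_ne_zero_of_finite
  rw [← e1, ← e2]
  calc Nat.card ↥(A ⊓ B) * B.relIndex A * Nat.card B
      ≤ Nat.card ↥(A ⊓ B) * B.relIndex T * Nat.card B :=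
        Nat.mul_le_mul_right _ (Nat.mul_le_mul_left _ h1)
    _ = Nat.card B * B.relIndex T * Nat.card ↥(A ⊓ B) := by ring

/-- an element of order three in a group of order 21504 normalises a Sylow 7-subgroup -/
theorem exists_seven_normalized (hH : Nat.card H = 21504) {e : H} (he : orderOf e = 3) :
    ∃ q : H, orderOf q = 7 ∧ e * q * e⁻¹ ∈ zpowers q := by
  classical
  haveI : Fact (Nat.Prime 7) := ⟨by norm_num⟩
  haveI : Fact (Nat.Prime 3) := ⟨Nat.prime_three⟩
  obtain ⟨Q⟩ := (inferInstance : Nonempty (Sylow 7 H))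
  have hQc : ∀ R : Sylow 7 H, Nat.card (R : Subgroup H) = 7 := fun R => by
    have h := R.card_eq_multiplicity
    rw [hH, show (21504 : ℕ) = 7 * 3072 from rfl, Nat.factorization_mul (by norm_num) (by norm_num),
      Finsupp.add_apply, Nat.Prime.factorization_self (by norm_num),
      Nat.factorization_eq_zero_of_not_dvd (by norm_num : ¬ 7 ∣ 3072)] at h
    simpa using h
  have hdvd : Nat.card (Sylow 7 H) ∣ 2 ^ 10 * 3 := by
    have h := Q.card_dvd_index
    have h2 := Subgroup.card_mul_index (Q : Subgroup H)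
    rw [hQc Q, hH] at h2
    have : (Q : Subgroup H).index = 2 ^ 10 * 3 := by norm_num; omega
    rwa [this] at h
  have hmod : Nat.card (Sylow 7 H) % 7 = 1 := card_sylow_modEq_one 7 H
  have h3 : ¬ 3 ∣ Nat.card (Sylow 7 H) := by
    intro h3
    obtain ⟨m, hm⟩ := h3
    rw [hm, mul_comm (2 ^ 10) 3] at hdvd
    obtain ⟨k, hk, rfl⟩ := (Nat.dvd_prime_pow Nat.prime_two).1
      (Nat.dvd_of_mul_dvd_mul_left (by norm_num) hdvd)
    rw [hm] at hmod
    interval_cases k <;> simp_all
  have hE : IsPGroup 3 (zpowers e) :=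
    IsPGroup.of_card (n := 1) (by rw [Nat.card_zpowers, he, pow_one])
  have hne : Nonempty (MulAction.fixedPoints (zpowers e) (Sylow 7 H)) := by
    by_contra hc
    rw [not_nonempty_iff] at hc
    have h := hE.card_modEq_card_fixedPoints (Sylow 7 H)
    rw [Nat.card_of_isEmpty (α := MulAction.fixedPoints (zpowers e) (Sylow 7 H))] at h
    exact h3 (Nat.modEq_zero_iff_dvd.1 h)
  obtain ⟨R, hR⟩ := hne
  obtain ⟨q, hq⟩ := exists_prime_orderOf_dvd_card' (G := (R : Subgroup H)) 7 (by rw [hQc R])
  have hgen : zpowers (q : H) = (R : Subgroup H) :=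
    eq_of_le_of_card_ge (zpowers_le.2 q.2) (by rw [Nat.card_zpowers, orderOf_coe, hq, hQc R])
  refine ⟨q, by rw [orderOf_coe, hq], ?_⟩
  have h : e • R = R := hR ⟨e, mem_zpowers e⟩
  rw [Sylow.smul_eq_iff_mem_normalizer] at h
  rw [hgen]
  exact (mem_normalizer_iff.1 h _).1 q.2

variable {G : Type u} [Group G] [Finite G]

/-- an element of order three fixes at most the square root of twice a 2-group normal in the
centraliser -/
theorem cent_three_sq {z e : G} (hC : Nat.card (centralizer ({z} : Set G)) = 21504)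
    (h14 : ∀ q : G, orderOf q = 7 → Commute q z →
      Nat.card {g : G // Commute q g ∧ Commute z g} = 14)
    (T : Subgroup G) {n : ℕ} (hTc : Nat.card T = 2 ^ n) (hT : T ≤ centralizer ({z} : Set G))
    (hn : centralizer ({z} : Set G) ≤ normalizer (T : Set G))
    (he : orderOf e = 3) (hez : Commute z e) :
    Nat.card ↥(T ⊓ centralizer ({e} : Set G)) * Nat.card ↥(T ⊓ centralizer ({e} : Set G))
      ≤ 2 * Nat.card T := by
  obtain ⟨q0, hq0, hnorm0⟩ := exists_seven_normalized (H := centralizer ({z} : Set G)) hC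
    (e := ⟨e, mem_of_commute hez⟩) (by rw [orderOf_mk]; exact he)
  set q : G := (q0 : G) with hqdef
  have hq : orderOf q = 7 := by rw [hqdef, orderOf_coe, hq0]
  have hqz : Commute q z := (commute_of_mem q0.2).symm
  obtain ⟨i, hi⟩ : ∃ i : ℤ, q ^ i = e * q * e⁻¹ := by
    obtain ⟨i, hi⟩ := mem_zpowers_iff.1 hnorm0
    exact ⟨i, by
      have h := congrArg Subtype.val hi
      rwa [Subgroup.coe_zpow, Subgroup.coe_mul, Subgroup.coe_mul, Subgroup.coe_inv] at h⟩
  set e' := q * e * q⁻¹ with he'
  have hqn : q ∈ normalizer (T : Set G) := hn (mem_of_commute hqz.symm)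
  -- conjugate fixed points
  have hB : Nat.card ↥(T ⊓ centralizer ({e'} : Set G)) =
      Nat.card ↥(T ⊓ centralizer ({e} : Set G)) := by
    refine (Nat.card_congr ?_).symm
    exact
      { toFun := fun x => ⟨q * x * q⁻¹, (mem_normalizer_iff.1 hqn _).1 x.2.1,
          mem_of_commute ((commute_of_mem x.2.2).conj q)⟩
        invFun := fun x => ⟨q⁻¹ * x * q,
          (mem_normalizer_iff.1 hqn _).2 (by simpa [mul_assoc] using x.2.1),
          mem_of_commute (by
            simpa [he', mul_assoc] using (commute_of_mem x.2.2).conj q⁻¹)⟩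
        left_inv := fun x => Subtype.ext (by simp [mul_assoc])
        right_inv := fun x => Subtype.ext (by simp [mul_assoc]) }
  have hint : Nat.card ↥((T ⊓ centralizer ({e} : Set G)) ⊓ (T ⊓ centralizer ({e'} : Set G))) ≤ 2 := by
    set W := (T ⊓ centralizer ({e} : Set G)) ⊓ (T ⊓ centralizer ({e'} : Set G))
    have hle : W ≤ centralizer ({q} : Set G) ⊓ centralizer ({z} : Set G) := by
      rintro x ⟨⟨hxT, hxe⟩, -, hxe'⟩
      refine ⟨mem_of_commute ?_, hT hxT⟩
      have c1 : Commute x e := (commute_of_mem hxe).symm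
      have c2 : Commute x e' := (commute_of_mem hxe').symm
      have c3 : Commute x (q ^ (1 - i)) := by
        have h : e' * e⁻¹ = q ^ (1 - i) := by
          rw [he', zpow_sub, zpow_one, hi]; group
        exact h ▸ c2.mul_right c1.inv_right
      have hne : ¬ (7 : ℤ) ∣ 1 - i := by
        intro hd
        have h1 : q ^ i = q := by
          have h2 : q ^ (1 - i) = 1 := by
            rw [← orderOf_dvd_iff_zpow_eq_one, hq]; exact_mod_cast hd
          rw [zpow_sub, zpow_one, mul_inv_eq_one] at h2
          exact h2.symm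
        have hc : Commute q e := (commute_of_conj_eq (hi.symm.trans h1)).symm
        have h3 : orderOf e ∣ Nat.card ↥(centralizer ({q} : Set G) ⊓ centralizer ({z} : Set G)) :=
          Subgroup.orderOf_dvd_natCard _ ⟨mem_of_commute hc, mem_of_commute hez⟩
        rw [← card_cent_eq, h14 q hq hqz, he] at h3
        norm_num at h3
      obtain ⟨a, b, hab⟩ : IsCoprime (1 - i : ℤ) 7 :=
        (Int.prime_iff_natAbs_prime.2 (by norm_num : Nat.Prime (7 : ℤ).natAbs)).coprime_iff_not_dvd.2
          hne |>.symm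
      have h : q = (q ^ (1 - i)) ^ a := by
        rw [← zpow_mul, mul_comm]
        conv_lhs => rw [← zpow_one q, ← hab, zpow_add]
        have h7 : q ^ (b * (7 : ℤ)) = 1 := by
          rw [← orderOf_dvd_iff_zpow_eq_one, hq]; exact dvd_mul_left _ _
        rw [h7, mul_one]
      rw [h]
      exact (c3.zpow_right a).symm
    obtain ⟨k, -, hk⟩ := two_pow_of_le (inf_le_left.trans inf_le_left : W ≤ T) hTc
    have h14' := card_dvd_of_le hle
    rw [← card_cent_eq, h14 q hq hqz, hk] at h14'
    rw [hk]
    rcases Nat.lt_or_ge k 2 with h | h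
    · interval_cases k <;> norm_num
    · exact absurd ((pow_dvd_pow 2 h).trans h14') (by norm_num)
  have h := card_mul_card_le (inf_le_left : T ⊓ centralizer ({e} : Set G) ≤ T)
    (inf_le_left : T ⊓ centralizer ({e'} : Set G) ≤ T)
  rw [hB] at h
  exact h.trans (by rw [mul_comm 2]; exact Nat.mul_le_mul_left _ hint)

/-- a 2-element commuting with an element of order three lies in the normal 2-subgroup below
`SL(3, 2)` -/
theorem sl_cent {y : Matrix.SpecialLinearGroup (Fin 3) (ZMod 2)} (hy : orderOf y = 3)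
    {x : Matrix.SpecialLinearGroup (Fin 3) (ZMod 2)} (hxy : Commute y x) {k : ℕ}
    (hx : x ^ 2 ^ k = 1) : x = 1 := by
  haveI : IsSimpleGroup (Matrix.SpecialLinearGroup (Fin 3) (ZMod 2)) := by
    haveI : Nontrivial (Matrix.SpecialLinearGroup (Fin 3) (ZMod 2)) := by
      rw [← Finite.one_lt_card_iff_nontrivial, CfsgLib.Spor.Tv5.card_SL3]; norm_num
    haveI := CfsgLib.Classical.isSimpleGroup_PSL_fin (F := ZMod 2) 3 (by norm_num) (by norm_num)
    exact IsSimpleGroup.isSimpleGroup_of_surjective
      (H := Matrix.SpecialLinearGroup (Fin 3) (ZMod 2))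
      ((QuotientGroup.quotientMulEquivOfEq CfsgLib.Small.center_SL_three_two).trans
        QuotientGroup.quotientBot).toMonoidHom (MulEquiv.surjective _)
  have h3 := CfsgLib.Small.card_centralizer_orderOf CfsgLib.Spor.Tv5.card_SL3 (Or.inl rfl) hy
  have hd : orderOf x ∣ 3 := by
    have h := Subgroup.orderOf_dvd_natCard (centralizer ({y} :
      Set (Matrix.SpecialLinearGroup (Fin 3) (ZMod 2)))) (mem_of_commute hxy)
    rwa [h3] at h
  have h2 : orderOf x ∣ 2 ^ k := orderOf_dvd_of_pow_eq_one hx
  exact orderOf_eq_one_iff.1 (Nat.eq_one_of_dvd_coprimes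
    (Nat.Coprime.pow_right k (by norm_num : Nat.Coprime 3 2)) hd h2)

end CfsgLib.M24Nse.Five
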