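import Cfsg.Agent.Lib.M22Nse.CountsTools
import Cfsg.Agent.Lib.M24Nse.FiveTools

/-!
# S3596, piece P4: tools

A pairing of two subgroups into a subgroup of order two, a nondegenerate alternating pairing on one
subgroup, groups of order 315 and the little permutation facts on five points.
-/

set_option autoImplicit false
set_option linter.unusedSectionVars false
set_option linter.style.haveILetI false

namespace CfsgLib.M24Nse.Closed

open Subgroup CfsgLib.M24Nse.Five

universe u

variable {H : Type u} [Group H]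

/-- conjugation by `t` moves `a` at most to `a * z` -/
def Near (z t a : H) : Prop := t * a * t⁻¹ = a ∨ t * a * t⁻¹ = a * z

theorem near_iff {z t a : H} (hz : z * z = 1) (ha : Commute a z) (ht : Commute t z) :
    Near z t a ↔ Near z a t := by
  have key : ∀ x y : H, Commute y z → Commute x z → x * y * x⁻¹ = y * z → y * x * y⁻¹ = x * z := by
    intro x y hy hx h
    rw [mul_inv_eq_iff_eq_mul] at h ⊢
    calc y * x = y * (z * z) * x := by rw [hz, mul_one]
      _ = y * z * x * z := by simp only [mul_assoc, hx.eq]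
      _ = x * y * z := by rw [h]
      _ = x * z * y := by simp only [mul_assoc, hy.eq]
  constructor <;> rintro (h | h)
  · exact Or.inl (mul_inv_eq_iff_eq_mul.2 (mul_inv_eq_iff_eq_mul.1 h).symm)
  · exact Or.inr (key t a ha ht h)
  · exact Or.inl (mul_inv_eq_iff_eq_mul.2 (mul_inv_eq_iff_eq_mul.1 h).symm)
  · exact Or.inr (key a t ht ha h)

variable [Finite H]

/-- a subgroup of order at most `2 ^ n` is generated by `n` elements over any subgroup of it -/
theorem exists_gens (B B0 : Subgroup H) (hB0 : B0 ≤ B) {n : ℕ}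
    (hn : Nat.card B ≤ 2 ^ n * Nat.card B0) :
    ∃ s : List H, s.length ≤ n ∧ (∀ t ∈ s, t ∈ B) ∧ B ≤ B0 ⊔ closure {t | t ∈ s} := by
  induction n generalizing B0 with
  | zero =>
    refine ⟨[], le_rfl, by simp, ?_⟩
    rw [eq_of_le_of_card_ge hB0 (by simpa using hn)]
    exact le_sup_left
  | succ n ih =>
    by_cases h : B ≤ B0
    · exact ⟨[], Nat.zero_le _, by simp, h.trans le_sup_left⟩
    obtain ⟨t, htB, ht⟩ := SetLike.not_le_iff_exists.1 h
    set B1 := B0 ⊔ closure ({t} : Set H) with hB1
    have hle : B1 ≤ B := sup_le hB0 ((closure_le _).2 (Set.singleton_subset_iff.2 htB))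
    have hd : 2 * Nat.card B0 ≤ Nat.card B1 := by
      obtain ⟨k, hk⟩ := card_dvd_of_le (le_sup_left : B0 ≤ B1)
      rcases k with _ | _ | k
      · simp [Nat.card_pos.ne'] at hk
      · exfalso
        refine ht ?_
        rw [eq_of_le_of_card_ge (le_sup_left : B0 ≤ B1) (by rw [hk, zero_add, mul_one])]
        exact mem_sup_right (subset_closure rfl)
      · rw [hk]
        calc 2 * Nat.card B0 = Nat.card B0 * 2 := mul_comm _ _
          _ ≤ Nat.card B0 * (k + 1 + 1) := Nat.mul_le_mul_left _ (by omega)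
    obtain ⟨s, hs1, hs2, hs3⟩ := ih B1 hle (hn.trans (by
      rw [pow_succ, mul_assoc]; exact Nat.mul_le_mul_left _ hd))
    refine ⟨t :: s, by simpa using hs1, by simpa [htB] using hs2, hs3.trans ?_⟩
    refine sup_le (sup_le le_sup_left ?_) ?_
    · refine le_sup_of_le_right (closure_mono ?_)
      rintro _ rfl
      exact List.mem_cons_self
    · refine le_sup_of_le_right (closure_mono ?_)
      intro x hx
      exact List.mem_cons_of_mem t hx

/-- each condition costs at most a half -/
theorem card_inf_list {z : H} (A : Subgroup H) :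
    ∀ s : List H, (∀ t ∈ s, ∀ a ∈ A, Near z a t) →
      Nat.card A ≤ 2 ^ s.length * Nat.card ↥(A ⊓ centralizer {t | t ∈ s}) := by
  intro s
  induction s with
  | nil =>
    intro _
    rw [show A ⊓ centralizer {t | t ∈ ([] : List H)} = A from
      inf_eq_left.2 fun a _ => mem_centralizer_iff.2 fun t ht => by simp at ht]
    simp
  | cons t s ih =>
    intro h
    classical
    have h1 := ih fun x hx => h x (List.mem_cons_of_mem t hx)
    set A' := A ⊓ centralizer {x | x ∈ s} with hA'
    have hset : A ⊓ centralizer {x | x ∈ t :: s} = A' ⊓ centralizer ({t} : Set H) := by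
      ext a
      simp only [hA', mem_inf, mem_centralizer_iff, Set.mem_ofPred_eq, List.mem_cons,
        Set.mem_singleton_iff, forall_eq_or_imp, forall_eq]
      tauto
    rw [hset]
    refine h1.trans ?_
    rw [List.length_cons, pow_succ, mul_assoc]
    refine Nat.mul_le_mul_left _ ?_
    by_cases hall : A' ≤ centralizer ({t} : Set H)
    · rw [inf_eq_left.2 hall]; omega
    obtain ⟨a0, ha0, hn0⟩ := SetLike.not_le_iff_exists.1 hall
    have hmove : ∀ a ∈ A', a ∉ centralizer ({t} : Set H) → a * t * a⁻¹ = t * z := fun a ha hn =>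
      (h t List.mem_cons_self a ha.1).resolve_left fun e =>
        hn (mem_of_commute (commute_of_conj_eq e).symm)
    let f : A' → Bool × ↥(A' ⊓ centralizer ({t} : Set H)) := fun a =>
      if ha : (a : H) ∈ centralizer ({t} : Set H) then (true, ⟨a, a.2, ha⟩)
      else (false, ⟨a0⁻¹ * a, A'.mul_mem (A'.inv_mem ha0) a.2, mem_of_commute (Commute.symm
        (commute_of_conj_eq (show a0⁻¹ * (a : H) * t * (a0⁻¹ * (a : H))⁻¹ = t by
          calc a0⁻¹ * (a : H) * t * (a0⁻¹ * (a : H))⁻¹ = a0⁻¹ * ((a : H) * t * (a : H)⁻¹) * a0 := by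
                group
            _ = a0⁻¹ * (a0 * t * a0⁻¹) * a0 := by rw [hmove _ a.2 ha, hmove _ ha0 hn0]
            _ = t := by group)))⟩)
    have hf : Function.Injective f := by
      intro a b e
      simp only [f] at e
      split_ifs at e with ha hb hb <;>
        simp only [Prod.mk.injEq, Bool.true_eq_false, Bool.false_eq_true, false_and, true_and,
          Subtype.mk.injEq, mul_right_inj] at e
      all_goals
        have e' := congrArg Subtype.val e
        exact Subtype.ext (by simpa using e')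
    simpa [Nat.card_prod] using Nat.card_le_card_of_injective f hf

/-- two subgroups paired into a subgroup of order two -/
theorem pair_le {z : H} {A B : Subgroup H} (h : ∀ a ∈ A, ∀ b ∈ B, Near z a b) {n : ℕ}
    (hn : Nat.card B ≤ 2 ^ n * Nat.card ↥(B ⊓ centralizer (A : Set H))) :
    Nat.card A ≤ 2 ^ n * Nat.card ↥(A ⊓ centralizer (B : Set H)) := by
  obtain ⟨s, hs1, hs2, hs3⟩ := exists_gens B (B ⊓ centralizer (A : Set H)) inf_le_left hn
  have hle : A ⊓ centralizer {t | t ∈ s} ≤ A ⊓ centralizer (B : Set H) := by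
    refine le_inf inf_le_left (le_centralizer_iff.2 (hs3.trans (sup_le ?_ ?_)))
    · exact inf_le_right.trans (centralizer_le fun a (ha : a ∈ A ⊓ _) => ha.1)
    · rw [closure_le]
      intro t ht
      exact mem_centralizer_iff.2 fun a ha => (mem_centralizer_iff.1 ha.2 t ht).symm
  refine (card_inf_list A s fun t ht a ha => h a ha t (hs2 t ht)).trans ?_
  exact Nat.mul_le_mul (Nat.pow_le_pow_right (by norm_num) hs1) (card_le_of_le hle)

/-- a nondegenerate alternating pairing has an even dimension -/
theorem square_index {z : H} {Z : Subgroup H} :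
    ∀ n : ℕ, ∀ A : Subgroup H, Nat.card A ≤ n → Z ≤ A → z ∈ Z →
      (∀ a ∈ A, Commute a z) → A ⊓ centralizer (A : Set H) = Z →
      (∀ a ∈ A, ∀ b ∈ A, Near z a b) → ∃ r, Nat.card A = 4 ^ r * Nat.card Z := by
  intro n
  induction n using Nat.strong_induction_on with
  | _ n ih =>
    intro A hA hZA hzZ hcz hctr hnear
    classical
    by_cases hab : A ≤ Z
    · exact ⟨0, by rw [le_antisymm hab hZA, pow_zero, one_mul]⟩
    obtain ⟨a, haA, haZ⟩ := SetLike.not_le_iff_exists.1 hab
    obtain ⟨b, hbA, hb⟩ : ∃ b ∈ A, ¬ Commute b a := by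
      by_contra hcon
      push Not at hcon
      exact haZ (hctr ▸ ⟨haA, mem_centralizer_iff.2 fun b hb => (hcon b hb).eq⟩)
    set B := A ⊓ centralizer ({a} : Set H) ⊓ centralizer ({b} : Set H) with hB
    have h1 : b * a * b⁻¹ = a * z :=
      (hnear b hbA a haA).resolve_left fun e => hb (commute_of_conj_eq e)
    have h2 : a * b * a⁻¹ = b * z :=
      (hnear a haA b hbA).resolve_left fun e => hb (commute_of_conj_eq e).symm
    have hz2 : ∀ t ∈ A, ¬ Commute t a → t * a * t⁻¹ = a * z := fun t ht hn =>
      (hnear t ht a haA).resolve_left fun e => hn (commute_of_conj_eq e)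
    have hz3 : ∀ t ∈ A, ¬ Commute t b → t * b * t⁻¹ = b * z := fun t ht hn =>
      (hnear t ht b hbA).resolve_left fun e => hn (commute_of_conj_eq e)
    -- `A` is the product of `{1, a, b, a * b}` and `B`
    have hdec : ∀ t ∈ A, t ∈ B ∨ a⁻¹ * t ∈ B ∨ b⁻¹ * t ∈ B ∨ (a * b)⁻¹ * t ∈ B := by
      intro t ht
      have hcom : ∀ {u x : H}, u * x * u⁻¹ = t * x * t⁻¹ → Commute (u⁻¹ * t) x := by
        intro u x e
        refine commute_of_conj_eq ?_
        calc u⁻¹ * t * x * (u⁻¹ * t)⁻¹ = u⁻¹ * (t * x * t⁻¹) * u := by group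
          _ = x := by rw [← e]; group
      have mk : ∀ u ∈ A, u * a * u⁻¹ = t * a * t⁻¹ → u * b * u⁻¹ = t * b * t⁻¹ →
          u⁻¹ * t ∈ B := fun u hu ea eb =>
        ⟨⟨A.mul_mem (A.inv_mem hu) ht, mem_of_commute (hcom ea).symm⟩,
          mem_of_commute (hcom eb).symm⟩
      by_cases ca : Commute t a <;> by_cases cb : Commute t b
      · exact Or.inl ⟨⟨ht, mem_of_commute ca.symm⟩, mem_of_commute cb.symm⟩
      · refine Or.inr (Or.inl (mk a haA ?_ ?_))
        · rw [mul_inv_cancel_right, ca.eq, mul_inv_cancel_right]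
        · rw [h2, hz3 t ht cb]
      · refine Or.inr (Or.inr (Or.inl (mk b hbA ?_ ?_)))
        · rw [h1, hz2 t ht ca]
        · rw [mul_inv_cancel_right, cb.eq, mul_inv_cancel_right]
      · refine Or.inr (Or.inr (Or.inr (mk (a * b) (A.mul_mem haA hbA) ?_ ?_)))
        · rw [hz2 t ht ca]
          calc a * b * a * (a * b)⁻¹ = a * (b * a * b⁻¹) * a⁻¹ := by group
            _ = a * (a * z) * a⁻¹ := by rw [h1]
            _ = a * (z * a) * a⁻¹ := by rw [(hcz a haA).eq]
            _ = a * z := by group
        · rw [hz3 t ht cb]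
          calc a * b * b * (a * b)⁻¹ = a * b * a⁻¹ := by group
            _ = b * z := h2
    have hBA : B ≤ A := fun x hx => hx.1.1
    have hBa : ∀ x ∈ B, Commute x a := fun x hx => (commute_of_mem hx.1.2).symm
    have hBb : ∀ x ∈ B, Commute x b := fun x hx => (commute_of_mem hx.2).symm
    -- the four cosets are different
    let g : Bool × Bool → H := fun p => cond p.1 (cond p.2 (a * b) a) (cond p.2 b 1)
    have hgA : ∀ p, g p ∈ A := by
      rintro ⟨_ | _, _ | _⟩ <;> simp [g, haA, hbA, A.mul_mem haA hbA, A.one_mem]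
    let f : (Bool × Bool) × B → A := fun p =>
      ⟨g p.1 * p.2.1, A.mul_mem (hgA _) (hBA p.2.2)⟩
    have hna : ¬ Commute a b := fun e => hb e.symm
    have hginj : ∀ p q, (g p)⁻¹ * g q ∈ B → p = q := by
      have na : a ∉ B := fun e => hna (hBb a e)
      have nb : b ∉ B := fun e => hb (hBa b e)
      have nab : a * b ∉ B := fun e => hb (by
        have := (hBa _ e)
        rw [← inv_mul_cancel_left a b]
        exact ((Commute.refl a).inv_left.mul_left this))
      have nab' : a⁻¹ * b ∉ B := fun e => hb (by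
        rw [← mul_inv_cancel_left a b]
        exact (Commute.refl a).mul_left (hBa _ e))
      have nb' : b⁻¹ * a ∉ B := fun e => nab' (by simpa using B.inv_mem e)
      have e1 : (a * b)⁻¹ * a = b⁻¹ := by group
      have e2 : (a * b)⁻¹ * b ∈ B → False := fun e => hna (by
        have := hBb _ (B.inv_mem e)
        rw [show ((a * b)⁻¹ * b)⁻¹ = b⁻¹ * (a * b) by group] at this
        have h3 := ((Commute.refl b).mul_left this).mul_left (Commute.refl b).inv_left
        simpa [mul_assoc] using h3)
      have e3 : b⁻¹ * (a * b) ∉ B := fun e => e2 (by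
        simpa [mul_assoc] using B.inv_mem e)
      rintro ⟨_ | _, _ | _⟩ ⟨_ | _, _ | _⟩ e <;>
        simp only [g, cond_true, cond_false, inv_one, one_mul, mul_one, e1,
          inv_mul_cancel_left, B.inv_mem_iff] at e ⊢ <;>
        first
          | rfl
          | exact absurd e na
          | exact absurd e nb
          | exact absurd e nab
          | exact absurd e nab'
          | exact absurd e nb'
          | exact absurd e e3
          | exact (e2 e).elim
    have hfb : Function.Bijective f := by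
      refine ⟨fun p q e => ?_, fun t => ?_⟩
      · have e' : g p.1 * p.2.1 = g q.1 * q.2.1 := congrArg Subtype.val e
        have h3 : (g p.1)⁻¹ * g q.1 = p.2.1 * (q.2.1)⁻¹ := by
          rw [inv_mul_eq_iff_eq_mul, ← mul_assoc, e', mul_inv_cancel_right]
        have h4 := hginj _ _ (h3 ▸ B.mul_mem p.2.2 (B.inv_mem q.2.2))
        rw [h4, mul_right_inj] at e'
        exact Prod.ext h4 (Subtype.ext e')
      · rcases hdec t t.2 with h | h | h | h
        · exact ⟨((false, false), ⟨_, h⟩), Subtype.ext (by simp [f, g])⟩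
        · exact ⟨((true, false), ⟨_, h⟩), Subtype.ext (by simp [f, g])⟩
        · exact ⟨((false, true), ⟨_, h⟩), Subtype.ext (by simp [f, g])⟩
        · exact ⟨((true, true), ⟨_, h⟩), Subtype.ext (by simp [f, g, mul_assoc])⟩
    have hcard : Nat.card A = 4 * Nat.card B := by
      rw [← Nat.card_congr (Equiv.ofBijective f hfb), Nat.card_prod, Nat.card_prod]
      simp
    have hZc : ∀ x ∈ Z, ∀ y ∈ A, Commute y x := fun x hx y hy => by
      rw [← hctr] at hx
      exact mem_centralizer_iff.1 hx.2 y hy
    have hZB : Z ≤ B := fun x hx =>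
      ⟨⟨hZA hx, mem_of_commute (hZc x hx a haA)⟩, mem_of_commute (hZc x hx b hbA)⟩
    have hBctr : B ⊓ centralizer (B : Set H) = Z := by
      refine le_antisymm (fun c hc => ?_) fun x hx => ⟨hZB hx, mem_centralizer_iff.2 fun y hy =>
        (hZc x hx y (hBA hy)).eq⟩
      rw [← hctr]
      refine ⟨hBA hc.1, mem_centralizer_iff.2 fun t ht => ?_⟩
      have hcB : ∀ y ∈ B, Commute y c := fun y hy => mem_centralizer_iff.1 hc.2 y hy
      rcases hdec t ht with h | h | h | h
      · exact (hcB t h).eq
      · have := (hBa c hc.1).symm.mul_left (hcB _ h)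
        rwa [mul_inv_cancel_left] at this
      · have := (hBb c hc.1).symm.mul_left (hcB _ h)
        rwa [mul_inv_cancel_left] at this
      · have := ((hBa c hc.1).symm.mul_left (hBb c hc.1).symm).mul_left (hcB _ h)
        rwa [mul_inv_cancel_left] at this
    have hlt : Nat.card B < n := by
      have := Nat.card_pos (α := B)
      omega
    obtain ⟨r, hr⟩ := ih _ hlt B le_rfl hZB hzZ (fun y hy => hcz y (hBA hy)) hBctr
      (fun x hx y hy => hnear x (hBA hx) y (hBA hy))
    exact ⟨r + 1, by rw [hcard, hr, pow_succ]; ring⟩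

/-- a group of order 315 has an element of order 35 -/
theorem exists_thirtyfive (hH : Nat.card H = 315) : ∃ g : H, orderOf g = 35 := by
  haveI : Fact (Nat.Prime 5) := ⟨Nat.prime_five⟩
  haveI : Fact (Nat.Prime 7) := ⟨by norm_num⟩
  obtain ⟨y, hy⟩ := exists_prime_orderOf_dvd_card' (G := H) 5 (by rw [hH]; norm_num)
  obtain ⟨p, hp⟩ := exists_prime_orderOf_dvd_card' (G := H) 7 (by rw [hH]; norm_num)
  have hP : ∀ P : Sylow 5 H, Nat.card (P : Subgroup H) = 5 := fun P => by
    simpa using CfsgLib.M22Nse.CountsP1.card_sylow_eq' 5 63 (by rw [hH]) (by norm_num) P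
  obtain ⟨e, he, hmul⟩ := CfsgLib.M22Nse.CountsP1.local_card hP hy
  rw [hH] at hmul
  have hle : e ≤ 4 := Nat.le_of_dvd (by norm_num) he
  have hodd : e = 1 ∨ e = 3 := by
    have h2 : e ∣ 315 := ⟨Nat.card (centralizer ({y} : Set H)) * Nat.card (Sylow 5 H), by
      rw [← hmul]; ring⟩
    interval_cases e <;> simp_all
  have he1 : e = 1 := by
    rcases hodd with rfl | rfl
    · rfl
    · norm_num at he
  subst he1
  rw [mul_one] at hmul
  have hn : Nat.card (Sylow 5 H) % 5 = 1 := card_sylow_modEq_one 5 H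
  have hC : Nat.card (Sylow 5 H) = 1 ∨ Nat.card (Sylow 5 H) = 21 := by
    have hd : Nat.card (Sylow 5 H) ∈ Nat.divisors 315 :=
      Nat.mem_divisors.2 ⟨Dvd.intro_left _ hmul, by norm_num⟩
    have h5 : 5 ∣ Nat.card (centralizer ({y} : Set H)) :=
      hy ▸ Subgroup.orderOf_dvd_natCard _ (mem_of_commute (Commute.refl y))
    obtain ⟨k, hk⟩ := h5
    have hd63 : Nat.card (Sylow 5 H) ∣ 63 := ⟨k, by rw [hk] at hmul; nlinarith⟩
    exact (show ∀ d ∈ Nat.divisors 63, d % 5 = 1 → d = 1 ∨ d = 21 by decide +kernel) _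
      (Nat.mem_divisors.2 ⟨hd63, by norm_num⟩) hn
  have hC1 : Nat.card (Sylow 5 H) = 1 := by
    refine hC.resolve_right fun h21 => ?_
    rw [h21] at hmul
    have hCy : Nat.card (centralizer ({y} : Set H)) = 15 := by omega
    -- a subgroup of order nine is centralised by an element of order five
    haveI : Fact (Nat.Prime 3) := ⟨Nat.prime_three⟩
    obtain ⟨R⟩ := (inferInstance : Nonempty (Sylow 3 H))
    have hR : Nat.card (R : Subgroup H) = 9 := by
      rw [R.card_eq_multiplicity, hH, show (315 : ℕ) = 3 ^ 2 * 35 by norm_num,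
        Nat.factorization_mul (by norm_num) (by norm_num),
        Nat.Prime.factorization_pow Nat.prime_three]
      simp [Nat.factorization_eq_zero_of_not_dvd (by norm_num : ¬ 3 ∣ 35)]
    have hn3 : Nat.card (Sylow 3 H) = 1 ∨ Nat.card (Sylow 3 H) = 7 := by
      have h1 : Nat.card (Sylow 3 H) % 3 = 1 := card_sylow_modEq_one 3 H
      have h2 := R.card_dvd_index
      have h3 := Subgroup.card_mul_index (R : Subgroup H)
      rw [hR, hH] at h3
      rw [show (R : Subgroup H).index = 35 by omega] at h2
      exact (show ∀ d ∈ Nat.divisors 35, d % 3 = 1 → d = 1 ∨ d = 7 by decide +kernel) _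
        (Nat.mem_divisors.2 ⟨h2, by norm_num⟩) h1
    have hN : 5 ∣ Nat.card (normalizer ((R : Subgroup H) : Set H)) := by
      have h1 := Subgroup.card_mul_index (normalizer ((R : Subgroup H) : Set H))
      rw [hH] at h1
      have h4 : Nat.card (Sylow 3 H) = (normalizer ((R : Subgroup H) : Set H)).index :=
        Sylow.card_eq_index_normalizer R
      rcases hn3 with e3 | e3 <;> rw [← h4, e3] at h1 <;> omega
    obtain ⟨c, hc⟩ := exists_prime_orderOf_dvd_card'
      (G := normalizer ((R : Subgroup H) : Set H)) 5 hN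
    have hco : orderOf (c : H) = 5 := by rw [orderOf_coe, hc]
    have hm := fixed_modEq hco (R : Subgroup H) c.2
    have hd9 : Nat.card ↥((R : Subgroup H) ⊓ centralizer ({(c : H)} : Set H)) ∈
        Nat.divisors 9 :=
      Nat.mem_divisors.2 ⟨hR ▸ card_dvd_of_le inf_le_left, by norm_num⟩
    rw [hR] at hm
    have h9 : Nat.card ↥((R : Subgroup H) ⊓ centralizer ({(c : H)} : Set H)) = 9 :=
      (show ∀ d ∈ Nat.divisors 9, 9 % 5 = d % 5 → d = 9 by decide +kernel) _ hd9 hm
    have h3 : 9 ∣ Nat.card (centralizer ({(c : H)} : Set H)) :=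
      h9 ▸ card_dvd_of_le inf_le_right
    obtain ⟨e', he', hmul'⟩ := CfsgLib.M22Nse.CountsP1.local_card hP hco
    rw [h21, hH] at hmul'
    obtain ⟨k, hk⟩ := h3
    rw [hk] at hmul'
    have h9' : 9 * (k * e' * 21) = 315 := by rw [← hmul']; ring
    omega
  rw [hC1, mul_one] at hmul
  have htop : centralizer ({y} : Set H) = ⊤ :=
    eq_top_of_card_eq _ (by rw [hmul, hH])
  have hc : Commute p y := (commute_of_mem (htop ▸ mem_top p)).symm
  exact ⟨p * y, by rw [hc.orderOf_mul_eq_mul_orderOf_of_coprime (by rw [hp, hy]; norm_num), hp, hy]⟩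

end CfsgLib.M24Nse.Closed
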