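import Cfsg.Agent.Lib.M24Nse.CountsBase
import Mathlib.GroupTheory.Transfer

/-!
# S3596, piece P1: simplicity
-/

set_option autoImplicit false
set_option linter.unusedSectionVars false
set_option linter.style.haveILetI false

open scoped Classical

namespace CfsgLib.M24Nse.CountsP1

open Subgroup
open CfsgLib.M22Nse.CountsP1 (dvd_centCard conj_order)

universe u

variable {G : Type u} [Group G] [Finite G]

/-- an element of order twenty-three normalises only the trivial subgroup of order prime to it -/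
theorem eq_bot_of_normalised (h : Hyp G) {x : G} (hx : orderOf x = 23) {K : Subgroup G}
    (hxK : zpowers x ≤ normalizer (K : Set G)) (h23 : ¬ 23 ∣ Nat.card K) : K = ⊥ := by
  haveI : Fact (Nat.Prime 23) := ⟨by norm_num⟩
  have hcard : Nat.card K ∣ 10644480 := by
    have hd : Nat.card K ∣ 23 * 10644480 := by
      rw [show 23 * 10644480 = 244823040 by norm_num, ← h.card]
      exact card_subgroup_dvd_card _
    exact (((Nat.Prime.coprime_iff_not_dvd (by norm_num)).2 h23).symm).dvd_of_dvd_mul_left hd
  by_contra hne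
  obtain ⟨q, hq, hqd⟩ := Nat.exists_prime_and_dvd (n := Nat.card K)
    (fun e => hne (card_eq_one.1 e))
  haveI := Fact.mk hq
  have hP : IsPGroup 23 (zpowers x) := IsPGroup.of_card (n := 1) (by
    rw [pow_one, Nat.card_zpowers, hx])
  letI : MulDistribMulAction (zpowers x) K :=
    MulDistribMulAction.compHom K ((normalizerMonoidHom K).comp (inclusion hxK))
  obtain ⟨S, hS⟩ := hP.nonempty_fixed_point_of_prime_not_dvd_card (Sylow q K)
    (fun hd => h23 (hd.trans ((Sylow.card_dvd_index (default : Sylow q K)).trans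
      (Subgroup.index_dvd_card _))))
  have hmem : ∀ g : zpowers x, ∀ s ∈ (S : Subgroup K), g • s ∈ (S : Subgroup K) := fun g s hs => by
    have h1 : g • s ∈ ((g • S : Sylow q K) : Subgroup K) := by
      rw [Sylow.pointwise_smul_def]
      exact Subgroup.smul_mem_pointwise_smul _ _ _ hs
    rwa [hS g] at h1
  letI : MulAction (zpowers x) (S : Subgroup K) :=
    { smul := fun g s => ⟨g • s.1, hmem g s.1 s.2⟩
      one_smul := fun s => Subtype.ext (one_smul (zpowers x) s.1)
      mul_smul := fun a b s => Subtype.ext (mul_smul a b s.1) }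
  have hfp : MulAction.fixedPoints (zpowers x) (S : Subgroup K) = {1} := by
    ext s
    constructor
    · intro hs
      have e : x * (s.1 : G) * x⁻¹ = (s.1 : G) :=
        congrArg (fun t : (S : Subgroup K) => ((t : K) : G)) (hs ⟨x, mem_zpowers x⟩)
      have hd := dvd_centCard (show Commute x (s.1 : G) from mul_inv_eq_iff_eq_mul.1 e).symm
      rw [cent_23 h hx] at hd
      have hd2 : orderOf (s.1 : G) ∣ Nat.card K := by
        rw [orderOf_coe]; exact orderOf_dvd_natCard _
      have h1 := Nat.dvd_gcd hd hd2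
      rw [((Nat.Prime.coprime_iff_not_dvd (by norm_num)).2 h23).gcd_eq_one, Nat.dvd_one,
        orderOf_eq_one_iff] at h1
      exact Set.mem_singleton_iff.2 (Subtype.ext (Subtype.ext h1))
    · rintro rfl g
      exact Subtype.ext (smul_one g)
  have hmod := hP.card_modEq_card_fixedPoints (S : Subgroup K)
  rw [hfp, Nat.card_eq_fintype_card (α := ({1} : Set (S : Subgroup K))),
    Set.card_singleton] at hmod
  have hm : Nat.card (S : Subgroup K) % 23 = 1 := hmod
  have hdS : Nat.card (S : Subgroup K) ∣ 10644480 := (card_subgroup_dvd_card _).trans hcard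
  have hqS : q ∣ Nat.card (S : Subgroup K) := S.dvd_card_of_dvd_card hqd
  obtain ⟨n, hn⟩ := IsPGroup.iff_card.1 S.2
  rw [hn] at hdS hm hqS
  have hq5 : q ∣ 2 ^ 10 * 3 ^ 3 * 5 * 7 * 11 := hqS.trans (by simpa using hdS)
  simp only [hq.dvd_mul] at hq5
  have hn0 : n ≠ 0 := by
    rintro rfl
    exact hq.one_lt.ne' (Nat.dvd_one.1 (by simpa using hqS))
  have hle : n ≤ 10 := by
    by_contra h11
    have h2 : 2 ^ 11 ≤ q ^ 11 := Nat.pow_le_pow_left hq.two_le 11
    have h3 : q ^ 11 ∣ 10644480 := (pow_dvd_pow q (by omega)).trans hdS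
    rcases hq5 with (((h5 | h5) | h5) | h5) | h5
    all_goals first
      | (obtain rfl := (Nat.prime_dvd_prime_iff_eq hq Nat.prime_two).1 (hq.dvd_of_dvd_pow h5))
      | (obtain rfl := (Nat.prime_dvd_prime_iff_eq hq Nat.prime_three).1 (hq.dvd_of_dvd_pow h5))
      | (obtain rfl := (Nat.prime_dvd_prime_iff_eq hq (by norm_num)).1 h5)
    all_goals norm_num at h3
  have h01 : ∀ q' ∈ [2, 3, 5, 7, 11], ∀ m ∈ List.range 11,
      q' ^ m ∣ 10644480 → q' ^ m % 23 = 1 → m = 0 := by decide +kernel
  refine hn0 (h01 q ?_ n (List.mem_range.2 (by omega)) hdS hm)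
  rcases hq5 with (((h5 | h5) | h5) | h5) | h5
  · simp [(Nat.prime_dvd_prime_iff_eq hq Nat.prime_two).1 (hq.dvd_of_dvd_pow h5)]
  · simp [(Nat.prime_dvd_prime_iff_eq hq Nat.prime_three).1 (hq.dvd_of_dvd_pow h5)]
  · simp [(Nat.prime_dvd_prime_iff_eq hq (by norm_num)).1 h5]
  · simp [(Nat.prime_dvd_prime_iff_eq hq (by norm_num)).1 h5]
  · simp [(Nat.prime_dvd_prime_iff_eq hq (by norm_num)).1 h5]

theorem simple (h : Hyp G) : IsSimpleGroup G := by
  haveI : Fact (Nat.Prime 23) := ⟨by norm_num⟩
  haveI : Nontrivial G := by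
    rw [← Finite.one_lt_card_iff_nontrivial, h.card]; norm_num
  refine ⟨fun N hN => ?_⟩
  obtain ⟨x, hx⟩ := exists_prime_orderOf_dvd_card' (G := G) 23 (by rw [h.card]; norm_num)
  by_cases h23 : 23 ∣ Nat.card N
  swap
  · exact Or.inl (eq_bot_of_normalised h hx (by rw [normalizer_eq_top]; exact le_top) h23)
  right
  haveI : Fintype G := Fintype.ofFinite G
  obtain ⟨P⟩ := (inferInstance : Nonempty (Sylow 23 N))
  have hPcard : Nat.card (P : Subgroup N) = 23 := by
    have h1 : 23 ∣ Nat.card (P : Subgroup N) := P.dvd_card_of_dvd_card h23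
    obtain ⟨n, hn⟩ := IsPGroup.iff_card.1 P.2
    have h2 : 23 ^ n ∣ 244823040 := by
      rw [← hn, ← h.card]
      exact (card_subgroup_dvd_card _).trans (card_subgroup_dvd_card _)
    rw [hn] at h1 ⊢
    rcases n with _ | _ | n
    · norm_num at h1
    · norm_num
    · exact absurd ((pow_dvd_pow 23 (by omega : 2 ≤ n + 2)).trans h2) (by norm_num)
  have hQcard : Nat.card ((P : Subgroup N).map N.subtype) = 23 := by
    rw [Subgroup.card_map_of_injective (subtype_injective _), hPcard]
  have hfr := Sylow.normalizer_sup_eq_top (N := N) P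
  set Q : Subgroup G := (P : Subgroup N).map N.subtype with hQ
  have hidx : N.index ∣ 253 := by
    have hQS : ∃ R : Sylow 23 G, (R : Subgroup G) = Q := by
      refine ⟨Sylow.ofCard Q ?_, Sylow.coe_ofCard _ _⟩
      obtain ⟨R⟩ := (inferInstance : Nonempty (Sylow 23 G))
      rw [hQcard, ← Sylow.card_eq_multiplicity R, syl23 h R]
    obtain ⟨R, hR⟩ := hQS
    have hN253 := (local_eq h (syl23 h) (count_23 h) (N := 253) (by norm_num)).1 R
    rw [hR] at hN253
    rw [← hN253]
    let f : normalizer (Q : Set G) →* G ⧸ N := (QuotientGroup.mk' N).comp (Subgroup.subtype _)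
    rw [Subgroup.index_eq_card]
    refine Subgroup.card_dvd_of_surjective f fun g => ?_
    obtain ⟨g, rfl⟩ := QuotientGroup.mk_surjective g
    obtain ⟨a, ha, b, hb, e⟩ := mem_sup_of_normal_right.1
      (show g ∈ normalizer (Q : Set G) ⊔ N by rw [hfr]; exact mem_top g)
    refine ⟨⟨a, ha⟩, ?_⟩
    show ((a : G) : G ⧸ N) = (g : G ⧸ N)
    rw [QuotientGroup.eq, ← e, inv_mul_cancel_left]
    exact hb
  have h11 : N.index ∣ 11 := by
    refine (?_ : Nat.Coprime N.index 23).dvd_of_dvd_mul_right (show N.index ∣ 11 * 23 from hidx)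
    refine ((Nat.Prime.coprime_iff_not_dvd (by norm_num)).2 fun hd => ?_).symm
    have h2 : 23 * 23 ∣ 244823040 := by
      rw [← h.card, ← N.card_mul_index]; exact Nat.mul_dvd_mul h23 hd
    norm_num at h2
  rcases (Nat.dvd_prime (by norm_num)).1 h11 with e | e
  · exact Subgroup.index_eq_one.1 e
  exfalso
  have hNcard : Nat.card N = 22256640 := by
    have := N.card_mul_index
    rw [e, h.card] at this
    omega
  have hP' : normalizer ((P : Subgroup N) : Set N) ≤ centralizer ((P : Subgroup N) : Set N) := by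
    obtain ⟨R⟩ := (inferInstance : Nonempty (Sylow 23 G))
    have hQ23 : Nat.card Q = 23 ^ (Nat.card G).factorization 23 := by
      rw [hQcard, ← Sylow.card_eq_multiplicity R, syl23 h R]
    have h253 := (local_eq h (syl23 h) (count_23 h) (N := 253) (by norm_num)).1
      (Sylow.ofCard Q hQ23)
    rw [Sylow.coe_ofCard] at h253
    have hW1 : Nat.card (normalizer ((P : Subgroup N) : Set N)) ∣ 253 := by
      rw [← h253, ← Subgroup.card_map_of_injective (f := N.subtype) (subtype_injective N)]
      exact card_dvd_of_le (Subgroup.le_normalizer_map _)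
    have hW2 : Nat.card (normalizer ((P : Subgroup N) : Set N)) ∣ 22256640 :=
      hNcard ▸ card_subgroup_dvd_card _
    have hW : Nat.card (normalizer ((P : Subgroup N) : Set N)) ∣ 23 :=
      (Nat.dvd_gcd hW1 hW2).trans (by norm_num)
    rw [← Subgroup.eq_of_le_of_card_ge (le_normalizer (H := (P : Subgroup N)))
      (by rw [hPcard]; exact Nat.le_of_dvd (by norm_num) hW)]
    haveI : IsCyclic (P : Subgroup N) := isCyclic_of_prime_card hPcard
    letI := IsCyclic.commGroup (α := (P : Subgroup N))
    intro g hg t ht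
    exact congrArg Subtype.val
      (mul_comm (⟨t, ht⟩ : (P : Subgroup N)) ⟨g, hg⟩)
  have hcompl := MonoidHom.ker_transferSylow_isComplement' P hP'
  set M := (MonoidHom.transferSylow P hP').ker with hM
  have hMcard := hcompl.card_mul_card
  rw [hPcard, hNcard] at hMcard
  obtain ⟨y, hy⟩ := exists_prime_orderOf_dvd_card' (G := N) 23 h23
  have hbot : M.map N.subtype = ⊥ := by
    refine eq_bot_of_normalised h (x := (y : G)) (by rw [orderOf_coe, hy]) ?_ ?_
    · refine zpowers_le.2 ?_
      have h1 : (y : G) ∈ (normalizer (M : Set N)).map N.subtype :=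
        ⟨y, by rw [normalizer_eq_top]; exact mem_top y, rfl⟩
      exact Subgroup.le_normalizer_map _ h1
    · rw [Subgroup.card_map_of_injective (subtype_injective _)]
      exact MonoidHom.not_dvd_card_ker_transferSylow P hP'
  rw [Subgroup.map_eq_bot_iff_of_injective _ (subtype_injective _)] at hbot
  rw [hbot, Subgroup.card_bot] at hMcard
  omega

theorem nab (h : Hyp G) : ¬ ∀ a b : G, a * b = b * a := fun hc => by
  obtain ⟨x, hx⟩ := exists_prime_orderOf_dvd_card' (G := G) 23 (hp := ⟨by norm_num⟩)
    (by rw [h.card]; norm_num)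
  have h1 := cent_23 h hx
  rw [show centralizer ({x} : Set G) = ⊤ from
    eq_top_iff.2 fun g _ => mem_centralizer_singleton_iff.2 (hc g x), Subgroup.card_top, h.card]
    at h1
  omega

end CfsgLib.M24Nse.CountsP1
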