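import Cfsg.Agent.Lib.M24Nse.CountsClasses
import Cfsg.Agent.Lib.M24Nse.CountsSimple

/-!
# S3596, piece P1: the counts
-/

set_option autoImplicit false
set_option linter.style.haveILetI false

namespace CfsgLib.M24Nse

open Subgroup CountsP1

universe u

/-- Piece P1: from the numbers of elements to the counts. -/
theorem counts : StmtCounts.{u} := by
  intro G _ _ h
  haveI : Fact (Nat.Prime 5) := ⟨by norm_num⟩
  haveI : Fact (Nat.Prime 7) := ⟨by norm_num⟩
  obtain ⟨v₀, hv₀, hd₀⟩ := exists_five h
  obtain ⟨z₀, hz₀, -, hd₇⟩ := exists_seven h hv₀ hd₀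
  exact
    { card := h.card
      simple := CountsP1.simple h
      nab := CountsP1.nab h
      cnt2 := count_2 h
      cent5 := fun p hp => (five h hp).1
      invol5 := fun p hp => (card_invol_cent p).trans (five h hp).2.1
      four5 := fun p v w hp hv hw hpv hpw =>
        ⟨commute5 h hp hv hw hpv hpw, trans5 h p v w hp hv hw hpv hpw⟩
      cent52 := fun p v hp hv hpv => CountsP1.cent52 h hp hv hpv
      norm5 := (local_eq h (syl5 h) (count_5 h) (N := 240) (by norm_num)).1
      cent7 := fun p hp => by
        have h3 := invol_seven h hp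
        rcases seven h hp with ⟨-, e⟩ | ⟨e, -⟩ | ⟨e, -, -⟩
        · omega
        · exact e
        · exact e
      invol7 := fun p hp => (card_invol_cent p).trans (invol_seven h hp)
      conj7 := fun p v w hp hv hw hpv hpw => trans7 h p v w hp hv hw hpv hpw
      cent72 := fun p v hp hv hpv => CountsP1.cent72 h hp hv hpv (invol_seven h hp)
      norm7 := (local_eq h (syl7 h) (count_7 h) (N := 126) (by norm_num)).1
      cent11 := fun p hp => cent_11 h hp
      cent23 := fun p hp => cent_23 h hp
      card_cent7 := fun z hz hd => by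
        have e := (pair h hv₀ hz hd₀ hd).2.2.1
        simp only [List.mem_cons, List.not_mem_nil, or_false] at e ⊢
        omega
      card_cent5 := fun v hv hd => (pair h hv hz₀ hd hd₇).2.1
      other27 := fun z hz hd hne => (pair h hv₀ hz hd₀ hd).2.2.2.1 hne
      classes := fun z v hz hv ez ev w hw =>
        (pair h hv hz (by rw [ev]; norm_num) (by rw [ez]; norm_num)).2.2.2.2 ez ev w hw }

end CfsgLib.M24Nse
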