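import Cfsg.Agent.Lib.M24Nse.Defs
import Cfsg.Agent.Lib.M22Nse.CountsTools

/-!
# S3596, piece P1: the numbers of elements of prime order and the large centralisers
-/

set_option autoImplicit false
set_option linter.unusedSectionVars false
set_option linter.style.haveILetI false

open scoped Classical

namespace CfsgLib.M24Nse.CountsP1

open Subgroup
open CfsgLib.M22Nse.CountsP1 (dvd_centCard card_sylow_eq')

universe u

variable {G : Type u} [Group G] [Finite G]

theorem cnt_oc (n : ℕ) : cnt G n = CfsgLib.Techniques.OrderClasses.cnt G n := rfl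

theorem cnt_pos_iff {n : ℕ} : 0 < cnt G n ↔ ∃ g : G, orderOf g = n :=
  CfsgLib.M22Nse.CountsP1.cnt_pos_iff

theorem cnt_prod' {p : ℕ} [Fact p.Prime]
    (hP : ∀ P : Sylow p G, Nat.card (P : Subgroup G) = p) {x : G} (hx : orderOf x = p) {m : ℕ}
    (hpm : p.Coprime m) : cnt G (p * m) = cnt G p * cnt (centralizer ({x} : Set G)) m :=
  CfsgLib.M22Nse.CountsP1.cnt_prime_prod hP hx hpm

theorem totient_dvd (n : ℕ) : Nat.totient n ∣ cnt G n :=
  CfsgLib.Techniques.OrderClasses.totient_dvd_cnt G n

theorem values (h : Hyp G) (n : ℕ) : cnt G n = 0 ∨ cnt G n = 1 ∨ cnt G n = 43263 ∨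
    cnt G n = 712448 ∨ cnt G n = 4080384 ∨ cnt G n = 5100480 ∨ cnt G n = 11658240 ∨
    cnt G n = 12241152 ∨ cnt G n = 15301440 ∨ cnt G n = 20401920 ∨ cnt G n = 21288960 ∨
    cnt G n = 22256640 ∨ cnt G n = 23316480 ∨ cnt G n = 32643072 ∨ cnt G n = 34974720 ∨
    cnt G n = 40803840 := by
  simpa [vals] using h.mem n

theorem le_max (h : Hyp G) (n : ℕ) : cnt G n ≤ 40803840 := by
  have := values h n
  omega

theorem succ_mod {H : Type u} [Group H] [Finite H] {p : ℕ} (hp : p.Prime)
    (hd : p ∣ Nat.card H) : (cnt H p + 1) % p = 0 := by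
  have := CfsgLib.Techniques.OrderClasses.cnt_prime H hp hd
  refine Nat.mod_eq_zero_of_dvd ?_
  rw [← ZMod.natCast_eq_zero_iff, Nat.cast_add, Nat.cast_one, cnt_oc, this, neg_add_cancel]

/-- the congruence between the numbers at `d` and at `p * d` -/
theorem add_mod {H : Type u} [Group H] [Finite H] {p d : ℕ} (hp : p.Prime) (hpd : ¬ p ∣ d)
    (hd : p * d ∣ Nat.card H) : (cnt H (p * d) + cnt H d) % p = 0 := by
  have := CfsgLib.Techniques.OrderClasses.cnt_mul_add H hp d hpd hd
  refine Nat.mod_eq_zero_of_dvd ?_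
  rw [← ZMod.natCast_eq_zero_iff, Nat.cast_add, cnt_oc, cnt_oc]
  exact this

theorem count_two' (h : Hyp G) : cnt G 2 = 1 ∨ cnt G 2 = 43263 := by
  have := succ_mod (H := G) Nat.prime_two (by rw [h.card]; norm_num)
  have := values h 2
  omega

theorem count_3 (h : Hyp G) : cnt G 3 = 712448 := by
  have := succ_mod (H := G) Nat.prime_three (by rw [h.card]; norm_num)
  have := values h 3
  have hd := totient_dvd (G := G) 3
  rw [Nat.totient_prime (by norm_num)] at hd
  omega

theorem count_5 (h : Hyp G) : cnt G 5 = 4080384 := by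
  have := succ_mod (H := G) (p := 5) (by norm_num) (by rw [h.card]; norm_num)
  have := values h 5
  have hd := totient_dvd (G := G) 5
  rw [Nat.totient_prime (by norm_num)] at hd
  omega

theorem count_7 (h : Hyp G) : cnt G 7 = 11658240 := by
  have := succ_mod (H := G) (p := 7) (by norm_num) (by rw [h.card]; norm_num)
  have := values h 7
  have hd := totient_dvd (G := G) 7
  rw [Nat.totient_prime (by norm_num)] at hd
  omega

theorem count_11 (h : Hyp G) : cnt G 11 = 22256640 := by
  have := succ_mod (H := G) (p := 11) (by norm_num) (by rw [h.card]; norm_num)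
  have := values h 11
  have hd := totient_dvd (G := G) 11
  rw [Nat.totient_prime (by norm_num)] at hd
  omega

theorem count_23 (h : Hyp G) : cnt G 23 = 21288960 := by
  have := succ_mod (H := G) (p := 23) (by norm_num) (by rw [h.card]; norm_num)
  have := values h 23
  have hd := totient_dvd (G := G) 23
  rw [Nat.totient_prime (by norm_num)] at hd
  omega

/-- a prime that divides the order once -/
theorem sylow_card (h : Hyp G) {p m : ℕ} [Fact p.Prime] (hm : 244823040 = p * m) (hp : ¬ p ∣ m) :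
    ∀ P : Sylow p G, Nat.card (P : Subgroup G) = p := fun P => by
  simpa using card_sylow_eq' p m (by rw [h.card, hm]) hp P

theorem syl5 (h : Hyp G) [Fact (Nat.Prime 5)] :
    ∀ P : Sylow 5 G, Nat.card (P : Subgroup G) = 5 :=
  sylow_card h (m := 48964608) (by norm_num) (by norm_num)

theorem syl7 (h : Hyp G) [Fact (Nat.Prime 7)] :
    ∀ P : Sylow 7 G, Nat.card (P : Subgroup G) = 7 :=
  sylow_card h (m := 34974720) (by norm_num) (by norm_num)

theorem syl11 (h : Hyp G) [Fact (Nat.Prime 11)] :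
    ∀ P : Sylow 11 G, Nat.card (P : Subgroup G) = 11 :=
  sylow_card h (m := 22256640) (by norm_num) (by norm_num)

theorem syl23 (h : Hyp G) [Fact (Nat.Prime 23)] :
    ∀ P : Sylow 23 G, Nat.card (P : Subgroup G) = 23 :=
  sylow_card h (m := 10644480) (by norm_num) (by norm_num)

/-- the centraliser and the normaliser at such a prime -/
theorem local_eq (h : Hyp G) {p c N : ℕ} [Fact p.Prime]
    (hP : ∀ P : Sylow p G, Nat.card (P : Subgroup G) = p) (hc : cnt G p = c)
    (hN : N * c = 244823040 * (p - 1)) :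
    (∀ P : Sylow p G, Nat.card (normalizer ((P : Subgroup G) : Set G)) = N) ∧
      ∀ x : G, orderOf x = p →
        ∃ e, e ∣ p - 1 ∧ Nat.card (centralizer ({x} : Set G)) * e = N := by
  have hp1 : 0 < p - 1 := by have := (Fact.out : p.Prime).two_le; omega
  have hn : Nat.card (Sylow p G) * (p - 1) = c := by
    rw [← hc, cnt]; exact (CfsgLib.Small.card_orderOf_eq_prime hP).symm
  have hN' : N * Nat.card (Sylow p G) = Nat.card G := by
    apply Nat.eq_of_mul_eq_mul_right hp1
    rw [mul_assoc, hn, hN, h.card]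
  refine ⟨fun P => ?_, fun x hx => ?_⟩
  · have h1 : Nat.card (normalizer ((P : Subgroup G) : Set G)) * Nat.card (Sylow p G) =
        Nat.card G := by
      rw [Sylow.card_eq_index_normalizer P]; exact Subgroup.card_mul_index _
    exact Nat.eq_of_mul_eq_mul_right Nat.card_pos (h1.trans hN'.symm)
  · obtain ⟨e, he, hmul⟩ := CfsgLib.M22Nse.CountsP1.local_card hP hx
    exact ⟨e, he, Nat.eq_of_mul_eq_mul_right Nat.card_pos (hmul.trans hN'.symm)⟩

/-- no element of order `p * q` when the count would be too large -/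
theorem no_prod (h : Hyp G) {p q : ℕ} [Fact p.Prime] (hq : q.Prime)
    (hP : ∀ P : Sylow p G, Nat.card (P : Subgroup G) = p) {x : G} (hx : orderOf x = p)
    (hpq : p.Coprime q) (hbig : 40803840 < cnt G p * (q - 1)) :
    ¬ q ∣ Nat.card (centralizer ({x} : Set G)) := by
  intro hd
  haveI := Fact.mk hq
  obtain ⟨y, hy⟩ := exists_prime_orderOf_dvd_card' (G := centralizer ({x} : Set G)) q hd
  have hpos : 0 < cnt (centralizer ({x} : Set G)) q := cnt_pos_iff.2 ⟨y, hy⟩
  have h1 := totient_dvd (G := centralizer ({x} : Set G)) q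
  rw [Nat.totient_prime hq] at h1
  have h2 := Nat.le_of_dvd hpos h1
  have h3 := cnt_prod' hP hx hpq
  have h4 := Nat.mul_le_mul_left (cnt G p) h2
  rw [← h3] at h4
  have := le_max h (p * q)
  omega

theorem prime_dvd_cent {p : ℕ} {x : G} (hx : orderOf x = p) :
    p ∣ Nat.card (centralizer ({x} : Set G)) :=
  hx ▸ dvd_centCard (Commute.refl x)

theorem cent_23 (h : Hyp G) {x : G} (hx : orderOf x = 23) :
    Nat.card (centralizer ({x} : Set G)) = 23 := by
  haveI : Fact (Nat.Prime 23) := ⟨by norm_num⟩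
  obtain ⟨e, -, he⟩ := (local_eq h (syl23 h) (count_23 h) (N := 253) (by norm_num)).2 x hx
  have h11 := no_prod h (q := 11) (by norm_num) (syl23 h) hx (by norm_num)
    (by rw [count_23 h]; norm_num)
  refine Nat.dvd_antisymm ?_ (prime_dvd_cent hx)
  exact (((Nat.Prime.coprime_iff_not_dvd (by norm_num)).2 h11).symm).dvd_of_dvd_mul_left
    (Dvd.intro e he : Nat.card (centralizer ({x} : Set G)) ∣ 11 * 23)

theorem cent_11_dvd (h : Hyp G) {x : G} (hx : orderOf x = 11) :
    Nat.card (centralizer ({x} : Set G)) ∣ 22 := by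
  haveI : Fact (Nat.Prime 11) := ⟨by norm_num⟩
  obtain ⟨e, -, he⟩ := (local_eq h (syl11 h) (count_11 h) (N := 110) (by norm_num)).2 x hx
  have h5 := no_prod h (q := 5) (by norm_num) (syl11 h) hx (by norm_num)
    (by rw [count_11 h]; norm_num)
  exact (((Nat.Prime.coprime_iff_not_dvd (by norm_num)).2 h5).symm).dvd_of_dvd_mul_left
    (Dvd.intro e he : Nat.card (centralizer ({x} : Set G)) ∣ 5 * 22)

theorem count_2 (h : Hyp G) : cnt G 2 = 43263 := by
  refine (count_two' h).resolve_left fun h21 => ?_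
  obtain ⟨t, ht⟩ := exists_prime_orderOf_dvd_card' (G := G) 2 (hp := ⟨Nat.prime_two⟩)
    (by rw [h.card]; norm_num)
  obtain ⟨x, hx⟩ := exists_prime_orderOf_dvd_card' (G := G) 23 (hp := ⟨by norm_num⟩)
    (by rw [h.card]; norm_num)
  obtain ⟨hu, -⟩ := Nat.card_eq_one_iff_unique.1 h21
  have hfix : x * t * x⁻¹ = t := congrArg Subtype.val
    (@Subsingleton.elim _ hu ⟨x * t * x⁻¹, by rw [CfsgLib.M22Nse.CountsP1.conj_order, ht]⟩
      ⟨t, ht⟩)
  have hd := dvd_centCard (g := t) (x := x)
    (show Commute x t from mul_inv_eq_iff_eq_mul.1 hfix).symm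
  rw [cent_23 h hx, ht] at hd
  omega

/-- in a group with a central element of prime order `p`, the elements of order prime to `p` fill
exactly the `p`-th part -/
theorem sum_div_central {H : Type u} [Group H] [Finite H] {p k : ℕ} (hp : p.Prime) {x : H}
    (hx : orderOf x = p) (hc : ∀ g : H, Commute x g) (hcard : Nat.card H = p * k)
    (hpk : ¬ p ∣ k) : ∑ d ∈ k.divisors, cnt H d = k := by
  have hk0 : k ≠ 0 := by rintro rfl; exact hpk (dvd_zero p)
  have hdiv : k ∣ Nat.card {g : H // g ^ k = 1} :=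
    CfsgLib.Base.Solutions.dvd_card_pow_eq_one (hcard ▸ dvd_mul_left k p)
  have hsum : ∑ d ∈ k.divisors, cnt H d = Nat.card {g : H // g ^ k = 1} :=
    CfsgLib.Techniques.OrderClasses.sum_cnt H hk0
  haveI : (zpowers x).Normal := ⟨fun n hn g => by
    obtain ⟨j, rfl⟩ := mem_zpowers_iff.1 hn
    rw [← ((hc g).zpow_left j).eq, mul_inv_cancel_right]
    exact zpow_mem (mem_zpowers x) j⟩
  have hidx : (zpowers x).index = k := by
    have h1 := (zpowers x).card_mul_index
    rw [Nat.card_zpowers, hx, hcard] at h1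
    exact Nat.eq_of_mul_eq_mul_left hp.pos h1
  have hle : Nat.card {g : H // g ^ k = 1} ≤ k := by
    conv_rhs => rw [← hidx, Subgroup.index_eq_card]
    refine Nat.card_le_card_of_injective (fun g => ((g.1 : H) : H ⧸ zpowers x)) fun a b e => ?_
    obtain ⟨j, hj⟩ := mem_zpowers_iff.1 (QuotientGroup.eq.1 e)
    have hb : b.1 = a.1 * x ^ j := by rw [hj, mul_inv_cancel_left]
    have h1 : (x ^ j) ^ k = 1 := by
      have h2 := b.2
      rw [hb, ((hc a.1).zpow_left j).symm.mul_pow, a.2, one_mul] at h2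
      exact h2
    have h3 : orderOf (x ^ j) ∣ Nat.gcd k p := Nat.dvd_gcd (orderOf_dvd_of_pow_eq_one h1)
      (orderOf_dvd_of_pow_eq_one (by
        rw [← zpow_natCast, ← zpow_mul, mul_comm, zpow_mul, zpow_natCast, ← hx,
          pow_orderOf_eq_one, one_zpow]))
    rw [(hp.coprime_iff_not_dvd.2 hpk).symm.gcd_eq_one, Nat.dvd_one, orderOf_eq_one_iff] at h3
    exact Subtype.ext (by rw [hb, h3, mul_one])
  rw [hsum]
  exact le_antisymm hle (Nat.le_of_dvd (Nat.pos_of_ne_zero fun e => by
    haveI : Nonempty {g : H // g ^ k = 1} := ⟨⟨1, one_pow k⟩⟩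
    exact (Nat.card_pos (α := {g : H // g ^ k = 1})).ne' e) hdiv)

/-- the same for a centraliser -/
theorem sum_div_cent {p k : ℕ} (hp : p.Prime) {x : G} (hx : orderOf x = p)
    (hcard : Nat.card (centralizer ({x} : Set G)) = p * k) (hpk : ¬ p ∣ k) :
    ∑ d ∈ k.divisors, cnt (centralizer ({x} : Set G)) d = k :=
  sum_div_central hp (x := ⟨x, mem_centralizer_singleton_iff.2 rfl⟩)
    (by rw [orderOf_mk, hx])
    (fun g => Subtype.ext (mem_centralizer_singleton_iff.1 g.2).symm) hcard hpk

end CfsgLib.M24Nse.CountsP1
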