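import Cfsg.Agent.Lib.M24Nse.CountsLocal

/-!
# S3596, piece P1: the class equation of the involutions
-/

set_option autoImplicit false
set_option linter.unusedSectionVars false
set_option linter.style.haveILetI false
set_option maxHeartbeats 800000

open scoped Classical

namespace CfsgLib.M24Nse.CountsP1

open Subgroup
open CfsgLib.M22Nse.CountsP1 (dvd_centCard conj_order)
open CfsgLib.M23Nse.Local (class_mul orderOf_eq_of_isConj exists_order)

universe u

/-- the arithmetic conditions on the order of the centraliser of an involution -/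
def Ok (c : ℕ) : Prop :=
  2 ∣ c ∧ 244823040 ≤ c * 43263 ∧ (5 ∣ c → c % 80 = 0 ∧ c / 80 % 5 = 1) ∧
    (11 ∣ c → c % 110 = 0 ∧ c / 110 % 11 = 1) ∧
    (7 ∣ c → (c % 126 = 0 ∧ c / 126 % 7 = 1) ∨ (c % 42 = 0 ∧ c / 42 % 7 = 1))

instance (c : ℕ) : Decidable (Ok c) := by unfold Ok; infer_instance

theorem ok_five : ∀ a ∈ Nat.divisors 1024, ∀ b ∈ Nat.divisors 27, ∀ e ∈ Nat.divisors 385,
    Ok (a * b * e) → 5 ∣ a * b * e → a * b * e ∈ [7680, 17280, 46080, 190080, 967680] := by
  decide +kernel

theorem ok_eleven : ∀ a ∈ Nat.divisors 1024, ∀ b ∈ Nat.divisors 27, ∀ e ∈ Nat.divisors 385,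
    Ok (a * b * e) → 11 ∣ a * b * e → a * b * e = 190080 := by
  decide +kernel

theorem ok_seven : ∀ a ∈ Nat.divisors 1024, ∀ b ∈ Nat.divisors 27, ∀ e ∈ Nat.divisors 385,
    Ok (a * b * e) → 7 ∣ a * b * e →
    ((a * b * e % 126 = 0 ∧ a * b * e / 126 % 7 = 1) →
      a * b * e ∈ [8064, 64512, 967680]) ∧
    ((a * b * e % 42 = 0 ∧ a * b * e / 42 % 7 = 1) →
      a * b * e ∈ [12096, 21504, 96768]) := by
  decide +kernel

theorem split {c : ℕ} (hc : c ∣ 1024 * 27 * 385) :
    ∃ a ∈ Nat.divisors 1024, ∃ b ∈ Nat.divisors 27, ∃ e ∈ Nat.divisors 385, c = a * b * e := by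
  obtain ⟨ab, e, hab, he, rfl⟩ := Nat.dvd_mul.1 hc
  obtain ⟨a, b, ha, hb, rfl⟩ := Nat.dvd_mul.1 hab
  exact ⟨a, Nat.mem_divisors.2 ⟨ha, by norm_num⟩, b, Nat.mem_divisors.2 ⟨hb, by norm_num⟩, e,
    Nat.mem_divisors.2 ⟨he, by norm_num⟩, rfl⟩

/-- a class of five alone leaves a remainder -/
theorem one_check : ∀ c ∈ [7680, 17280, 46080, 190080, 967680],
    ¬ (244823040 / c ≤ 43263 ∧ (43263 - 244823040 / c) % 8855 = 0) := by
  decide +kernel

/-- the classes of five and seven that leave no remainder -/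
theorem two_check : ∀ c ∈ [7680, 17280, 46080, 190080, 967680],
    ∀ d ∈ [8064, 64512, 967680, 12096, 21504, 96768],
    ¬ 7 ∣ c → ¬ 5 ∣ d → 244823040 / c + 244823040 / d ≤ 43263 →
    (43263 - (244823040 / c + 244823040 / d)) % 8855 = 0 →
    c ∈ [7680, 17280, 46080] ∧ d ∈ [12096, 21504, 96768] ∧
      (¬ 27 ∣ c → d ≠ 21504 →
        (43263 - (244823040 / c + 244823040 / d)) % 26565 ≠ 0) := by
  decide +kernel

variable {G : Type u} [Group G] [Finite G]

theorem comm_of_dvd {p : ℕ} (hp : p.Prime) {w : G}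
    (hd : p ∣ Nat.card (centralizer ({w} : Set G))) : ∃ x : G, orderOf x = p ∧ Commute x w := by
  haveI := Fact.mk hp
  obtain ⟨x, hx, hox⟩ := exists_order p hd
  exact ⟨x, hox, mem_centralizer_singleton_iff.1 hx⟩

theorem ge_card (h : Hyp G) {w : G} (hw : orderOf w = 2) :
    244823040 ≤ Nat.card (centralizer ({w} : Set G)) * 43263 := by
  rw [← h.card, ← class_mul w, mul_comm, ← count_2 h]
  exact Nat.mul_le_mul_left _ (CfsgLib.M23Nse.Local.class_le (n := 2) hw)

theorem cent_dvd (h : Hyp G) {w : G} (hw : orderOf w = 2) :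
    Nat.card (centralizer ({w} : Set G)) ∣ 1024 * 27 * 385 := by
  have hd : Nat.card (centralizer ({w} : Set G)) ∣ 23 * (1024 * 27 * 385) := by
    rw [show 23 * (1024 * 27 * 385) = 244823040 by norm_num, ← h.card]
    exact card_subgroup_dvd_card _
  have h23 : ¬ 23 ∣ Nat.card (centralizer ({w} : Set G)) := fun hd => by
    obtain ⟨x, hx, hxw⟩ := comm_of_dvd (by norm_num) hd
    have h2 := dvd_centCard hxw.symm
    rw [cent_23 h hx, hw] at h2
    norm_num at h2
  exact (((Nat.Prime.coprime_iff_not_dvd (by norm_num)).2 h23).symm).dvd_of_dvd_mul_left hd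

theorem five_cond (h : Hyp G) {w : G} (hw : orderOf w = 2)
    (hd : 5 ∣ Nat.card (centralizer ({w} : Set G))) :
    Nat.card (centralizer ({w} : Set G)) % 80 = 0 ∧
      Nat.card (centralizer ({w} : Set G)) / 80 % 5 = 1 := by
  haveI : Fact (Nat.Prime 5) := ⟨by norm_num⟩
  obtain ⟨x, hx, hxw⟩ := comm_of_dvd (by norm_num) hd
  have hm := meet_count (syl5 h) (trans5 h) hx hw hxw
  rw [h.card, count_5 h, (five h hx).2.1] at hm
  have h1 := succ_mod (H := centralizer ({w} : Set G)) (p := 5) (by norm_num) hd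
  have h2 := totient_dvd (G := centralizer ({w} : Set G)) 5
  rw [show Nat.totient 5 = 4 by decide +kernel] at h2
  omega

theorem seven_cond (h : Hyp G) {w x : G} (hw : orderOf w = 2) (hx : orderOf x = 7)
    (hxw : Commute x w) :
    let c := Nat.card (centralizer ({w} : Set G))
    (cnt (centralizer ({x} : Set G)) 2 = 1 ∧ c % 126 = 0 ∧ c / 126 % 7 = 1) ∨
      (cnt (centralizer ({x} : Set G)) 2 = 3 ∧ c % 42 = 0 ∧ c / 42 % 7 = 1) := by
  haveI : Fact (Nat.Prime 7) := ⟨by norm_num⟩
  intro c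
  have hd : 7 ∣ Nat.card (centralizer ({w} : Set G)) := hx ▸ dvd_centCard hxw
  have hm := meet_count (syl7 h) (trans7 h) hx hw hxw
  rw [h.card, count_7 h] at hm
  have h1 := succ_mod (H := centralizer ({w} : Set G)) (p := 7) (by norm_num) hd
  have h2 := totient_dvd (G := centralizer ({w} : Set G)) 7
  rw [show Nat.totient 7 = 6 by decide +kernel] at h2
  rcases seven h hx with ⟨-, e⟩ | ⟨-, e⟩ | ⟨-, e, -⟩ <;> rw [e] at hm ⊢
  · have hp : 0 < cnt (centralizer ({w} : Set G)) 7 := by omega
    omega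
  · refine Or.inl ⟨rfl, ?_⟩
    simp only [c]; omega
  · refine Or.inr ⟨rfl, ?_⟩
    simp only [c]; omega

theorem eleven_cond (h : Hyp G) {w : G} (hw : orderOf w = 2)
    (hd : 11 ∣ Nat.card (centralizer ({w} : Set G))) :
    Nat.card (centralizer ({w} : Set G)) % 110 = 0 ∧
      Nat.card (centralizer ({w} : Set G)) / 110 % 11 = 1 := by
  haveI : Fact (Nat.Prime 11) := ⟨by norm_num⟩
  obtain ⟨x, hx, hxw⟩ := comm_of_dvd (by norm_num) hd
  have hm := meet_count (syl11 h) (trans11 h) hx hw hxw
  rw [h.card, count_11 h] at hm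
  have h1 := succ_mod (H := centralizer ({w} : Set G)) (p := 11) (by norm_num) hd
  have h2 := totient_dvd (G := centralizer ({w} : Set G)) 11
  rw [show Nat.totient 11 = 10 by decide +kernel] at h2
  rcases eleven h hx with ⟨-, e⟩ | ⟨-, e⟩ <;> rw [e] at hm
  · omega
  · omega

theorem ok (h : Hyp G) {w : G} (hw : orderOf w = 2) :
    Ok (Nat.card (centralizer ({w} : Set G))) := by
  refine ⟨hw ▸ dvd_centCard (Commute.refl w), ge_card h hw, five_cond h hw, eleven_cond h hw,
    fun hd => ?_⟩
  obtain ⟨x, hx, hxw⟩ := comm_of_dvd (by norm_num) hd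
  rcases seven_cond h hw hx hxw with ⟨-, e⟩ | ⟨-, e⟩
  exacts [Or.inl e, Or.inr e]

theorem mem_five (h : Hyp G) {w : G} (hw : orderOf w = 2)
    (hd : 5 ∣ Nat.card (centralizer ({w} : Set G))) :
    Nat.card (centralizer ({w} : Set G)) ∈ [7680, 17280, 46080, 190080, 967680] := by
  obtain ⟨a, ha, b, hb, e, he, hc⟩ := split (cent_dvd h hw)
  have hok := ok h hw
  rw [hc] at hok hd ⊢
  exact ok_five a ha b hb e he hok hd

theorem mem_seven (h : Hyp G) {w x : G} (hw : orderOf w = 2) (hx : orderOf x = 7)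
    (hxw : Commute x w) :
    let c := Nat.card (centralizer ({w} : Set G))
    (cnt (centralizer ({x} : Set G)) 2 = 1 ∧ c ∈ [8064, 64512, 967680]) ∨
      (cnt (centralizer ({x} : Set G)) 2 = 3 ∧ c ∈ [12096, 21504, 96768]) := by
  intro c
  obtain ⟨a, ha, b, hb, e, he, hc⟩ := split (cent_dvd h hw)
  have hok := ok h hw
  have hd : 7 ∣ Nat.card (centralizer ({w} : Set G)) := hx ▸ dvd_centCard hxw
  rw [hc] at hok hd
  obtain ⟨f1, f3⟩ := ok_seven a ha b hb e he hok hd
  simp only [c, hc]
  rcases seven_cond h hw hx hxw with ⟨hi, hm⟩ | ⟨hi, hm⟩ <;> simp only [hc] at hm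
  exacts [Or.inl ⟨hi, f1 hm⟩, Or.inr ⟨hi, f3 hm⟩]

theorem same_five (h : Hyp G) {v w : G} (hv : orderOf v = 2) (hw : orderOf w = 2)
    (hdv : 5 ∣ Nat.card (centralizer ({v} : Set G)))
    (hdw : 5 ∣ Nat.card (centralizer ({w} : Set G))) : IsConj v w := by
  haveI : Fact (Nat.Prime 5) := ⟨by norm_num⟩
  obtain ⟨x, hx, hxv⟩ := comm_of_dvd (by norm_num) hdv
  obtain ⟨y, hy, hyw⟩ := comm_of_dvd (by norm_num) hdw
  exact one_class (syl5 h) (trans5 h) hx hy hv hw hxv hyw

theorem same_seven (h : Hyp G) {v w : G} (hv : orderOf v = 2) (hw : orderOf w = 2)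
    (hdv : 7 ∣ Nat.card (centralizer ({v} : Set G)))
    (hdw : 7 ∣ Nat.card (centralizer ({w} : Set G))) : IsConj v w := by
  haveI : Fact (Nat.Prime 7) := ⟨by norm_num⟩
  obtain ⟨x, hx, hxv⟩ := comm_of_dvd (by norm_num) hdv
  obtain ⟨y, hy, hyw⟩ := comm_of_dvd (by norm_num) hdw
  exact one_class (syl7 h) (trans7 h) hx hy hv hw hxv hyw

theorem card_cent_eq {v w : G} (hc : IsConj v w) :
    Nat.card (centralizer ({w} : Set G)) = Nat.card (centralizer ({v} : Set G)) := by
  obtain ⟨c, rfl⟩ := isConj_iff.1 hc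
  exact CfsgLib.M23Nse.Local.card_cent_conj c v

/-- an involution centralised by an element of order five -/
theorem exists_five (h : Hyp G) :
    ∃ v : G, orderOf v = 2 ∧ 5 ∣ Nat.card (centralizer ({v} : Set G)) := by
  obtain ⟨x, hx⟩ := exists_prime_orderOf_dvd_card' (G := G) 5 (hp := ⟨by norm_num⟩)
    (by rw [h.card]; norm_num)
  obtain ⟨g, hg⟩ := cnt_pos_iff.1 (show 0 < cnt (centralizer ({x} : Set G)) 2 by
    rw [(five h hx).2.1]; norm_num)
  exact ⟨g, by rw [orderOf_coe, hg], hx ▸ dvd_centCard (mem_centralizer_singleton_iff.1 g.2 :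
    Commute (g : G) x).symm⟩

/-- outside the classes at five and seven the centralisers divide `27648` -/
theorem rest_dvd (h : Hyp G) {w : G} (hw : orderOf w = 2)
    (h5 : ¬ 5 ∣ Nat.card (centralizer ({w} : Set G)))
    (h7 : ¬ 7 ∣ Nat.card (centralizer ({w} : Set G))) :
    Nat.card (centralizer ({w} : Set G)) ∣ 27648 := by
  obtain ⟨a, ha, b, hb, e, he, hc⟩ := split (cent_dvd h hw)
  have h11 : ¬ 11 ∣ Nat.card (centralizer ({w} : Set G)) := fun hd => by
    have hok := ok h hw
    rw [hc] at hok hd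
    rw [hc, ok_eleven a ha b hb e he hok hd] at h5
    norm_num at h5
  have hcop : (Nat.card (centralizer ({w} : Set G))).Coprime (5 * (7 * 11)) := by
    refine Nat.Coprime.mul_right ?_ (Nat.Coprime.mul_right ?_ ?_)
    all_goals refine ((Nat.Prime.coprime_iff_not_dvd (by norm_num)).2 ?_).symm
    exacts [h5, h7, h11]
  exact hcop.dvd_of_dvd_mul_right
    (show Nat.card (centralizer ({w} : Set G)) ∣ 27648 * (5 * (7 * 11)) by
      simpa using cent_dvd h hw)

/-- the number of involutions in a union of classes -/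
theorem dvd_union (h : Hyp G) [Fintype G] {s : Finset G} {D m : ℕ}
    (hD : D * m = 244823040) (hm : 0 < m)
    (hs : ∀ v w : G, IsConj v w → v ∈ s → w ∈ s)
    (hc : ∀ v ∈ s, Nat.card (centralizer ({v} : Set G)) ∣ m) : D ∣ s.card := by
  rw [Finset.card_eq_sum_ones]
  refine CfsgLib.Base.Solutions.dvd_sum_of_conj_invariant hs (fun _ _ _ => rfl) fun v hv => ?_
  obtain ⟨k, hk⟩ := hc v hv
  rw [mul_one]
  refine ⟨k, Nat.eq_of_mul_eq_mul_left (show 0 < Nat.card (centralizer ({v} : Set G)) from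
    Nat.card_pos) ?_⟩
  rw [Subgroup.card_mul_index, h.card, ← hD, hk]
  ring

theorem class_card (h : Hyp G) [Fintype G] (v : G) :
    (Finset.univ.filter fun y : G => IsConj v y).card =
      244823040 / Nat.card (centralizer ({v} : Set G)) := by
  rw [← h.card, ← class_mul v, Nat.mul_div_cancel _ Nat.card_pos, Nat.card_eq_fintype_card,
    Fintype.card_subtype]

theorem invol_closed {v w : G} (hc : IsConj v w) (hv : orderOf v = 2) : orderOf w = 2 :=
  (orderOf_eq_of_isConj hc).trans hv

/-- the class of seven is another one -/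
theorem exists_seven (h : Hyp G) {v : G} (hv : orderOf v = 2)
    (hdv : 5 ∣ Nat.card (centralizer ({v} : Set G))) :
    ∃ z : G, orderOf z = 2 ∧ ¬ IsConj v z ∧ 7 ∣ Nat.card (centralizer ({z} : Set G)) := by
  by_contra hno
  push Not at hno
  haveI := Fintype.ofFinite G
  set s := Finset.univ.filter fun w : G => orderOf w = 2 ∧ ¬ IsConj v w with hs
  have h1 : 8855 ∣ s.card := dvd_union h (m := 27648) (by norm_num) (by norm_num)
    (fun a b hab ha => by
      simp only [hs, Finset.mem_filter, Finset.mem_univ, true_and] at ha ⊢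
      exact ⟨invol_closed hab ha.1, fun hb => ha.2 (hb.trans hab.symm)⟩)
    (fun a ha => by
      simp only [hs, Finset.mem_filter, Finset.mem_univ, true_and] at ha
      exact rest_dvd h ha.1 (fun hd => ha.2 (same_five h hv ha.1 hdv hd)) (hno a ha.1 ha.2))
  have h2 : (Finset.univ.filter fun y : G => IsConj v y).card + s.card = cnt G 2 := by
    rw [cnt, Nat.card_eq_fintype_card, Fintype.card_subtype, ← Finset.card_union_of_disjoint]
    · congr 1
      ext y
      simp only [hs, Finset.mem_union, Finset.mem_filter, Finset.mem_univ, true_and]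
      exact ⟨fun hy => hy.elim (fun e => invol_closed e hv) (·.1),
        fun hy => (em (IsConj v y)).imp id (fun e => ⟨hy, e⟩)⟩
    · rw [Finset.disjoint_left]
      intro y hy hy'
      simp only [hs, Finset.mem_filter, Finset.mem_univ, true_and] at hy hy'
      exact hy'.2 hy
  rw [class_card h v, count_2 h] at h2
  exact one_check _ (mem_five h hv hdv) ⟨by omega, by omega⟩

/-- the orders of the two centralisers, and the remaining classes -/
theorem pair (h : Hyp G) {v z : G} (hv : orderOf v = 2) (hz : orderOf z = 2)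
    (hdv : 5 ∣ Nat.card (centralizer ({v} : Set G)))
    (hdz : 7 ∣ Nat.card (centralizer ({z} : Set G))) :
    ¬ IsConj v z ∧ Nat.card (centralizer ({v} : Set G)) ∈ [7680, 17280, 46080] ∧
      Nat.card (centralizer ({z} : Set G)) ∈ [12096, 21504, 96768] ∧
      (Nat.card (centralizer ({z} : Set G)) ≠ 21504 →
        ∃ w : G, orderOf w = 2 ∧ ¬ IsConj w z ∧
          27 ∣ Nat.card (centralizer ({w} : Set G))) ∧
      (Nat.card (centralizer ({z} : Set G)) = 21504 →
        Nat.card (centralizer ({v} : Set G)) = 7680 →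
        ∀ w : G, orderOf w = 2 → IsConj w z ∨ IsConj w v) := by
  haveI := Fintype.ofFinite G
  have hne : ¬ IsConj v z := fun e => by
    obtain ⟨z', hz', hn, hd'⟩ := exists_seven h hv hdv
    exact hn (e.trans (same_seven h hz hz' hdz hd'))
  have h5z : ¬ 5 ∣ Nat.card (centralizer ({z} : Set G)) := fun hd =>
    hne (same_five h hv hz hdv hd)
  have h7v : ¬ 7 ∣ Nat.card (centralizer ({v} : Set G)) := fun hd =>
    hne (same_seven h hv hz hd hdz)
  set s := Finset.univ.filter
    fun w : G => orderOf w = 2 ∧ ¬ IsConj v w ∧ ¬ IsConj z w with hs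
  have hclosed : ∀ a b : G, IsConj a b → a ∈ s → b ∈ s := fun a b hab ha => by
    simp only [hs, Finset.mem_filter, Finset.mem_univ, true_and] at ha ⊢
    exact ⟨invol_closed hab ha.1, fun hb => ha.2.1 (hb.trans hab.symm),
      fun hb => ha.2.2 (hb.trans hab.symm)⟩
  have hrest : ∀ a ∈ s, Nat.card (centralizer ({a} : Set G)) ∣ 27648 := fun a ha => by
    simp only [hs, Finset.mem_filter, Finset.mem_univ, true_and] at ha
    exact rest_dvd h ha.1 (fun hd => ha.2.1 (same_five h hv ha.1 hdv hd))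
      (fun hd => ha.2.2 (same_seven h hz ha.1 hdz hd))
  have h1 : 8855 ∣ s.card := dvd_union h (m := 27648) (by norm_num) (by norm_num) hclosed hrest
  have h2 : (Finset.univ.filter fun y : G => IsConj v y).card +
      (Finset.univ.filter fun y : G => IsConj z y).card + s.card = cnt G 2 := by
    rw [cnt, Nat.card_eq_fintype_card, Fintype.card_subtype, ← Finset.card_union_of_disjoint,
      ← Finset.card_union_of_disjoint]
    · congr 1
      ext y
      simp only [hs, Finset.mem_union, Finset.mem_filter, Finset.mem_univ, true_and]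
      constructor
      · rintro ((e | e) | e)
        exacts [invol_closed e hv, invol_closed e hz, e.1]
      · intro hy
        by_cases e1 : IsConj v y
        · exact Or.inl (Or.inl e1)
        by_cases e2 : IsConj z y
        · exact Or.inl (Or.inr e2)
        exact Or.inr ⟨hy, e1, e2⟩
    · rw [Finset.disjoint_left]
      intro y hy hy'
      simp only [hs, Finset.mem_union, Finset.mem_filter, Finset.mem_univ, true_and] at hy hy'
      exact hy.elim hy'.2.1 hy'.2.2
    · rw [Finset.disjoint_left]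
      intro y hy hy'
      simp only [Finset.mem_filter, Finset.mem_univ, true_and] at hy hy'
      exact hne (hy.trans hy'.symm)
  rw [class_card h v, class_card h z, count_2 h] at h2
  obtain ⟨x, hx, hxz⟩ := comm_of_dvd (by norm_num) hdz
  have hz6 : Nat.card (centralizer ({z} : Set G)) ∈
      [8064, 64512, 967680, 12096, 21504, 96768] := by
    rcases mem_seven h hz hx hxz with ⟨-, e⟩ | ⟨-, e⟩ <;>
      · simp only [List.mem_cons, List.not_mem_nil, or_false] at e ⊢
        omega
  obtain ⟨hV, hZ, h27⟩ := two_check _ (mem_five h hv hdv) _ hz6 h7v h5z (by omega) (by omega)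
  refine ⟨hne, hV, hZ, fun hz21 => ?_, fun hz21 hv76 w hw => ?_⟩
  · by_cases hv27 : 27 ∣ Nat.card (centralizer ({v} : Set G))
    · exact ⟨v, hv, hne, hv27⟩
    by_contra hno
    push Not at hno
    refine h27 hv27 hz21 ?_
    have h3 : 26565 ∣ s.card := dvd_union h (m := 9216) (by norm_num) (by norm_num) hclosed
      fun a ha => by
        have hd := hrest a ha
        simp only [hs, Finset.mem_filter, Finset.mem_univ, true_and] at ha
        have hn27 := hno a ha.1 (fun e => ha.2.2 e.symm)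
        obtain ⟨p, q, hp, hq, hpq⟩ :=
          Nat.dvd_mul.1 (show Nat.card (centralizer ({a} : Set G)) ∣ 1024 * 27 by simpa using hd)
        obtain ⟨i, hi, rfl⟩ := (Nat.dvd_prime_pow Nat.prime_three).1 (show q ∣ 3 ^ 3 from hq)
        rw [← hpq] at hn27 ⊢
        have hi2 : i ≤ 2 := by
          by_contra h3
          obtain rfl : i = 3 := by omega
          exact hn27 (dvd_mul_left _ _)
        exact (Nat.mul_dvd_mul hp (pow_dvd_pow 3 hi2)).trans (by norm_num)
    omega
  · rw [hz21, hv76] at h2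
    have hs0 : s = ∅ := Finset.card_eq_zero.1 (by omega)
    by_contra hno
    push Not at hno
    have hmem : w ∈ s := by
      simp only [hs, Finset.mem_filter, Finset.mem_univ, true_and]
      exact ⟨hw, fun e => hno.2 e.symm, fun e => hno.1 e.symm⟩
    rw [hs0] at hmem
    exact Finset.notMem_empty w hmem

/-- three involutions commute with an element of order seven -/
theorem invol_seven (h : Hyp G) {x : G} (hx : orderOf x = 7) :
    cnt (centralizer ({x} : Set G)) 2 = 3 := by
  haveI : Fact (Nat.Prime 7) := ⟨by norm_num⟩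
  obtain ⟨v, hv, hdv⟩ := exists_five h
  obtain ⟨z, hz, -, hdz⟩ := exists_seven h hv hdv
  obtain ⟨y, hy, hyz⟩ := comm_of_dvd (by norm_num) hdz
  obtain ⟨-, -, hZ, -⟩ := pair h hv hz hdv hdz
  have hy3 : cnt (centralizer ({y} : Set G)) 2 = 3 := by
    rcases mem_seven h hz hy hyz with ⟨-, e⟩ | ⟨e, -⟩
    · simp only [List.mem_cons, List.not_mem_nil, or_false] at e hZ
      omega
    · exact e
  rw [← hy3, ← card_invol_cent, ← card_invol_cent]
  exact CfsgLib.M22Nse.CountsP1.centCnt_const (syl7 h) hx hy 2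

theorem cent_11 (h : Hyp G) {x : G} (hx : orderOf x = 11) :
    Nat.card (centralizer ({x} : Set G)) = 11 := by
  rcases eleven h hx with ⟨e, -⟩ | ⟨-, e⟩
  · exact e
  exfalso
  obtain ⟨g, hg⟩ := cnt_pos_iff.1 (show 0 < cnt (centralizer ({x} : Set G)) 2 by omega)
  have hw : orderOf (g : G) = 2 := by rw [orderOf_coe, hg]
  have hd : 11 ∣ Nat.card (centralizer ({(g : G)} : Set G)) :=
    hx ▸ dvd_centCard (mem_centralizer_singleton_iff.1 g.2 : Commute (g : G) x).symm
  obtain ⟨a, ha, b, hb, c, hc, hcard⟩ := split (cent_dvd h hw)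
  have hok := ok h hw
  rw [hcard] at hok hd
  have h19 := hcard.trans (ok_eleven a ha b hb c hc hok hd)
  obtain ⟨v, hv, hdv⟩ := exists_five h
  obtain ⟨z, hz, -, hdz⟩ := exists_seven h hv hdv
  have hV := (pair h hv hz hdv hdz).2.1
  rw [← card_cent_eq (same_five h hv hw hdv (by rw [h19]; norm_num)), h19] at hV
  norm_num at hV

end CfsgLib.M24Nse.CountsP1
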