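import Cfsg.Agent.Lib.M24Nse.CountsBase
import Cfsg.Agent.Lib.M23Nse.LocalBase

/-!
# S3596, piece P1: the centralisers of elements of order five, seven and eleven
-/

set_option autoImplicit false
set_option linter.unusedSectionVars false
set_option linter.style.haveILetI false
set_option maxHeartbeats 800000

open scoped Classical

namespace CfsgLib.M24Nse.CountsP1

open Subgroup
open CfsgLib.M22Nse.CountsP1 (dvd_centCard conj_order)
open CfsgLib.M23Nse.Local (orderOf_mul_coprime class_mul)

universe u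

variable {G : Type u} [Group G] [Finite G]

theorem frob {H : Type u} [Group H] [Finite H] {n : ℕ} (hd : n ∣ Nat.card H) :
    n ∣ ∑ d ∈ n.divisors, cnt H d := by
  have hn : n ≠ 0 := fun e => (Nat.card_pos (α := H)).ne' (zero_dvd_iff.1 (e ▸ hd))
  show n ∣ ∑ d ∈ n.divisors, CfsgLib.Techniques.OrderClasses.cnt H d
  rw [CfsgLib.Techniques.OrderClasses.sum_cnt H hn]
  exact CfsgLib.Base.Solutions.dvd_card_pow_eq_one hd

/-- three involutions and an element of order three that commutes with none are one class -/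
theorem trans_three {H : Type u} [Group H] [Finite H] (h2 : cnt H 2 = 3) (h6 : cnt H 6 = 0)
    (h3 : 3 ∣ Nat.card H) {v w : H} (hv : orderOf v = 2) (hw : orderOf w = 2) : IsConj v w := by
  haveI : Fact (Nat.Prime 3) := ⟨Nat.prime_three⟩
  obtain ⟨g, hg⟩ := exists_prime_orderOf_dvd_card' (G := H) 3 h3
  have hnc : ∀ u : H, orderOf u = 2 → g * u * g⁻¹ ≠ u := fun u hu e => by
    have h := orderOf_mul_coprime (show Commute g u from mul_inv_eq_iff_eq_mul.1 e) hg hu
      (by norm_num)
    have h' : 0 < cnt H 6 := cnt_pos_iff.2 ⟨g * u, by simpa using h⟩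
    omega
  let cj : {y : H // orderOf y = 2} → {y : H // orderOf y = 2} :=
    fun u => ⟨g * u.1 * g⁻¹, by rw [conj_order, u.2]⟩
  let a : {y : H // orderOf y = 2} := ⟨v, hv⟩
  have hne1 : cj a ≠ a := fun e => hnc _ a.2 (congrArg Subtype.val e)
  have hne2 : cj (cj a) ≠ cj a := fun e => hnc _ (cj a).2 (congrArg Subtype.val e)
  have hne3 : cj (cj a) ≠ a := fun e => by
    refine hnc _ a.2 ?_
    have h1 : cj (cj (cj a)) = a := Subtype.ext (by
      show g * (g * (g * v * g⁻¹) * g⁻¹) * g⁻¹ = v
      have h0 : g * (g * g) = 1 := calc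
        g * (g * g) = g ^ 3 := by simp [pow_succ, mul_assoc]
        _ = 1 := hg ▸ pow_orderOf_eq_one g
      calc g * (g * (g * v * g⁻¹) * g⁻¹) * g⁻¹ = g * (g * g) * v * (g * (g * g))⁻¹ := by group
        _ = v := by rw [h0, one_mul, inv_one, mul_one])
    exact congrArg Subtype.val ((congrArg cj e).symm.trans h1)
  haveI := Fintype.ofFinite {y : H // orderOf y = 2}
  have huniv : ({a, cj a, cj (cj a)} : Finset _) = Finset.univ :=
    Finset.eq_univ_of_card _ (by
      rw [Finset.card_eq_three.2 ⟨_, _, _, hne1.symm, hne3.symm, hne2.symm, rfl⟩,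
        ← Nat.card_eq_fintype_card]
      exact h2.symm)
  have hmem := Finset.mem_univ (⟨w, hw⟩ : {y : H // orderOf y = 2})
  rw [← huniv] at hmem
  simp only [Finset.mem_insert, Finset.mem_singleton] at hmem
  rcases hmem with e | e | e
  · obtain rfl : w = v := congrArg Subtype.val e
    exact IsConj.refl w
  · exact isConj_iff.2 ⟨g, (congrArg Subtype.val e).symm⟩
  · refine isConj_iff.2 ⟨g * g, ?_⟩
    have e' : w = g * (g * v * g⁻¹) * g⁻¹ := congrArg Subtype.val e
    rw [e']
    group

/-- the subgroup generated by an element of order `p` is conjugate to any other -/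
theorem conj_zpowers {p : ℕ} [Fact p.Prime]
    (hP : ∀ P : Sylow p G, Nat.card (P : Subgroup G) = p) {x y : G} (hx : orderOf x = p)
    (hy : orderOf y = p) : ∃ c : G, y ∈ zpowers (c * x * c⁻¹) := by
  have hcard : ∀ z : G, orderOf z = p → Nat.card (zpowers z) = p ^ (Nat.card G).factorization p :=
    fun z hz => by
      obtain ⟨P⟩ := (inferInstance : Nonempty (Sylow p G))
      rw [Nat.card_zpowers, hz, ← Sylow.card_eq_multiplicity P, hP P]
  let P : Sylow p G := Sylow.ofCard (zpowers x) (hcard x hx)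
  let Q : Sylow p G := Sylow.ofCard (zpowers y) (hcard y hy)
  obtain ⟨c, hc⟩ := MulAction.exists_smul_eq G P Q
  have hmem : c * x * c⁻¹ ∈ zpowers y := by
    have h1 : c * x * c⁻¹ ∈ ((c • P : Sylow p G) : Subgroup G) :=
      Subgroup.smul_mem_pointwise_smul x (MulAut.conj c) (P : Subgroup G)
        (by rw [Sylow.coe_ofCard]; exact mem_zpowers x)
    rw [hc, Sylow.coe_ofCard] at h1
    exact h1
  refine ⟨c, ?_⟩
  rw [Subgroup.eq_of_le_of_card_ge (zpowers_le.2 hmem)
    (le_of_eq (by rw [Nat.card_zpowers, Nat.card_zpowers, conj_order, hx, hy]))]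
  exact mem_zpowers y

/-- one class of involutions meets a prime -/
theorem one_class {p : ℕ} [Fact p.Prime]
    (hP : ∀ P : Sylow p G, Nat.card (P : Subgroup G) = p)
    (ht : ∀ x v w : G, orderOf x = p → orderOf v = 2 → orderOf w = 2 → Commute x v → Commute x w →
      IsConj v w)
    {x y v w : G} (hx : orderOf x = p) (hy : orderOf y = p) (hv : orderOf v = 2)
    (hw : orderOf w = 2) (hxv : Commute x v) (hyw : Commute y w) : IsConj v w := by
  obtain ⟨c, hc⟩ := conj_zpowers hP hx hy
  obtain ⟨k, hk⟩ := mem_zpowers_iff.1 hc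
  have h1 : Commute y (c * v * c⁻¹) := by
    rw [← hk]
    exact ((Commute.conj_iff c).2 hxv).zpow_left k
  exact (isConj_iff.2 ⟨c, rfl⟩ : IsConj v (c * v * c⁻¹)).trans
    (ht y _ w hy (by rw [conj_order, hv]) hw h1 hyw)

/-- conjugacy in a centraliser gives conjugacy -/
theorem isConj_of_cent {x v w : G} (hxv : Commute x v) (hxw : Commute x w)
    (h : IsConj (⟨v, mem_centralizer_singleton_iff.2 hxv.eq.symm⟩ : centralizer ({x} : Set G))
      ⟨w, mem_centralizer_singleton_iff.2 hxw.eq.symm⟩) : IsConj v w :=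
  (centralizer ({x} : Set G)).subtype.map_isConj h

theorem card_invol_cent (x : G) :
    Nat.card {v : G // Commute x v ∧ orderOf v = 2} = cnt (centralizer ({x} : Set G)) 2 :=
  CfsgLib.M22Nse.CountsP1.centCnt_eq x 2

/-- double counting between an element of order `p` and an involution -/
theorem meet_count {p : ℕ} [Fact p.Prime]
    (hP : ∀ P : Sylow p G, Nat.card (P : Subgroup G) = p)
    (ht : ∀ x v w : G, orderOf x = p → orderOf v = 2 → orderOf w = 2 → Commute x v → Commute x w →
      IsConj v w)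
    {x w : G} (hx : orderOf x = p) (hw : orderOf w = 2) (hxw : Commute x w) :
    cnt (centralizer ({w} : Set G)) p * Nat.card G =
      cnt G p * cnt (centralizer ({x} : Set G)) 2 * Nat.card (centralizer ({w} : Set G)) := by
  haveI := Fintype.ofFinite G
  have hord : ∀ v, IsConj w v → orderOf v = 2 := fun v hv =>
    (CfsgLib.M23Nse.Local.orderOf_eq_of_isConj hv).trans hw
  have e : (Σ y : {y : G // orderOf y = p}, {v : G // Commute y.1 v ∧ orderOf v = 2}) ≃
      (Σ v : {v : G // IsConj w v}, {y : G // Commute v.1 y ∧ orderOf y = p}) :=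
    { toFun := fun s => ⟨⟨s.2.1, one_class hP ht hx s.1.2 hw s.2.2.2 hxw s.2.2.1⟩,
        ⟨s.1.1, s.2.2.1.symm, s.1.2⟩⟩
      invFun := fun s => ⟨⟨s.2.1, s.2.2.2⟩, ⟨s.1.1, s.2.2.1.symm, hord _ s.1.2⟩⟩
      left_inv := fun _ => rfl
      right_inv := fun _ => rfl }
  have h1 := Nat.card_congr e
  rw [Nat.card_sigma, Nat.card_sigma] at h1
  have hl : ∀ y : {y : G // orderOf y = p}, Nat.card {v : G // Commute y.1 v ∧ orderOf v = 2} =
      cnt (centralizer ({x} : Set G)) 2 := fun y => by
    rw [← card_invol_cent]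
    exact CfsgLib.M22Nse.CountsP1.centCnt_const hP y.2 hx 2
  have hr : ∀ v : {v : G // IsConj w v}, Nat.card {y : G // Commute v.1 y ∧ orderOf y = p} =
      cnt (centralizer ({w} : Set G)) p := fun v => by
    obtain ⟨c, hc⟩ := isConj_iff.1 v.2
    refine Eq.trans ?_ (CfsgLib.M22Nse.CountsP1.centCnt_eq w p)
    refine (Nat.card_congr ((MulAut.conj c).toEquiv.subtypeEquiv fun y => ?_)).symm
    simp only [MulEquiv.toEquiv_eq_coe, EquivLike.coe_coe, MulAut.conj_apply]
    rw [conj_order, ← hc, Commute.conj_iff]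
  rw [Finset.sum_congr rfl (fun y _ => hl y), Finset.sum_congr rfl (fun v _ => hr v),
    Finset.sum_const, Finset.sum_const, smul_eq_mul, smul_eq_mul, Finset.card_univ,
    Finset.card_univ, ← Nat.card_eq_fintype_card, ← Nat.card_eq_fintype_card] at h1
  rw [← class_mul w]
  calc _ = Nat.card {v : G // IsConj w v} * cnt (centralizer ({w} : Set G)) p *
        Nat.card (centralizer ({w} : Set G)) := by ring
    _ = _ := by rw [← h1]; rfl

/-- the numbers inside the centraliser of an element of order five -/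
theorem small5 (h : Hyp G) {x : G} (hx : orderOf x = 5) {m : ℕ} (hm : Nat.Coprime 5 m) :
    let a := cnt (centralizer ({x} : Set G)) m
    cnt G (5 * m) = 4080384 * a ∧ (a = 0 ∨ a = 1 ∨ a = 3 ∨ a = 5 ∨ a = 8 ∨ a = 10) := by
  haveI : Fact (Nat.Prime 5) := ⟨by norm_num⟩
  intro a
  have h1 := cnt_prod' (syl5 h) hx hm
  rw [count_5 h] at h1
  have := values h (5 * m)
  refine ⟨h1, ?_⟩
  omega

theorem search24 : ∀ i ∈ [1, 3, 5], ∀ a ∈ [0, 8, 10], ∀ b ∈ [0, 8, 10], ∀ c ∈ [0, 8],
    ∀ d ∈ [0, 8], ∀ e ∈ [0, 8], ¬ (9 + i + a + b + c + d + e = 24 ∧ (b + i) % 3 = 0 ∧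
      (1 + i + a + c) % 8 = 0) := by decide +kernel

theorem search48 : ∀ i ∈ [1, 3, 5], ∀ a ∈ [0, 8, 10], ∀ b ∈ [0, 8, 10], ∀ c ∈ [0, 8],
    ∀ d ∈ [0, 8], ∀ e ∈ [0, 8], ∀ f ∈ [0, 8],
    ¬ (9 + i + a + b + c + d + e + f = 48 ∧ (b + i) % 3 = 0 ∧ (d + a) % 3 = 0 ∧
      (f + c) % 3 = 0 ∧ (1 + i + a) % 4 = 0 ∧ (1 + i + a + c) % 8 = 0 ∧
      (1 + i + a + c + e) % 16 = 0) := by decide +kernel

/-- the centraliser of an element of order five -/
theorem five (h : Hyp G) {x : G} (hx : orderOf x = 5) :
    Nat.card (centralizer ({x} : Set G)) = 60 ∧ cnt (centralizer ({x} : Set G)) 2 = 3 ∧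
      cnt (centralizer ({x} : Set G)) 4 = 0 ∧ cnt (centralizer ({x} : Set G)) 6 = 0 := by
  haveI : Fact (Nat.Prime 5) := ⟨by norm_num⟩
  obtain ⟨e, he, hmul⟩ := (local_eq h (syl5 h) (count_5 h) (N := 240) (by norm_num)).2 x hx
  obtain ⟨k, hk⟩ : 5 ∣ Nat.card (centralizer ({x} : Set G)) := prime_dvd_cent hx
  rw [hk] at hmul
  have hle : e ≤ 4 := Nat.le_of_dvd (by norm_num) he
  have hk48 : k * e = 48 := by
    rw [mul_assoc] at hmul
    omega
  have hcases : k = 12 ∨ k = 24 ∨ k = 48 := by
    interval_cases e <;> omega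
  have hsum := sum_div_cent (by norm_num) hx hk (by rcases hcases with rfl | rfl | rfl <;> norm_num)
  have c1 : cnt (centralizer ({x} : Set G)) 1 = 1 := CfsgLib.Techniques.OrderClasses.cnt_one _
  have hd : 12 ∣ Nat.card (centralizer ({x} : Set G)) := by
    rw [hk]; rcases hcases with rfl | rfl | rfl <;> norm_num
  have h2m := succ_mod (H := centralizer ({x} : Set G)) Nat.prime_two
    (dvd_trans (by norm_num) hd)
  have h3m := succ_mod (H := centralizer ({x} : Set G)) Nat.prime_three
    (dvd_trans (by norm_num) hd)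
  have ev3 := totient_dvd (G := centralizer ({x} : Set G)) 3
  have ev4 := totient_dvd (G := centralizer ({x} : Set G)) 4
  have ev6 := totient_dvd (G := centralizer ({x} : Set G)) 6
  have ev12 := totient_dvd (G := centralizer ({x} : Set G)) 12
  rw [show Nat.totient 3 = 2 by decide +kernel] at ev3
  rw [show Nat.totient 4 = 2 by decide +kernel] at ev4
  rw [show Nat.totient 6 = 2 by decide +kernel] at ev6
  rw [show Nat.totient 12 = 4 by decide +kernel] at ev12
  obtain ⟨g3, v3⟩ := small5 h hx (m := 3) (by norm_num)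
  have v2 := (small5 h hx (m := 2) (by norm_num)).2
  have v4 := (small5 h hx (m := 4) (by norm_num)).2
  have v6 := (small5 h hx (m := 6) (by norm_num)).2
  have v12 := (small5 h hx (m := 12) (by norm_num)).2
  have ht : cnt (centralizer ({x} : Set G)) 3 = 8 := by omega
  have m4 : cnt (centralizer ({x} : Set G)) 4 ∈ [0, 8, 10] := by simp; omega
  have m6 : cnt (centralizer ({x} : Set G)) 6 ∈ [0, 8, 10] := by simp; omega
  have m2 : cnt (centralizer ({x} : Set G)) 2 ∈ [1, 3, 5] := by simp; omega
  have m12 : cnt (centralizer ({x} : Set G)) 12 ∈ [0, 8] := by simp; omega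
  have hd8 : k = 24 ∨ k = 48 → cnt (centralizer ({x} : Set G)) 8 ∈ [0, 8] ∧
      cnt (centralizer ({x} : Set G)) 24 ∈ [0, 8] := fun _ => by
    have ev8 := totient_dvd (G := centralizer ({x} : Set G)) 8
    have ev24 := totient_dvd (G := centralizer ({x} : Set G)) 24
    rw [show Nat.totient 8 = 4 by decide +kernel] at ev8
    rw [show Nat.totient 24 = 8 by decide +kernel] at ev24
    have v8 := (small5 h hx (m := 8) (by norm_num)).2
    have v24 := (small5 h hx (m := 24) (by norm_num)).2
    constructor <;> simp <;> omega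
  have hk12 : k = 12 := by
    rcases hcases with rfl | rfl | rfl
    · rfl
    · exfalso
      obtain ⟨m8, m24⟩ := hd8 (Or.inl rfl)
      have h6 := add_mod (H := centralizer ({x} : Set G)) (p := 3) (d := 2) Nat.prime_three
        (by norm_num) (dvd_trans (by norm_num) hd)
      have f8 := frob (H := centralizer ({x} : Set G)) (n := 8) (by rw [hk]; norm_num)
      rw [show (24 : ℕ).divisors = {1, 2, 3, 4, 6, 8, 12, 24} by decide +kernel] at hsum
      rw [show (8 : ℕ).divisors = {1, 2, 4, 8} by decide +kernel] at f8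
      simp [c1, ht] at hsum f8
      simp only [Nat.reduceMul] at h6
      exact search24 _ m2 _ m4 _ m6 _ m8 _ m12 _ m24 (by omega)
    · exfalso
      obtain ⟨m8, m24⟩ := hd8 (Or.inr rfl)
      have ev16 := totient_dvd (G := centralizer ({x} : Set G)) 16
      have ev48 := totient_dvd (G := centralizer ({x} : Set G)) 48
      rw [show Nat.totient 16 = 8 by decide +kernel] at ev16
      rw [show Nat.totient 48 = 16 by decide +kernel] at ev48
      have v16 := (small5 h hx (m := 16) (by norm_num)).2
      have v48 := (small5 h hx (m := 48) (by norm_num)).2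
      have m16 : cnt (centralizer ({x} : Set G)) 16 ∈ [0, 8] := by simp; omega
      have z48 : cnt (centralizer ({x} : Set G)) 48 = 0 := by omega
      have f4 := frob (H := centralizer ({x} : Set G)) (n := 4) (dvd_trans (by norm_num) hd)
      have f8 := frob (H := centralizer ({x} : Set G)) (n := 8) (by rw [hk]; norm_num)
      have f16 := frob (H := centralizer ({x} : Set G)) (n := 16) (by rw [hk]; norm_num)
      have h6 := add_mod (H := centralizer ({x} : Set G)) (p := 3) (d := 2) Nat.prime_three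
        (by norm_num) (dvd_trans (by norm_num) hd)
      have h12 := add_mod (H := centralizer ({x} : Set G)) (p := 3) (d := 4) Nat.prime_three
        (by norm_num) (dvd_trans (by norm_num) hd)
      have h24 := add_mod (H := centralizer ({x} : Set G)) (p := 3) (d := 8) Nat.prime_three
        (by norm_num) (by rw [hk]; norm_num)
      rw [show (48 : ℕ).divisors = {1, 2, 3, 4, 6, 8, 12, 16, 24, 48} by decide +kernel] at hsum
      rw [show (4 : ℕ).divisors = {1, 2, 4} by decide +kernel] at f4
      rw [show (8 : ℕ).divisors = {1, 2, 4, 8} by decide +kernel] at f8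
      rw [show (16 : ℕ).divisors = {1, 2, 4, 8, 16} by decide +kernel] at f16
      simp [c1, ht, z48] at hsum f4 f8 f16
      simp only [Nat.reduceMul] at h6 h12 h24
      exact search48 _ m2 _ m4 _ m6 _ m8 _ m12 _ m16 _ m24 (by omega)
  refine ⟨by rw [hk, hk12], ?_⟩
  subst hk12
  rw [show (12 : ℕ).divisors = {1, 2, 3, 4, 6, 12} by decide +kernel] at hsum
  simp [c1, ht] at hsum
  omega

/-- the centraliser of an element of order seven -/
theorem seven (h : Hyp G) {x : G} (hx : orderOf x = 7) :
    (Nat.card (centralizer ({x} : Set G)) = 21 ∧ cnt (centralizer ({x} : Set G)) 2 = 0) ∨ (Nat.card (centralizer ({x} : Set G)) = 42 ∧ cnt (centralizer ({x} : Set G)) 2 = 1) ∨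
      (Nat.card (centralizer ({x} : Set G)) = 42 ∧ cnt (centralizer ({x} : Set G)) 2 = 3 ∧ cnt (centralizer ({x} : Set G)) 6 = 0) := by
  haveI : Fact (Nat.Prime 7) := ⟨by norm_num⟩
  obtain ⟨e, he, hmul⟩ := (local_eq h (syl7 h) (count_7 h) (N := 126) (by norm_num)).2 x hx
  obtain ⟨k, hk⟩ : 7 ∣ Nat.card (centralizer ({x} : Set G)) := prime_dvd_cent hx
  rw [hk, mul_assoc] at hmul
  have hke : k * e = 18 := by omega
  have hle : e ≤ 6 := Nat.le_of_dvd (by norm_num) he
  have hc : (k = 18 ∨ k = 9) ∨ k = 6 ∨ k = 3 := by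
    interval_cases e <;> omega
  have hd3 : 3 ∣ Nat.card (centralizer ({x} : Set G)) := by
    rw [hk]; rcases hc with (rfl | rfl) | rfl | rfl <;> norm_num
  have h3m := succ_mod (H := (centralizer ({x} : Set G))) Nat.prime_three hd3
  have ev3 := totient_dvd (G := (centralizer ({x} : Set G))) 3
  rw [show Nat.totient 3 = 2 by decide +kernel] at ev3
  have p3 := cnt_prod' (syl7 h) hx (m := 3) (by norm_num)
  rw [count_7 h] at p3
  have u3 := values h (7 * 3)
  have ht : cnt (centralizer ({x} : Set G)) 3 = 2 := by omega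
  have c1 : cnt (centralizer ({x} : Set G)) 1 = 1 := CfsgLib.Techniques.OrderClasses.cnt_one _
  have h9 : ¬ 9 ∣ Nat.card (centralizer ({x} : Set G)) := fun hd => by
    have f9 := frob (H := (centralizer ({x} : Set G))) hd
    have ev9 := totient_dvd (G := (centralizer ({x} : Set G))) 9
    rw [show Nat.totient 9 = 6 by decide +kernel] at ev9
    have p9 := cnt_prod' (syl7 h) hx (m := 9) (by norm_num)
    rw [count_7 h] at p9
    have u9 := values h (7 * 9)
    rw [show (9 : ℕ).divisors = {1, 3, 9} by decide +kernel] at f9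
    simp [c1, ht] at f9
    omega
  rw [hk] at h9 ⊢
  have hsum := sum_div_cent (k := k) (by norm_num) hx hk
    (by rcases hc with (rfl | rfl) | rfl | rfl <;> norm_num)
  rcases hc with (rfl | rfl) | rfl | rfl
  · exact absurd (by norm_num) h9
  · exact absurd (by norm_num) h9
  · have h2m := succ_mod (H := (centralizer ({x} : Set G))) Nat.prime_two (by rw [hk]; norm_num)
    have ev6 := totient_dvd (G := (centralizer ({x} : Set G))) 6
    rw [show Nat.totient 6 = 2 by decide +kernel] at ev6
    rw [show (6 : ℕ).divisors = {1, 2, 3, 6} by decide +kernel] at hsum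
    change _ = _ at hsum
    simp [c1] at hsum
    omega
  · refine Or.inl ⟨rfl, ?_⟩
    by_contra hne
    obtain ⟨g, hg⟩ := cnt_pos_iff.1 (Nat.pos_of_ne_zero hne)
    have hd : orderOf g ∣ Nat.card (centralizer ({x} : Set G)) := orderOf_dvd_natCard g
    rw [hk, hg] at hd
    norm_num at hd

/-- at most one involution commutes with an element of order eleven -/
theorem eleven (h : Hyp G) {x : G} (hx : orderOf x = 11) :
    (Nat.card (centralizer ({x} : Set G)) = 11 ∧ cnt (centralizer ({x} : Set G)) 2 = 0) ∨ (Nat.card (centralizer ({x} : Set G)) = 22 ∧ cnt (centralizer ({x} : Set G)) 2 = 1) := by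
  obtain ⟨k, hk⟩ : 11 ∣ Nat.card (centralizer ({x} : Set G)) := prime_dvd_cent hx
  have hd : Nat.card (centralizer ({x} : Set G)) ∣ 11 * 2 := cent_11_dvd h hx
  rw [hk] at hd ⊢
  rcases (Nat.dvd_prime Nat.prime_two).1 ((Nat.mul_dvd_mul_iff_left (by norm_num)).1 hd) with
    rfl | rfl
  · refine Or.inl ⟨rfl, ?_⟩
    by_contra hne
    obtain ⟨g, hg⟩ := cnt_pos_iff.1 (Nat.pos_of_ne_zero hne)
    have hd2 : orderOf g ∣ Nat.card (centralizer ({x} : Set G)) := orderOf_dvd_natCard g
    rw [hk, hg] at hd2
    norm_num at hd2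
  · have hsum := sum_div_cent (k := 2) (by norm_num) hx hk (by norm_num)
    rw [show (2 : ℕ).divisors = {1, 2} by decide +kernel] at hsum
    have c1 : cnt (centralizer ({x} : Set G)) 1 = 1 := CfsgLib.Techniques.OrderClasses.cnt_one _
    simp [c1] at hsum
    exact Or.inr ⟨rfl, by show cnt (centralizer ({x} : Set G)) 2 = 1; omega⟩

theorem eq_of_cnt_le_one {x v w : G} (hle : cnt (centralizer ({x} : Set G)) 2 ≤ 1)
    (hv : orderOf v = 2) (hw : orderOf w = 2) (hxv : Commute x v) (hxw : Commute x w) : v = w := by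
  rw [← card_invol_cent] at hle
  haveI := (Finite.card_le_one_iff_subsingleton
    (α := {v : G // Commute x v ∧ orderOf v = 2})).1 hle
  exact congrArg Subtype.val (Subsingleton.elim
    (⟨v, hxv, hv⟩ : {v : G // Commute x v ∧ orderOf v = 2}) ⟨w, hxw, hw⟩)

/-- the involutions that commute with an element of order five are conjugate -/
theorem trans5 (h : Hyp G) : ∀ x v w : G, orderOf x = 5 → orderOf v = 2 → orderOf w = 2 →
    Commute x v → Commute x w → IsConj v w := by
  intro x v w hx hv hw hxv hxw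
  obtain ⟨hC, h2, -, h6⟩ := five h hx
  exact isConj_of_cent hxv hxw (trans_three h2 h6 (by rw [hC]; norm_num)
    (by rw [orderOf_mk, hv]) (by rw [orderOf_mk, hw]))

/-- the involutions that commute with an element of order seven are conjugate -/
theorem trans7 (h : Hyp G) : ∀ x v w : G, orderOf x = 7 → orderOf v = 2 → orderOf w = 2 →
    Commute x v → Commute x w → IsConj v w := by
  intro x v w hx hv hw hxv hxw
  rcases seven h hx with ⟨-, h2⟩ | ⟨-, h2⟩ | ⟨hC, h2, h6⟩
  · rw [eq_of_cnt_le_one (by omega) hv hw hxv hxw]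
  · rw [eq_of_cnt_le_one (by omega) hv hw hxv hxw]
  · exact isConj_of_cent hxv hxw (trans_three h2 h6 (by rw [hC]; norm_num)
      (by rw [orderOf_mk, hv]) (by rw [orderOf_mk, hw]))

/-- the involutions that commute with an element of order eleven are conjugate -/
theorem trans11 (h : Hyp G) : ∀ x v w : G, orderOf x = 11 → orderOf v = 2 → orderOf w = 2 →
    Commute x v → Commute x w → IsConj v w := by
  intro x v w hx hv hw hxv hxw
  rcases eleven h hx with ⟨-, h2⟩ | ⟨-, h2⟩ <;>
    rw [eq_of_cnt_le_one (by omega) hv hw hxv hxw]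

/-- with all the involutions conjugate, an involution is centralised by a third of the group -/
theorem card_commute {H : Type u} [Group H] [Finite H] (h2 : cnt H 2 = 3) (h6 : cnt H 6 = 0)
    (h3 : 3 ∣ Nat.card H) {v : H} (hv : orderOf v = 2) :
    3 * Nat.card (centralizer ({v} : Set H)) = Nat.card H := by
  rw [← class_mul v, ← h2]
  congr 1
  exact Nat.card_congr (Equiv.subtypeEquivRight fun y =>
    ⟨fun hy => trans_three h2 h6 h3 hv hy,
      fun hy => (CfsgLib.M23Nse.Local.orderOf_eq_of_isConj hy).trans hv⟩)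

/-- three involutions without elements of order four commute when a fourth of the order is in the
centraliser -/
theorem commute_three {H : Type u} [Group H] [Finite H] (h2 : cnt H 2 = 3) (h4 : cnt H 4 = 0)
    {v w : H} (hv : orderOf v = 2) (hw : orderOf w = 2)
    (hd : 4 ∣ Nat.card (centralizer ({v} : Set H))) : Commute v w := by
  haveI : Fact (Nat.Prime 2) := ⟨Nat.prime_two⟩
  obtain ⟨S, hS⟩ := Sylow.exists_subgroup_card_pow_prime (G := centralizer ({v} : Set H)) 2
    (n := 2) (by simpa using hd)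
  haveI := Fintype.ofFinite S
  haveI := Fintype.ofFinite {y : H // orderOf y = 2}
  have hord : ∀ s : S, s ≠ 1 → orderOf ((s : centralizer ({v} : Set H)) : H) = 2 := fun s hs => by
    have hd4 : orderOf ((s : centralizer ({v} : Set H)) : H) ∣ 2 ^ 2 := by
      rw [orderOf_coe, orderOf_coe, ← hS]; exact orderOf_dvd_natCard s
    obtain ⟨i, hi, he⟩ := (Nat.dvd_prime_pow Nat.prime_two).1 hd4
    interval_cases i
    · exfalso; rw [orderOf_coe, orderOf_coe, pow_zero, orderOf_eq_one_iff] at he
      exact hs he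
    · simpa using he
    · exfalso
      have h' : 0 < cnt H 4 := cnt_pos_iff.2 ⟨_, he⟩
      omega
  let f : {s : S // s ≠ 1} → {y : H // orderOf y = 2} := fun s => ⟨_, hord s.1 s.2⟩
  have hf : Function.Injective f := fun a b e =>
    Subtype.ext (Subtype.ext (Subtype.ext
      (congrArg (fun t : {y : H // orderOf y = 2} => t.1) e)))
  obtain ⟨s, hs⟩ := ((Nat.bijective_iff_injective_and_card f).2 ⟨hf, by
    show _ = cnt H 2
    rw [h2, Nat.card_eq_fintype_card, Fintype.card_subtype_compl, Fintype.card_subtype_eq,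
      ← Nat.card_eq_fintype_card, hS]
    norm_num⟩).2 ⟨w, hw⟩
  have e : ((s.1 : centralizer ({v} : Set H)) : H) = w := congrArg Subtype.val hs
  rw [← e]
  exact (mem_centralizer_singleton_iff.1 s.1.1.2).symm

/-- the centraliser in a centraliser -/
theorem card_cent_cent {x v : G} (hxv : Commute x v) :
    Nat.card {g : G // Commute x g ∧ Commute v g} =
      Nat.card (centralizer ({(⟨v, mem_centralizer_singleton_iff.2 hxv.eq.symm⟩ :
        centralizer ({x} : Set G))} : Set (centralizer ({x} : Set G)))) :=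
  Nat.card_congr
    { toFun := fun g => ⟨⟨g.1, mem_centralizer_singleton_iff.2 g.2.1.symm.eq⟩,
        mem_centralizer_singleton_iff.2 (Subtype.ext g.2.2.symm.eq)⟩
      invFun := fun g => ⟨g.1.1, (show Commute g.1.1 x from
          mem_centralizer_singleton_iff.1 g.1.2).symm,
        (show Commute g.1.1 v from
          congrArg Subtype.val (mem_centralizer_singleton_iff.1 g.2)).symm⟩
      left_inv := fun _ => rfl
      right_inv := fun _ => rfl }

theorem cent52 (h : Hyp G) {x v : G} (hx : orderOf x = 5) (hv : orderOf v = 2)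
    (hxv : Commute x v) : Nat.card {g : G // Commute x g ∧ Commute v g} = 20 := by
  obtain ⟨hC, h2, -, h6⟩ := five h hx
  rw [card_cent_cent hxv]
  have := card_commute h2 h6 (by rw [hC]; norm_num)
    (v := ⟨v, mem_centralizer_singleton_iff.2 hxv.eq.symm⟩) (by rw [orderOf_mk, hv])
  omega

theorem commute5 (h : Hyp G) {x v w : G} (hx : orderOf x = 5) (hv : orderOf v = 2)
    (hw : orderOf w = 2) (hxv : Commute x v) (hxw : Commute x w) : Commute v w := by
  obtain ⟨hC, h2, h4, h6⟩ := five h hx
  have ov : orderOf (⟨v, mem_centralizer_singleton_iff.2 hxv.eq.symm⟩ :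
    centralizer ({x} : Set G)) = 2 := by rw [orderOf_mk, hv]
  have ow : orderOf (⟨w, mem_centralizer_singleton_iff.2 hxw.eq.symm⟩ :
    centralizer ({x} : Set G)) = 2 := by rw [orderOf_mk, hw]
  have hc := card_commute h2 h6 (by rw [hC]; norm_num) ov
  rw [hC] at hc
  exact congrArg Subtype.val (commute_three h2 h4 ov ow
    ⟨5, by omega⟩).eq

theorem cent72 (h : Hyp G) {x v : G} (hx : orderOf x = 7) (hv : orderOf v = 2)
    (hxv : Commute x v) (h3 : cnt (centralizer ({x} : Set G)) 2 = 3) :
    Nat.card {g : G // Commute x g ∧ Commute v g} = 14 := by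
  rcases seven h hx with ⟨-, h2⟩ | ⟨-, h2⟩ | ⟨hC, h2, h6⟩
  · omega
  · omega
  · rw [card_cent_cent hxv]
    have := card_commute h2 h6 (by rw [hC]; norm_num)
      (v := ⟨v, mem_centralizer_singleton_iff.2 hxv.eq.symm⟩) (by rw [orderOf_mk, hv])
    omega

end CfsgLib.M24Nse.CountsP1
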