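import Mathlib
import Cfsg.Prelude.Def_Transfer

/-!
# The numbers of elements of each order in a group like the Mathieu group of degree 24

Interfaces between the pieces of the proof that a group with the order and these numbers of `M24`
is `M24`.  The paper proof is `tools/S3596_plan.md`.
-/

set_option autoImplicit false

namespace CfsgLib.M24Nse

open Subgroup

universe u

variable (G : Type u) [Group G]

/-- the number of elements of a given order -/
noncomputable def cnt (n : ℕ) : ℕ := Nat.card {g : G // orderOf g = n}

/-- the values of these numbers in the Mathieu group of degree 24 -/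
def vals : List ℕ :=
  [1, 43263, 712448, 4080384, 5100480, 11658240, 12241152, 15301440, 20401920, 21288960, 22256640,
    23316480, 32643072, 34974720, 40803840]

/-- What the hypothesis on the numbers of elements gives at once. -/
structure Hyp : Prop where
  card : Nat.card G = 244823040
  mem : ∀ n, cnt G n = 0 ∨ cnt G n ∈ vals

/-- The local structure at five, seven, eleven and twenty-three, and the class equation of the
involutions. -/
structure Counts : Prop where
  card : Nat.card G = 244823040
  simple : IsSimpleGroup G
  nab : ¬ ∀ a b : G, a * b = b * a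
  cnt2 : cnt G 2 = 43263
  cent5 : ∀ p : G, orderOf p = 5 → Nat.card (centralizer ({p} : Set G)) = 60
  invol5 : ∀ p : G, orderOf p = 5 → Nat.card {v : G // Commute p v ∧ orderOf v = 2} = 3
  four5 : ∀ p v w : G, orderOf p = 5 → orderOf v = 2 → orderOf w = 2 → Commute p v → Commute p w →
    Commute v w ∧ IsConj v w
  cent52 : ∀ p v : G, orderOf p = 5 → orderOf v = 2 → Commute p v →
    Nat.card {g : G // Commute p g ∧ Commute v g} = 20
  norm5 : ∀ P : Sylow 5 G, Nat.card (normalizer ((P : Subgroup G) : Set G)) = 240
  cent7 : ∀ p : G, orderOf p = 7 → Nat.card (centralizer ({p} : Set G)) = 42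
  invol7 : ∀ p : G, orderOf p = 7 → Nat.card {v : G // Commute p v ∧ orderOf v = 2} = 3
  conj7 : ∀ p v w : G, orderOf p = 7 → orderOf v = 2 → orderOf w = 2 → Commute p v → Commute p w →
    IsConj v w
  cent72 : ∀ p v : G, orderOf p = 7 → orderOf v = 2 → Commute p v →
    Nat.card {g : G // Commute p g ∧ Commute v g} = 14
  norm7 : ∀ P : Sylow 7 G, Nat.card (normalizer ((P : Subgroup G) : Set G)) = 126
  cent11 : ∀ p : G, orderOf p = 11 → Nat.card (centralizer ({p} : Set G)) = 11
  cent23 : ∀ p : G, orderOf p = 23 → Nat.card (centralizer ({p} : Set G)) = 23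
  card_cent7 : ∀ z : G, orderOf z = 2 → 7 ∣ Nat.card (centralizer ({z} : Set G)) →
    Nat.card (centralizer ({z} : Set G)) ∈ [21504, 12096, 96768]
  card_cent5 : ∀ v : G, orderOf v = 2 → 5 ∣ Nat.card (centralizer ({v} : Set G)) →
    Nat.card (centralizer ({v} : Set G)) ∈ [7680, 17280, 46080]
  /-- if the centraliser at seven is not `21504` another class centralises a Sylow 3-subgroup -/
  other27 : ∀ z : G, orderOf z = 2 → 7 ∣ Nat.card (centralizer ({z} : Set G)) →
    Nat.card (centralizer ({z} : Set G)) ≠ 21504 →
    ∃ v : G, orderOf v = 2 ∧ ¬ IsConj v z ∧ 27 ∣ Nat.card (centralizer ({v} : Set G))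
  /-- two classes, once the centralisers at five and seven are those of `M24` -/
  classes : ∀ z v : G, orderOf z = 2 → orderOf v = 2 →
    Nat.card (centralizer ({z} : Set G)) = 21504 → Nat.card (centralizer ({v} : Set G)) = 7680 →
    ∀ w : G, orderOf w = 2 → IsConj w z ∨ IsConj w v

/-- the centraliser of `z` has a normal Sylow 2-subgroup -/
def Closed {G : Type u} [Group G] (z : G) : Prop :=
  ∃ T : Subgroup ↥(centralizer ({z} : Set G)), T.Normal ∧ Nat.card T = 1024

/-- a normal subgroup of order 128 of the centraliser of `z` with quotient `SL(3, 2)` -/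
structure Lin {G : Type u} [Group G] (z : G) where
  R : Subgroup ↥(centralizer ({z} : Set G))
  normal : R.Normal
  card : Nat.card R = 128
  quot : haveI := normal
    Nonempty ((↥(centralizer ({z} : Set G)) ⧸ R) ≃* Matrix.SpecialLinearGroup (Fin 3) (ZMod 2))

/-- the two classes of involutions -/
structure Two {G : Type u} [Group G] (z v : G) : Prop where
  counts : Counts G
  oz : orderOf z = 2
  ov : orderOf v = 2
  cardz : Nat.card (centralizer ({z} : Set G)) = 21504
  cardv : Nat.card (centralizer ({v} : Set G)) = 7680
  not_conj : ¬ IsConj v z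
  two : ∀ w : G, orderOf w = 2 → IsConj w z ∨ IsConj w v

/-- P1: from the numbers of elements to the counts -/
def StmtCounts : Prop := ∀ (G : Type u) [Group G] [Finite G], Hyp G → Counts G

/-- P2: the centraliser of the involution commuting with an element of order seven -/
def StmtSeven : Prop := ∀ (G : Type u) [Group G] [Finite G], Counts G → ∀ z : G, orderOf z = 2 →
  7 ∣ Nat.card (centralizer ({z} : Set G)) →
    Nat.card (centralizer ({z} : Set G)) = 21504 ∧ (Closed z ∨ Nonempty (Lin z))

/-- P3: the centraliser of the involution commuting with an element of order five -/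
def StmtFive : Prop := ∀ (G : Type u) [Group G] [Finite G], Counts G → ∀ z : G, orderOf z = 2 →
  Nat.card (centralizer ({z} : Set G)) = 21504 → (Closed z ∨ Nonempty (Lin z)) →
  ∀ v : G, orderOf v = 2 → 5 ∣ Nat.card (centralizer ({v} : Set G)) →
    Nat.card (centralizer ({v} : Set G)) = 7680

/-- P4: the centraliser of `z` is not 2-closed -/
def StmtNotClosed : Prop := ∀ (G : Type u) [Group G] [Finite G] (z v : G),
  Two z v → Closed z → False

/-- P5: `z` is the only involution in the centre of the normal subgroup -/
def StmtCentre : Prop := ∀ (G : Type u) [Group G] [Finite G] (z v : G), Two z v → ∀ L : Lin z,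
  ∀ w : ↥(centralizer ({z} : Set G)), w ∈ L.R → (∀ r ∈ L.R, r * w = w * r) → w * w = 1 →
    (w : G) = 1 ∨ (w : G) = z

/-- P6: the normal subgroup is extraspecial of plus type -/
def StmtExtra : Prop := ∀ (G : Type u) [Group G] [Finite G] (z : G), Counts G → orderOf z = 2 →
  Nat.card (centralizer ({z} : Set G)) = 21504 → ∀ L : Lin z,
  (∀ w : ↥(centralizer ({z} : Set G)), w ∈ L.R → (∀ r ∈ L.R, r * w = w * r) → w * w = 1 →
    (w : G) = 1 ∨ (w : G) = z) →
  Cfsg.IsExtraspecial 2 L.R ∧
    (∃ E : Subgroup L.R, Cfsg.IsElementaryAbelian 2 E ∧ Nat.card E = 2 ^ 4) ∧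
    Subgroup.centralizer (L.R : Set ↥(centralizer ({z} : Set G))) ≤ L.R

end CfsgLib.M24Nse
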