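import Cfsg.Agent.Lib.M24Nse.FiveTools
import Cfsg.Agent.Lib.Small.Orders3640
import Cfsg.Agent.Lib.Maximal.CharSimple
import Cfsg.Agent.Lib.Base.MinimalNormal
import Cfsg.Agent.Lib.Chars.Burnside
import Cfsg.Agent.S1001

/-!
# S3596, piece P3: the structure of the centraliser at five

A group `C` of order 17280 or 46080 with a central involution in which an element of order five has
a centraliser of order 20 with at least three involutions, and a normaliser of order dividing 240:
only the order 46080 remains, with a normal 2-subgroup of order 64 containing its centraliser and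
with a subgroup of index two.
-/

set_option autoImplicit false
set_option linter.unusedSectionVars false
set_option linter.style.haveILetI false

namespace CfsgLib.M24Nse.Five

open Subgroup CfsgLib.Base

universe u

/-- There is no simple group of order 11520. -/
def No11520 : Prop := ∀ (T : Type u) [Group T] [Finite T] [IsSimpleGroup T],
  ¬ IsMulCommutative T → Nat.card T ≠ 11520

variable {H : Type u} [Group H] [Finite H]

/-- elements of order prime to the index lie in a normal subgroup -/
theorem mem_of_coprime_index {K : Subgroup H} [K.Normal] {x : H}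
    (h : (orderOf x).Coprime K.index) : x ∈ K := by
  rw [← QuotientGroup.eq_one_iff, ← orderOf_eq_one_iff]
  exact Nat.eq_one_of_dvd_coprimes h (orderOf_map_dvd (QuotientGroup.mk' K) x)
    (orderOf_dvd_natCard _)

/-- what is needed about a minimal normal subgroup of the quotient -/
theorem minimal_five {x : H} (hx : orderOf x = 5) (hcard : Nat.card H ∣ 2 ^ 10 * 3 ^ 3 * 5)
    (h3 : 3 ∣ Nat.card H) (hN : Nat.card (normalizer (zpowers x : Set H)) ∣ 80)
    (hcore : ∀ K : Subgroup H, K.Normal → IsPGroup 2 K → K = ⊥)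
    {M : Subgroup H} (hM : IsMinimalNormal M) :
    x ∈ M ∧ ¬ Group.IsSolvable M := by
  classical
  haveI := hM.normal
  haveI : Fact (Nat.Prime 5) := ⟨Nat.prime_five⟩
  haveI : Fact (Nat.Prime 3) := ⟨Nat.prime_three⟩
  have h25 : ¬ 5 * 5 ∣ Nat.card H := fun h => absurd (h.trans hcard) (by norm_num)
  have hmem : 5 ∣ Nat.card M → x ∈ M := fun h5 => mem_of_coprime_index (by
    rw [hx]
    refine (Nat.prime_five.coprime_iff_not_dvd).2 fun hd => h25 ?_
    rw [← M.card_mul_index]
    exact Nat.mul_dvd_mul h5 hd)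
  have hns : ¬ Group.IsSolvable M := by
    intro hs
    obtain ⟨l, hl, hcomm, -, hpg⟩ := hM.exists_prime hs
    haveI := Fact.mk hl
    obtain ⟨a, ha⟩ := IsPGroup.iff_card.1 hpg
    have ha0 : a ≠ 0 := fun h => hM.ne_bot (M.eq_bot_of_card_eq (by rw [ha, h, pow_zero]))
    have hd : l ^ a ∣ 2 ^ 10 * 3 ^ 3 * 5 := ha ▸ (card_subgroup_dvd_card M).trans hcard
    have hl' : l = 2 ∨ l = 3 ∨ l = 5 := by
      rcases hl.dvd_mul.1 ((dvd_pow_self l ha0).trans hd) with h | h
      · rcases hl.dvd_mul.1 h with h | h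
        · exact Or.inl ((Nat.prime_dvd_prime_iff_eq hl Nat.prime_two).1 (hl.dvd_of_dvd_pow h))
        · exact Or.inr (Or.inl ((Nat.prime_dvd_prime_iff_eq hl Nat.prime_three).1
            (hl.dvd_of_dvd_pow h)))
      · exact Or.inr (Or.inr ((Nat.prime_dvd_prime_iff_eq hl Nat.prime_five).1 h))
    rcases hl' with rfl | rfl | rfl
    · exact hM.ne_bot (hcore M hM.normal hpg)
    · have ha3 : a ≤ 3 := by
        have h : 3 ^ a ∣ 3 ^ 3 :=
          (Nat.Coprime.pow_left a (by norm_num : Nat.Coprime 3 (2 ^ 10 * 5))).dvd_of_dvd_mul_left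
            (hd.trans (by norm_num))
        exact (Nat.pow_dvd_pow_iff_le_right (by norm_num)).1 h
      have hle : M ≤ centralizer ({x} : Set H) := by
        have hnx : x ∈ normalizer (M : Set H) := by
          rw [mem_normalizer_iff]
          exact fun m => ⟨fun hm => hM.normal.conj_mem m hm x, fun hm => by
            simpa [mul_assoc] using hM.normal.conj_mem _ hm x⁻¹⟩
        have hmod := fixed_modEq hx M hnx
        obtain ⟨b, hb, hbc⟩ := (Nat.dvd_prime_pow Nat.prime_three).1
          (ha ▸ card_dvd_of_le (inf_le_left : M ⊓ centralizer ({x} : Set H) ≤ M))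
        rw [ha, hbc] at hmod
        have hab : b = a := by
          have : a < 4 := by omega
          have : b < 4 := by omega
          interval_cases a <;> interval_cases b <;> simp_all [Nat.ModEq]
        exact inf_eq_left.1 (eq_of_le_of_card_ge inf_le_left (by rw [hbc, ha, hab]))
      have hle' : M ≤ normalizer (zpowers x : Set H) := fun m hm => by
        rw [mem_normalizer_iff]
        intro y
        have hc : ∀ i : ℤ, m * x ^ i * m⁻¹ = x ^ i := fun i =>
          mul_inv_eq_iff_eq_mul.2 ((commute_of_mem (hle hm)).symm.zpow_right i).eq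
        constructor
        · rintro ⟨i, rfl⟩; exact ⟨i, (hc i).symm⟩
        · rintro ⟨i, hi⟩
          refine ⟨i, mul_right_cancel (b := m⁻¹) (mul_left_cancel (a := m) ?_)⟩
          simp only [← mul_assoc, hc i]; exact hi
      have h := (card_dvd_of_le hle').trans hN
      rw [ha] at h
      exact absurd ((dvd_pow_self 3 ha0).trans h) (by norm_num)
    · have hxM : x ∈ M := hmem (ha ▸ dvd_pow_self 5 ha0)
      have ha1 : a = 1 := by
        by_contra h
        refine h25 ?_
        have h2 : 5 ^ 2 ∣ 5 ^ a := Nat.pow_dvd_pow 5 (by omega)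
        exact h2.trans (ha ▸ card_subgroup_dvd_card M)
      have heq : zpowers x = M := eq_of_le_of_card_ge (zpowers_le.2 hxM)
        (by rw [Nat.card_zpowers, hx, ha, ha1, pow_one])
      rw [heq, normalizer_eq_top] at hN
      rw [Subgroup.card_top] at hN
      exact absurd (h3.trans hN) (by norm_num)
  refine ⟨hmem ?_, hns⟩
  by_contra h5
  have hd : Nat.card M ∣ 2 ^ 10 * 3 ^ 3 :=
    (Nat.Coprime.symm (Nat.prime_five.coprime_iff_not_dvd.2 h5)).dvd_of_dvd_mul_right
      ((card_subgroup_dvd_card M).trans hcard)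
  obtain ⟨y, w, hy, hw, hyw⟩ := Nat.dvd_mul.1 hd
  obtain ⟨a, -, rfl⟩ := (Nat.dvd_prime_pow Nat.prime_two).1 hy
  obtain ⟨b, -, rfl⟩ := (Nat.dvd_prime_pow Nat.prime_three).1 hw
  exact hns (CfsgLib.Chars.isSolvable_of_card_eq_pow_mul_pow Nat.prime_two Nat.prime_three hyw.symm)

/-- the minimal normal subgroup is simple -/
theorem minimal_simple {M : Subgroup H} (hM : IsMinimalNormal M) (h5 : 5 ∣ Nat.card M)
    (h25 : ¬ 5 * 5 ∣ Nat.card H) : IsSimpleGroup M := by
  haveI := hM.normal
  haveI : Nontrivial M := (nontrivial_iff_ne_bot M).2 hM.ne_bot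
  obtain ⟨T, hT, m, hTs, hm, ⟨e⟩⟩ := CfsgLib.Maximal.charSimple_decomp (X := M) fun K hK => by
    haveI := hK
    haveI : (K.map M.subtype).Normal := ConjAct.normal_of_characteristic_of_normal
    rcases hM.eq_bot_or_eq (K := K.map M.subtype) inferInstance (map_subtype_le K) with h | h
    · exact Or.inl ((map_eq_bot_iff_of_injective K M.subtype_injective).1 h)
    · exact Or.inr (map_injective M.subtype_injective
        (h.trans (by rw [← MonoidHom.range_eq_map, range_subtype])))
  haveI := hTs
  have hc : Nat.card M = Nat.card T ^ m := by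
    rw [Nat.card_congr e.toEquiv, Nat.card_fun, Nat.card_fin]
  have hm1 : m = 1 := by
    by_contra hne
    have h5T : 5 ∣ Nat.card T := Nat.prime_five.dvd_of_dvd_pow (hc ▸ h5)
    refine h25 (dvd_trans ?_ (card_subgroup_dvd_card M))
    rw [hc]
    exact dvd_trans (Nat.mul_dvd_mul h5T h5T)
      (by rw [← pow_two]; exact Nat.pow_dvd_pow _ (by omega))
  subst hm1
  let e' : M ≃* T := e.trans (MulEquiv.piUnique fun _ : Fin 1 => T)
  exact IsSimpleGroup.isSimpleGroup_of_surjective e'.symm.toMonoidHom e'.symm.surjective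

/-- in the simple subgroup the normaliser of the subgroup of order five has order 5, 10 or 20 -/
theorem card_normalizer_five {M : Subgroup H} [IsSimpleGroup M] {x : H} (hx : orderOf x = 5)
    (hxM : x ∈ M) {a b : ℕ} (hM : Nat.card M = 5 * 3 ^ a * 2 ^ b) :
    Nat.card ↥(normalizer (zpowers x : Set H) ⊓ M) ∈ [5, 10, 20] := by
  classical
  set N := normalizer (zpowers x : Set H) ⊓ M
  let φ : N →* MulAut (zpowers x) :=
    (normalizerMonoidHom (zpowers x)).comp (inclusion inf_le_left)
  have hker : Nat.card φ.ker = 5 := by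
    have hc := Cfsg.Agent.S1001.result (G := M) 5 a b Nat.prime_five hM ⟨x, hxM⟩
      (by rw [orderOf_mk]; exact hx)
    have e : φ.ker.map N.subtype = zpowers x := by
      apply le_antisymm
      · rintro y ⟨n, hn, rfl⟩
        have h0 := DFunLike.congr_fun (MonoidHom.mem_ker.1 hn) (⟨x, mem_zpowers x⟩ : zpowers x)
        have h1 : (n : H) * x * (n : H)⁻¹ = x := congrArg Subtype.val h0
        have h2 : (⟨(n : H), n.2.2⟩ : M) ∈ centralizer ({⟨x, hxM⟩} : Set M) :=
          mem_of_commute (Subtype.ext (commute_of_conj_eq h1).symm.eq)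
        rw [hc] at h2
        obtain ⟨i, hi⟩ := mem_zpowers_iff.1 h2
        exact ⟨i, by simpa using congrArg Subtype.val hi⟩
      · rintro y ⟨i, rfl⟩
        have hyN : x ^ i ∈ N := ⟨le_normalizer (zpow_mem (mem_zpowers x) i), zpow_mem hxM i⟩
        refine ⟨⟨x ^ i, hyN⟩, MonoidHom.mem_ker.2 (MulEquiv.ext fun y => Subtype.ext ?_), rfl⟩
        obtain ⟨j, hj⟩ := mem_zpowers_iff.1 y.2
        show x ^ i * (y : H) * (x ^ i)⁻¹ = (y : H)
        rw [← hj]
        exact mul_inv_eq_iff_eq_mul.2 (Commute.zpow_zpow_self x i j).eq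
    rw [← card_map_of_injective N.subtype_injective (H := φ.ker), e, Nat.card_zpowers, hx]
  have hr : Nat.card φ.range ∣ 2 ^ 2 := by
    have h := card_subgroup_dvd_card φ.range
    rwa [IsCyclic.card_mulAut, Nat.card_zpowers, hx, Nat.totient_prime Nat.prime_five] at h
  have hmul : Nat.card N = 5 * Nat.card φ.range := by
    rw [← φ.ker.card_mul_index, hker, Subgroup.index_ker]
  obtain ⟨e, he, hec⟩ := (Nat.dvd_prime_pow Nat.prime_two).1 hr
  rw [hmul, hec]
  interval_cases e <;> simp

theorem pow_cases {j k : ℕ} (h1 : 1 ≤ j) (h2 : j ≤ 2) (hk : k ≤ 10)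
    (h : 2 ^ k % 5 = 2 ^ j % 5) :
    (j = 1 ∧ (k = 1 ∨ k = 5 ∨ k = 9)) ∨ (j = 2 ∧ (k = 2 ∨ k = 6 ∨ k = 10)) := by
  interval_cases j <;> interval_cases k <;> omega

/-- the arithmetic of the orders -/
theorem numbers {j k c n N : ℕ} (h1 : 1 ≤ j) (h2 : j ≤ 2) (hk : k ≤ 10)
    (hmod : 2 ^ k % 5 = 2 ^ j % 5) (hN : N = 17280 ∨ N = 46080) (hn : n ∈ [5, 10, 20])
    (heq : c * 80 * 2 ^ k = N * n * 2 ^ j)
    (hlist : c < 6000 → c ∈ [60, 168, 360, 504, 660, 1092, 2448, 2520, 3420, 4080, 5616])
    (h115 : c ≠ 11520) : N = 46080 ∧ c = 360 ∧ k = j + 4 := by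
  simp only [List.mem_cons, List.not_mem_nil, or_false] at hlist hn
  rcases hN with rfl | rfl <;> rcases hn with rfl | rfl | rfl <;>
    rcases pow_cases h1 h2 hk hmod with ⟨rfl, rfl | rfl | rfl⟩ | ⟨rfl, rfl | rfl | rfl⟩ <;>
    norm_num at heq ⊢ <;> omega

variable {C : Type u} [Group C] [Finite C]

/-- the structure of the centraliser at five -/
theorem core_structure (h11520 : No11520.{u}) {p v : C} (hp : orderOf p = 5) (hv : orderOf v = 2)
    (hvc : v ∈ center C) (hCp : Nat.card (centralizer ({p} : Set C)) = 20)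
    (hNp : Nat.card (normalizer (zpowers p : Set C)) ∣ 240)
    (hI : 3 ≤ Nat.card {x : C // Commute p x ∧ orderOf x = 2})
    (hcard : Nat.card C = 17280 ∨ Nat.card C = 46080) :
    Nat.card C = 46080 ∧ ∃ R M : Subgroup C, R.Normal ∧ Nat.card R = 64 ∧
      centralizer (R : Set C) ≤ R ∧ v ∈ R ∧ Nat.card ↥(R ⊓ centralizer ({p} : Set C)) = 4 ∧
      (∀ x ∈ R, Commute p x → x * x = 1) ∧ M.Normal ∧ R ≤ M ∧ Nat.card M = 23040 := by
  classical
  haveI : Fact (Nat.Prime 5) := ⟨Nat.prime_five⟩
  haveI : Fact (Nat.Prime 2) := ⟨Nat.prime_two⟩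
  have hdC : Nat.card C ∣ 2 ^ 10 * 3 ^ 3 * 5 := by rcases hcard with h | h <;> rw [h] <;> norm_num
  have h25 : ¬ 5 * 5 ∣ Nat.card C := by rcases hcard with h | h <;> rw [h] <;> norm_num
  -- the normaliser
  have hP : Nat.card (zpowers p) = 5 := by rw [Nat.card_zpowers, hp]
  have hfac : (Nat.card C).factorization 5 = 1 := by
    rcases hcard with h | h <;> rw [h]
    · rw [show (17280 : ℕ) = 5 * 3456 from rfl, Nat.factorization_mul (by norm_num) (by norm_num),
        Finsupp.add_apply, Nat.Prime.factorization_self (by norm_num),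
        Nat.factorization_eq_zero_of_not_dvd (by norm_num : ¬ 5 ∣ 3456)]
    · rw [show (46080 : ℕ) = 5 * 9216 from rfl, Nat.factorization_mul (by norm_num) (by norm_num),
        Finsupp.add_apply, Nat.Prime.factorization_self (by norm_num),
        Nat.factorization_eq_zero_of_not_dvd (by norm_num : ¬ 5 ∣ 9216)]
  let P : Sylow 5 C := Sylow.ofCard (zpowers p) (by rw [hP, hfac, pow_one])
  have hPe : (P : Subgroup C) = zpowers p := Sylow.coe_ofCard _ _
  set N := normalizer (zpowers p : Set C) with hNdef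
  have hN80 : Nat.card N = 80 := by
    have hle : centralizer ({p} : Set C) ≤ N := by
      intro g hg
      rw [hNdef, mem_normalizer_iff]
      intro y
      have hc : ∀ i : ℤ, g * p ^ i * g⁻¹ = p ^ i := fun i =>
        mul_inv_eq_iff_eq_mul.2 ((commute_of_mem hg).symm.zpow_right i).eq
      constructor
      · rintro ⟨i, rfl⟩; exact ⟨i, (hc i).symm⟩
      · rintro ⟨i, hi⟩
        refine ⟨i, mul_right_cancel (b := g⁻¹) (mul_left_cancel (a := g) ?_)⟩
        simp only [← mul_assoc, hc i]; exact hi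
    obtain ⟨t, ht⟩ : 20 ∣ Nat.card N := hCp ▸ card_dvd_of_le hle
    have hmod : N.index % 5 = 1 := by
      have h := card_sylow_modEq_one 5 C
      rwa [Nat.ModEq, Sylow.card_eq_index_normalizer P, ← Sylow.coe_coe, hPe] at h
    have hmul := N.card_mul_index
    rw [ht] at hNp hmul ⊢
    have ht12 : t ∣ 12 := Nat.dvd_of_mul_dvd_mul_left (by norm_num : 0 < 20) hNp
    have : t ≤ 12 := Nat.le_of_dvd (by norm_num) ht12
    rcases hcard with h | h <;> rw [h] at hmul <;> interval_cases t <;> omega
  -- the core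
  haveI hvn : (zpowers v).Normal := ⟨fun x hx g => by
    rw [mem_center_iff.1 ((zpowers_le.2 hvc) hx) g, mul_inv_cancel_right]; exact hx⟩
  obtain ⟨R, hvR, ⟨⟨hRn, hR2⟩, hRmax⟩⟩ := Finite.exists_le_maximal
    (p := fun K : Subgroup C => K.Normal ∧ IsPGroup 2 K) (a := zpowers v)
    ⟨hvn, IsPGroup.of_card (n := 1) (by rw [Nat.card_zpowers, hv, pow_one])⟩
  haveI := hRn
  obtain ⟨k, hk⟩ := IsPGroup.iff_card.1 hR2
  set A := R ⊓ centralizer ({p} : Set C) with hA
  have hvA : zpowers v ≤ A := le_inf hvR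
    (zpowers_le.2 (mem_of_commute (mem_center_iff.1 hvc p)))
  obtain ⟨j, hjk, hj⟩ := two_pow_of_le (inf_le_left : A ≤ R) hk
  have hj2 : j ≤ 2 ∧ 1 ≤ j := by
    have h := card_dvd_of_le (inf_le_right : A ≤ centralizer ({p} : Set C))
    rw [hCp, hj] at h
    have h' := card_dvd_of_le hvA
    rw [Nat.card_zpowers, hv, hj] at h'
    refine ⟨?_, ?_⟩
    · by_contra hc
      exact absurd ((pow_dvd_pow 2 (by omega : 3 ≤ j)).trans h) (by norm_num)
    · by_contra hc
      rw [show j = 0 by omega] at h'
      norm_num at h'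
  have hmod : 2 ^ k ≡ 2 ^ j [MOD 5] := by
    have h := fixed_modEq hp R (by rw [normalizer_eq_top]; exact mem_top p)
    rwa [hk, hj] at h
  have hk10 : k ≤ 10 := by
    have h : 2 ^ k ∣ 2 ^ 10 :=
      (Nat.Coprime.pow_left k (by norm_num : Nat.Coprime 2 (3 ^ 3 * 5))).dvd_of_dvd_mul_right
        ((hk ▸ (card_subgroup_dvd_card R).trans hdC).trans (dvd_of_eq (by ring)))
    exact (Nat.pow_dvd_pow_iff_le_right (by norm_num)).1 h
  set f := QuotientGroup.mk' R with hf
  have hfs : Function.Surjective f := QuotientGroup.mk'_surjective R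
  have hfk : f.ker = R := QuotientGroup.ker_mk' R
  set pb := f p with hpb
  have hpR : p ∉ R := fun h => by
    have := Subgroup.orderOf_dvd_natCard R h
    rw [hp, hk] at this
    exact absurd (Nat.prime_five.dvd_of_dvd_pow this) (by norm_num)
  have hpb5 : orderOf pb = 5 := by
    refine orderOf_eq_prime ?_ ?_
    · rw [hpb, ← map_pow, ← hp, pow_orderOf_eq_one, map_one]
    · rw [hpb, Ne, ← MonoidHom.mem_ker, hfk]; exact hpR
  have hAN : R ⊓ N = A := by
    apply le_antisymm
    · rintro r ⟨hr, hrn⟩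
      refine ⟨hr, mem_of_commute ?_⟩
      have h1 : r * p * r⁻¹ * p⁻¹ ∈ zpowers p :=
        mul_mem ((mem_normalizer_iff.1 hrn p).1 (mem_zpowers p)) (inv_mem (mem_zpowers p))
      have h2 : r * p * r⁻¹ * p⁻¹ ∈ R := by
        have := hRn.conj_mem _ (inv_mem hr) p
        simpa [mul_assoc] using mul_mem hr this
      have hd1 := Subgroup.orderOf_dvd_natCard _ h1
      have hd2 := Subgroup.orderOf_dvd_natCard _ h2
      rw [hP] at hd1
      rw [hk] at hd2
      have h3 : r * p * r⁻¹ * p⁻¹ = 1 := orderOf_eq_one_iff.1 (Nat.eq_one_of_dvd_coprimes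
        (Nat.Coprime.pow_right k (by norm_num : Nat.Coprime 5 2)) hd1 hd2)
      exact (commute_of_conj_eq (mul_inv_eq_one.1 h3)).symm
    · rintro r ⟨hr, hrc⟩
      refine ⟨hr, ?_⟩
      show r ∈ normalizer (zpowers p : Set C)
      rw [mem_normalizer_iff]
      intro y
      have hc : ∀ i : ℤ, r * p ^ i * r⁻¹ = p ^ i := fun i =>
        mul_inv_eq_iff_eq_mul.2 ((commute_of_mem hrc).symm.zpow_right i).eq
      constructor
      · rintro ⟨i, rfl⟩; exact ⟨i, (hc i).symm⟩
      · rintro ⟨i, hi⟩
        refine ⟨i, mul_right_cancel (b := r⁻¹) (mul_left_cancel (a := r) ?_)⟩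
        simp only [← mul_assoc, hc i]; exact hi
  set Nb := normalizer (zpowers pb : Set (C ⧸ R)) with hNb
  have hNmap : N.map f = Nb := by
    apply le_antisymm
    · have h := le_normalizer_map (H := zpowers p) f
      rwa [MonoidHom.map_zpowers] at h
    · intro yb hyb
      obtain ⟨y, rfl⟩ := hfs yb
      set K := (zpowers pb).comap f
      have hPK : (P : Subgroup C) ≤ K := by
        rw [hPe]; exact zpowers_le.2 (mem_zpowers pb)
      have hyPK : ((y • P : Sylow 5 C) : Subgroup C) ≤ K := by
        intro g hg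
        rw [Sylow.coe_subgroup_smul, mem_pointwise_smul_iff_inv_smul_mem] at hg
        have hg' : y⁻¹ * g * y ∈ (P : Subgroup C) := by simpa [MulAut.smul_def] using hg
        have h := (mem_normalizer_iff.1 hyb (f (y⁻¹ * g * y))).1 (hPK hg')
        rwa [← map_inv, ← map_mul, ← map_mul, show y * (y⁻¹ * g * y) * y⁻¹ = g by group] at h
      obtain ⟨r, hr⟩ := MulAction.exists_smul_eq K (P.subtype hPK) ((y • P).subtype hyPK)
      rw [Sylow.smul_subtype] at hr
      have hr' : (r : C) • P = y • P := Sylow.subtype_injective hr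
      have hn : (r : C)⁻¹ * y ∈ N := by
        have h : ((r : C)⁻¹ * y) • P = P := by rw [mul_smul, ← hr', inv_smul_smul]
        rwa [Sylow.smul_eq_iff_mem_normalizer, ← Sylow.coe_coe, hPe] at h
      obtain ⟨i, hi⟩ := mem_zpowers_iff.1 r.2
      refine ⟨p ^ i * ((r : C)⁻¹ * y), mul_mem (le_normalizer (zpow_mem (mem_zpowers p) i)) hn, ?_⟩
      rw [map_mul, map_mul, map_zpow, hi, map_inv, mul_inv_cancel_left]
  have hNbc : Nat.card Nb * 2 ^ j = 80 := by
    have h := relIndex_mul_relIndex ⊥ (R ⊓ N) N bot_le inf_le_right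
    rw [relIndex_bot_left, relIndex_bot_left, inf_relIndex_right, hAN, hj, hN80] at h
    rw [← hNmap, ← relIndex_ker, hfk, mul_comm]
    exact h
  have hCb : Nat.card (C ⧸ R) * 2 ^ k = Nat.card C := by
    rw [← hk]; exact (card_eq_card_quotient_mul_card_subgroup R).symm
  have hdb : Nat.card (C ⧸ R) ∣ 2 ^ 10 * 3 ^ 3 * 5 := (Dvd.intro _ hCb).trans hdC
  have h3b : 3 ∣ Nat.card (C ⧸ R) := by
    have h3 : 3 ∣ Nat.card (C ⧸ R) * 2 ^ k := by
      rw [hCb]; rcases hcard with h | h <;> rw [h] <;> norm_num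
    exact (Nat.Coprime.pow_right k (by norm_num : Nat.Coprime 3 2)).dvd_of_dvd_mul_right h3
  have hcore : ∀ K : Subgroup (C ⧸ R), K.Normal → IsPGroup 2 K → K = ⊥ := by
    intro K hK hK2
    haveI := hK
    have h2 : IsPGroup 2 (K.comap f) := hK2.comap_of_ker_isPGroup f (by rw [hfk]; exact hR2)
    have hle : R ≤ K.comap f := hfk.ge.trans (ker_le_comap f K)
    have hle' : K.comap f ≤ R := hRmax ⟨inferInstance, h2⟩ hle
    rw [← map_comap_eq_self_of_surjective hfs K, Subgroup.map_eq_bot_iff, hfk]
    exact hle'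
  have hmin : ∀ M : Subgroup (C ⧸ R), IsMinimalNormal M → pb ∈ M ∧ ¬ Group.IsSolvable M :=
    fun M hM => minimal_five hpb5 hdb h3b ⟨2 ^ j, hNbc.symm⟩ hcore hM
  -- normal subgroups outside `R` contain `p`
  have hkey : ∀ K : Subgroup C, K.Normal → ¬ K ≤ R → p ∈ K := by
    intro K hK hKR
    haveI := hK
    haveI : (K.map f).Normal := hK.map f hfs
    have hne : K.map f ≠ ⊥ := fun h => hKR (by rw [← hfk]; exact (map_eq_bot_iff K).1 h)
    obtain ⟨M, hMK, hM⟩ := exists_isMinimalNormal_le hne
    obtain ⟨y, hy, hyp⟩ := hMK (hmin M hM).1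
    have hr : y⁻¹ * p ∈ R := by
      rw [← hfk, MonoidHom.mem_ker, map_mul, map_inv, hyp, hpb, inv_mul_cancel]
    have himg : (QuotientGroup.mk' K) p = (QuotientGroup.mk' K) (y⁻¹ * p) := by
      rw [map_mul, map_inv, show (QuotientGroup.mk' K) y = 1 from
        (QuotientGroup.eq_one_iff y).2 hy, inv_one, one_mul]
    have h1 : orderOf ((QuotientGroup.mk' K) p) ∣ 5 := hp ▸ orderOf_map_dvd _ p
    have h2 : orderOf ((QuotientGroup.mk' K) p) ∣ 2 ^ k := by
      rw [himg, ← hk]
      exact (orderOf_map_dvd _ _).trans (Subgroup.orderOf_dvd_natCard R hr)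
    exact (QuotientGroup.eq_one_iff p).1 (orderOf_eq_one_iff.1 (Nat.eq_one_of_dvd_coprimes
      (Nat.Coprime.pow_right k (by norm_num : Nat.Coprime 5 2)) h1 h2))
  -- the simple subgroup
  haveI : Nontrivial (C ⧸ R) := ⟨⟨pb, 1, fun h => by
    rw [h, orderOf_one] at hpb5; norm_num at hpb5⟩⟩
  obtain ⟨L, hL⟩ := exists_isMinimalNormal (G := C ⧸ R)
  obtain ⟨hpL, hLns⟩ := hmin L hL
  haveI := hL.normal
  have h5L : 5 ∣ Nat.card L := hpb5 ▸ Subgroup.orderOf_dvd_natCard L hpL
  have h25b : ¬ 5 * 5 ∣ Nat.card (C ⧸ R) := fun h => h25 (h.trans (Dvd.intro _ hCb))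
  haveI hLs : IsSimpleGroup L := minimal_simple hL h5L h25b
  have hLnc : ¬ IsMulCommutative L := fun h => hLns (Group.isSolvable_of_comm h.is_comm.comm)
  obtain ⟨m, hm⟩ := h5L
  have hm' : m ∣ 2 ^ 10 * 3 ^ 3 := by
    refine Nat.dvd_of_mul_dvd_mul_left (by norm_num : 0 < 5) ?_
    rw [← hm]
    exact (card_subgroup_dvd_card L).trans (hdb.trans (by norm_num))
  obtain ⟨y2, y3, hy2, hy3, hy⟩ := Nat.dvd_mul.1 hm'
  obtain ⟨b2, -, rfl⟩ := (Nat.dvd_prime_pow Nat.prime_two).1 hy2
  obtain ⟨b3, -, rfl⟩ := (Nat.dvd_prime_pow Nat.prime_three).1 hy3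
  have hNL := card_normalizer_five (M := L) hpb5 hpL (a := b3) (b := b2)
    (by rw [hm, ← hy]; ring)
  have hcount : Nat.card L * Nat.card Nb = Nat.card (C ⧸ R) * Nat.card ↥(Nb ⊓ L) := by
    have hfb : (Nat.card (C ⧸ R)).factorization 5 = 1 := by
      have h1 := congrArg (fun n => n.factorization 5) hCb
      rw [Nat.factorization_mul Nat.card_pos.ne' (by positivity), Finsupp.add_apply,
        Nat.factorization_eq_zero_of_not_dvd
          (fun h => absurd (Nat.prime_five.dvd_of_dvd_pow h) (by norm_num)), hfac] at h1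
      simpa using h1
    let Pb : Sylow 5 (C ⧸ R) := Sylow.ofCard (zpowers pb)
      (by rw [Nat.card_zpowers, hpb5, hfb, pow_one])
    have hPbe : (Pb : Subgroup (C ⧸ R)) = zpowers pb := Sylow.coe_ofCard _ _
    have hsup : Nb ⊔ L = ⊤ := by
      have h := Pb.normalizer_sup_eq_top' (N := L) (by rw [hPbe]; exact zpowers_le.2 hpL)
      rwa [← Sylow.coe_coe, hPbe] at h
    have h1 : L.index = L.relIndex Nb := by
      rw [← relIndex_top_right, ← hsup, relIndex_sup_right]
    have h2 := relIndex_mul_relIndex ⊥ (L ⊓ Nb) Nb bot_le inf_le_right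
    rw [relIndex_bot_left, relIndex_bot_left, inf_relIndex_right] at h2
    rw [inf_comm Nb L, ← h2, ← L.card_mul_index, h1]
    ring
  -- the numbers
  have hval : Nat.card C = 46080 ∧ Nat.card L = 360 ∧ k = j + 4 := by
    set c := Nat.card L with hc
    set q := Nat.card (C ⧸ R) with hq
    set n := Nat.card ↥(Nb ⊓ L)
    set nb := Nat.card Nb
    have heq : c * 80 * 2 ^ k = Nat.card C * n * 2 ^ j := by
      rw [← hCb, ← hNbc]
      calc c * (nb * 2 ^ j) * 2 ^ k = (c * nb) * 2 ^ j * 2 ^ k := by ring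
        _ = (q * n) * 2 ^ j * 2 ^ k := by rw [hcount]
        _ = q * 2 ^ k * n * 2 ^ j := by ring
    exact numbers hj2.2 hj2.1 hk10 hmod hcard hNL heq
      (fun h => CfsgLib.Small.Below6000.card_simple_lt_6000 hLnc h) (h11520 L hLnc)
  obtain ⟨hC, hL360, hkj⟩ := hval
  refine ⟨hC, ?_⟩
  -- the case of a core of order 32
  have hj2' : j = 2 := by
    by_contra hne
    have hj1 : j = 1 := by omega
    have hk5 : k = 5 := by omega
    have hAv : A = zpowers v :=
      (eq_of_le_of_card_ge hvA (by rw [hj, hj1, Nat.card_zpowers, hv, pow_one])).symm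
    obtain ⟨w, hwc, hw2, hwR⟩ : ∃ w, Commute p w ∧ orderOf w = 2 ∧ w ∉ R := by
      by_contra hno
      push Not at hno
      have hsub : ∀ x : {x : C // Commute p x ∧ orderOf x = 2}, (x : C) = v := fun x => by
        have hxA : (x : C) ∈ A := ⟨hno x x.2.1 x.2.2, mem_of_commute x.2.1⟩
        rw [hAv] at hxA
        obtain ⟨i, hi⟩ := mem_powers_iff_mem_zpowers.2 hxA
        simp only at hi
        rw [← pow_mod_orderOf, hv] at hi
        have : i % 2 < 2 := Nat.mod_lt _ (by norm_num)
        interval_cases hi2 : i % 2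
        · rw [pow_zero] at hi
          have h := x.2.2
          rw [← hi, orderOf_one] at h
          norm_num at h
        · rw [pow_one] at hi; exact hi.symm
      haveI : Subsingleton {x : C // Commute p x ∧ orderOf x = 2} :=
        ⟨fun a b => Subtype.ext ((hsub a).trans (hsub b).symm)⟩
      have := Finite.card_le_one_iff_subsingleton.2 this
      omega
    set g := QuotientGroup.mk' (zpowers v) with hg
    have hgs : Function.Surjective g := QuotientGroup.mk'_surjective _
    haveI : (R.map g).Normal := hRn.map g hgs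
    have hRb : Nat.card (R.map g) = 16 := by
      have h := relIndex_mul_relIndex ⊥ (zpowers v) R bot_le hvR
      rw [relIndex_bot_left, relIndex_bot_left, Nat.card_zpowers, hv, hk, hk5] at h
      rw [← relIndex_ker, hg, QuotientGroup.ker_mk']
      norm_num at h
      omega
    have hgp : orderOf (g p) = 5 := by
      refine orderOf_eq_prime ?_ ?_
      · rw [← map_pow, ← hp, pow_orderOf_eq_one, map_one]
      · rw [Ne, ← MonoidHom.mem_ker, hg, QuotientGroup.ker_mk']
        exact fun h => hpR (hvR h)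
    have hfix : R.map g ⊓ centralizer ({g p} : Set _) = ⊥ := by
      rw [eq_bot_iff]
      rintro x ⟨⟨r, hr, rfl⟩, hx⟩
      rw [mem_bot, ← MonoidHom.mem_ker, hg, QuotientGroup.ker_mk']
      have h1 : p * r * p⁻¹ * r⁻¹ ∈ zpowers v := by
        rw [← QuotientGroup.ker_mk' (zpowers v), MonoidHom.mem_ker, ← hg]
        simp only [map_mul, map_inv]
        rw [(commute_of_mem hx).eq]
        group
      obtain ⟨i, hi⟩ := mem_powers_iff_mem_zpowers.2 h1
      simp only at hi
      have hvr : Commute r v := mem_center_iff.1 hvc r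
      have hpv : Commute p v := mem_center_iff.1 hvc p
      have hv2 : v * v = 1 := by rw [← pow_two, ← hv, pow_orderOf_eq_one]
      have hc1 : p * r * p⁻¹ = v ^ i * r := by rw [hi]; group
      have hc2 : Commute (p ^ 2) r := by
        refine commute_of_conj_eq ?_
        calc p ^ 2 * r * (p ^ 2)⁻¹ = p * (p * r * p⁻¹) * p⁻¹ := by rw [pow_two]; group
          _ = p * (v ^ i * r) * p⁻¹ := by rw [hc1]
          _ = v ^ i * (p * r * p⁻¹) := by
              rw [← mul_assoc p, (hpv.pow_right i).eq]; group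
          _ = (v * v) ^ i * r := by rw [hc1, ← mul_assoc, (Commute.refl v).mul_pow]
          _ = r := by rw [hv2, one_pow, one_mul]
      have hc3 : Commute p r := by
        have h := hc2.pow_left 3
        rwa [← pow_mul, show 2 * 3 = 5 + 1 by norm_num, pow_succ, ← hp, pow_orderOf_eq_one,
          one_mul] at h
      exact hAv ▸ (⟨hr, mem_of_commute hc3⟩ : r ∈ A)
    have hgw : orderOf (g w) = 2 := by
      refine orderOf_eq_prime ?_ ?_
      · rw [← map_pow, ← hw2, pow_orderOf_eq_one, map_one]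
      · rw [Ne, ← MonoidHom.mem_ker, hg, QuotientGroup.ker_mk']
        exact fun h => hwR (hvR h)
    set F := R.map g ⊓ centralizer ({g w} : Set _) with hF
    have hcom : Commute (g p) (g w) := hwc.map g
    have hpF : g p ∈ normalizer (F : Set _) := by
      rw [mem_normalizer_iff]
      intro x
      have hn : ∀ c, Commute c (g w) → ∀ y ∈ F, c * y * c⁻¹ ∈ F := fun c hc y hy =>
        ⟨(inferInstance : (R.map g).Normal).conj_mem y hy.1 c, mem_of_commute (by
          have := (commute_of_mem hy.2).conj c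
          rwa [hc.eq, mul_inv_cancel_right] at this)⟩
      refine ⟨hn _ hcom x, fun h => ?_⟩
      simpa [mul_assoc] using hn _ hcom.inv_left _ h
    have hm5 := fixed_modEq hgp F hpF
    have hbot : F ⊓ centralizer ({g p} : Set _) = ⊥ :=
      eq_bot_iff.2 fun x hx => hfix ▸ (⟨hx.1.1, hx.2⟩ : x ∈ R.map g ⊓ centralizer {g p})
    rw [hbot, Subgroup.card_bot] at hm5
    have hm2 := fixed_modEq hgw (R.map g) (by rw [normalizer_eq_top]; exact mem_top _)
    obtain ⟨i, hi, hic⟩ := two_pow_of_le (inf_le_left : F ≤ R.map g) (n := 4) hRb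
    rw [hRb, ← hF, hic] at hm2
    rw [hic] at hm5
    have hi4 : i = 4 := by interval_cases i <;> simp_all [Nat.ModEq]
    have hall : R.map g ≤ centralizer ({g w} : Set _) :=
      inf_eq_left.1 (eq_of_le_of_card_ge (inf_le_left : F ≤ R.map g) (by rw [hic, hi4, hRb]; norm_num))
    set K0 := (centralizer (R.map g : Set _)).comap g
    have hw0 : w ∈ K0 := mem_centralizer_iff.2 fun y hy => (commute_of_mem (hall hy)).eq.symm
    have hp0 : p ∈ K0 := hkey K0 inferInstance fun h => hwR (h hw0)
    have htop : R.map g ⊓ centralizer ({g p} : Set _) = R.map g :=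
      inf_eq_left.2 fun y hy => mem_of_commute (mem_centralizer_iff.1 hp0 y hy).symm
    rw [hfix] at htop
    rw [← htop, Subgroup.card_bot] at hRb
    norm_num at hRb
  have hk6 : k = 6 := by omega
  have hA4 : Nat.card A = 4 := by rw [hj, hj2']; norm_num
  refine ⟨R, L.comap f, hRn, by rw [hk, hk6]; norm_num, ?_, hvR (mem_zpowers v), hA4, ?_,
    inferInstance, hfk.ge.trans (ker_le_comap f L), ?_⟩
  · by_contra hcR
    have hpc := hkey _ inferInstance hcR
    have hle : R ≤ A := le_inf le_rfl fun r hr =>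
      mem_of_commute (mem_centralizer_iff.1 hpc r hr).symm
    have := card_le_of_le hle
    rw [hk, hk6, hA4] at this
    norm_num at this
  · -- elementary
    intro x hxR hxp
    haveI : (R.subgroupOf (centralizer ({p} : Set C))).Normal := inferInstance
    have hidx : (R.subgroupOf (centralizer ({p} : Set C))).index = 5 := by
      have h := relIndex_mul_relIndex ⊥ A (centralizer ({p} : Set C)) bot_le inf_le_right
      rw [relIndex_bot_left, relIndex_bot_left, hA4, hCp, hA, inf_relIndex_right] at h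
      change R.relIndex (centralizer ({p} : Set C)) = 5
      omega
    let ι : {x : C // Commute p x ∧ orderOf x = 2} → {x : A // x ≠ 1 ∧ x * x = 1} := fun y =>
      ⟨⟨y.1, by
        refine ⟨?_, mem_of_commute y.2.1⟩
        have h := mem_of_coprime_index (K := R.subgroupOf (centralizer ({p} : Set C)))
          (x := ⟨y.1, mem_of_commute y.2.1⟩) (by rw [orderOf_mk, y.2.2, hidx]; norm_num)
        exact h, ⟩, fun h => by
          have h2 := y.2.2
          rw [show y.1 = 1 from congrArg Subtype.val h, orderOf_one] at h2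
          norm_num at h2,
        Subtype.ext (show y.1 * y.1 = 1 by
          have h := pow_orderOf_eq_one y.1
          rwa [y.2.2, pow_two] at h)⟩
    have hι : Function.Injective ι := fun a b h =>
      Subtype.ext (congrArg (fun t => ((t.1 : A) : C)) h)
    have hc3 : 3 ≤ Nat.card {x : A // x ≠ 1 ∧ x * x = 1} :=
      hI.trans (Nat.card_le_card_of_injective ι hι)
    by_contra hxx
    let y : A := ⟨x, hxR, mem_of_commute hxp⟩
    have hy : y * y ≠ 1 := fun h => hxx (congrArg Subtype.val h)
    have hy1 : y ≠ 1 := fun h => hy (by rw [h, one_mul])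
    haveI := Fintype.ofFinite A
    rw [Nat.card_eq_fintype_card, Fintype.card_subtype] at hc3
    have hsub : (Finset.univ.filter fun a : A => a ≠ 1 ∧ a * a = 1) ⊆
        (Finset.univ.erase 1).erase y := by
      intro a ha
      simp only [Finset.mem_filter, Finset.mem_univ, true_and] at ha
      simp only [Finset.mem_erase, Finset.mem_univ, and_true]
      exact ⟨fun h => hy (h ▸ ha.2), ha.1⟩
    have := Finset.card_le_card hsub
    rw [Finset.card_erase_of_mem (Finset.mem_erase.2 ⟨hy1, Finset.mem_univ y⟩),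
      Finset.card_erase_of_mem (Finset.mem_univ _), Finset.card_univ, ← Nat.card_eq_fintype_card,
      hA4] at this
    omega
  · have h1 := (L.comap f).card_mul_index
    rw [index_comap_of_surjective L hfs, hC] at h1
    have h2 := L.card_mul_index
    rw [hL360] at h2
    rw [hk6, hC] at hCb
    norm_num at hCb
    have : L.index = 2 := by omega
    rw [this] at h1
    omega

end CfsgLib.M24Nse.Five
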