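import Cfsg.Agent.Lib.M24Nse.ExtraTools
import Cfsg.Agent.Lib.M24Nse.FiveCore
import Cfsg.Agent.Lib.ThreeTransp.LargeQuotient
import Cfsg.Agent.Lib.PGroups.InvolutionCount

/-!
# S3596, piece P6: the normal subgroup is extraspecial of plus type

The only subgroups invariant under an element `p` of order seven have order 2, 16 or 128.  If the
preimage `W` of the centre of `R / ⟨z⟩` had order 16, an element of order three fixes an element
outside `W` whose square is then in `⟨z⟩`, and so all squares are.  Plus type comes from counting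
elements of square one.
-/

set_option autoImplicit false
set_option linter.unusedSectionVars false
set_option linter.style.haveILetI false

namespace CfsgLib.M24Nse

open Subgroup CfsgLib.M24Nse.Five CfsgLib.M24Nse.Extra

universe u

/-- P6: the normal subgroup is extraspecial of plus type -/
theorem extra : StmtExtra.{u} := by
  intro G _ _ z hC hz hzc L hcentre
  classical
  haveI : Fact (Nat.Prime 7) := ⟨by norm_num⟩
  haveI : Fact (Nat.Prime 3) := ⟨Nat.prime_three⟩
  haveI : Fact (Nat.Prime 2) := ⟨Nat.prime_two⟩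
  haveI := L.normal
  have h14 : ∀ q : G, orderOf q = 7 → Commute q z →
      Nat.card {g : G // Commute q g ∧ Commute z g} = 14 := fun q h1 h2 => hC.cent72 q z h1 hz h2
  set R := L.R with hRdef
  have hR : Nat.card R = 128 := L.card
  have hR2 : Nat.card R = 2 ^ 7 := by rw [hR]; norm_num
  set zc : ↥(centralizer ({z} : Set G)) := ⟨z, mem_centralizer_singleton_iff.2 rfl⟩ with hzcdef
  have hzall : ∀ c : ↥(centralizer ({z} : Set G)), Commute zc c := fun c =>
    Subtype.ext (commute_of_mem c.2).eq
  have hzz : zc * zc = 1 := Subtype.ext (show z * z = 1 by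
    have h := pow_orderOf_eq_one z
    rwa [hz, pow_two] at h)
  have hz1 : zc ≠ 1 := fun h => by
    rw [show z = 1 from congrArg Subtype.val h, orderOf_one] at hz
    norm_num at hz
  have hzo : orderOf zc = 2 := by rw [hzcdef, orderOf_mk, hz]
  -- the quotient
  obtain ⟨φ⟩ := L.quot
  let π : ↥(centralizer ({z} : Set G)) →* Matrix.SpecialLinearGroup (Fin 3) (ZMod 2) :=
    φ.toMonoidHom.comp (QuotientGroup.mk' R)
  have hπs : Function.Surjective π := φ.surjective.comp (QuotientGroup.mk'_surjective R)
  have hπ : ∀ x, π x = 1 ↔ x ∈ R := fun x => by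
    show φ (QuotientGroup.mk x) = 1 ↔ x ∈ R
    rw [MulEquiv.map_eq_one_iff, QuotientGroup.eq_one_iff]
  have hzR : zc ∈ R := by
    obtain ⟨y, hy⟩ := exists_prime_orderOf_dvd_card'
      (G := Matrix.SpecialLinearGroup (Fin 3) (ZMod 2)) 3
      (by rw [CfsgLib.Spor.Tv5.card_SL3]; norm_num)
    obtain ⟨y0, rfl⟩ := hπs y
    exact (hπ zc).1 (sl_cent hy ((hzall y0).symm.map π) (k := 1)
      (by rw [pow_one, pow_two, ← map_mul, hzz, map_one]))
  -- the element of order seven
  obtain ⟨p, hp⟩ := exists_prime_orderOf_dvd_card' (G := ↥(centralizer ({z} : Set G))) 7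
    (by rw [hzc]; norm_num)
  have hp' : orderOf (p : G) = 7 := by rw [orderOf_coe, hp]
  have hcp : Nat.card (centralizer ({p} : Set ↥(centralizer ({z} : Set G)))) = 14 := by
    rw [← h14 p hp' (commute_of_mem p.2).symm]
    exact Nat.card_congr
      { toFun := fun g => ⟨g.1.1, (commute_of_mem g.2).map (centralizer ({z} : Set G)).subtype,
          commute_of_mem g.1.2⟩
        invFun := fun g => ⟨⟨g.1, mem_of_commute g.2.2⟩, mem_of_commute (Subtype.ext g.2.1.eq)⟩
        left_inv := fun _ => rfl
        right_inv := fun _ => rfl }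
  have hfix : R ⊓ centralizer ({p} : Set _) = zpowers zc := by
    refine (eq_of_le_of_card_ge (le_inf (zpowers_le.2 hzR)
      (zpowers_le.2 (mem_of_commute (hzall p).symm))) ?_).symm
    obtain ⟨k, -, hk⟩ := two_pow_of_le (inf_le_left : R ⊓ centralizer ({p} : Set _) ≤ R) hR2
    have h := card_dvd_of_le (inf_le_right :
      R ⊓ centralizer ({p} : Set _) ≤ centralizer ({p} : Set _))
    rw [hcp, hk] at h
    rw [hk, Nat.card_zpowers, hzo]
    rcases Nat.lt_or_ge k 2 with h2 | h2
    · interval_cases k <;> norm_num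
    · exact absurd ((pow_dvd_pow 2 h2).trans h) (by norm_num)
  have hfix1 : ∀ r ∈ R, Commute p r → r = 1 ∨ r = zc := fun r hr hc =>
    eq_of_mem_zpowers hzz (hfix ▸ (⟨hr, mem_of_commute hc⟩ : r ∈ R ⊓ centralizer ({p} : Set _)))
  have horb : ∀ H : Subgroup ↥(centralizer ({z} : Set G)), H ≤ R → zc ∈ H →
      p ∈ normalizer (H : Set _) → Nat.card H = 2 ∨ Nat.card H = 16 ∨ Nat.card H = 128 := by
    intro H hH hzH hpH
    have h := fixed_modEq hp H hpH
    have he : H ⊓ centralizer ({p} : Set _) = zpowers zc := le_antisymm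
      (hfix ▸ inf_le_inf_right _ hH)
      (le_inf (zpowers_le.2 hzH) (zpowers_le.2 (mem_of_commute (hzall p).symm)))
    rw [he, Nat.card_zpowers, hzo] at h
    obtain ⟨k, hk, hkH⟩ := two_pow_of_le hH hR2
    rw [hkH] at h ⊢
    exact two_pow_seven hk h
  -- the centraliser
  have hcR : centralizer (R : Set _) ≤ R := by
    intro x hx
    by_contra hxR
    set K := centralizer (R : Set ↥(centralizer ({z} : Set G)))
    haveI : IsSimpleGroup (Matrix.SpecialLinearGroup (Fin 3) (ZMod 2)) := by
      haveI : Nontrivial (Matrix.SpecialLinearGroup (Fin 3) (ZMod 2)) := by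
        rw [← Finite.one_lt_card_iff_nontrivial, CfsgLib.Spor.Tv5.card_SL3]; norm_num
      haveI := CfsgLib.Classical.isSimpleGroup_PSL_fin (F := ZMod 2) 3 (by norm_num) (by norm_num)
      exact IsSimpleGroup.isSimpleGroup_of_surjective
        (H := Matrix.SpecialLinearGroup (Fin 3) (ZMod 2))
        ((QuotientGroup.quotientMulEquivOfEq CfsgLib.Small.center_SL_three_two).trans
          QuotientGroup.quotientBot).toMonoidHom (MulEquiv.surjective _)
    haveI : (K.map π).Normal := (inferInstance : K.Normal).map π hπs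
    rcases IsSimpleGroup.eq_bot_or_eq_top_of_normal (K.map π) inferInstance with h | h
    · exact hxR ((hπ x).1 (by simpa [h] using mem_map_of_mem π hx))
    · obtain ⟨y, hy, hyp⟩ := h ▸ (mem_top (π p) : π p ∈ (⊤ : Subgroup _))
      have hr : y⁻¹ * p ∈ R := (hπ _).1 (by rw [map_mul, map_inv, hyp, inv_mul_cancel])
      have himg : (QuotientGroup.mk' K) p = (QuotientGroup.mk' K) (y⁻¹ * p) := by
        rw [map_mul, map_inv, show (QuotientGroup.mk' K) y = 1 from
          (QuotientGroup.eq_one_iff y).2 hy, inv_one, one_mul]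
      have h2 : orderOf ((QuotientGroup.mk' K) p) ∣ 2 ^ 7 := by
        rw [himg, ← hR2]
        exact (orderOf_map_dvd _ _).trans (Subgroup.orderOf_dvd_natCard R hr)
      have hpK : p ∈ K := (QuotientGroup.eq_one_iff p).1 (orderOf_eq_one_iff.1
        (Nat.eq_one_of_dvd_coprimes (by norm_num : Nat.Coprime 7 (2 ^ 7))
          (by simpa [hp] using orderOf_map_dvd (QuotientGroup.mk' K) p) h2))
      have hle : R ≤ zpowers zc := hfix ▸ le_inf le_rfl fun r hr =>
        mem_of_commute (mem_centralizer_iff.1 hpK r hr).symm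
      have := card_le_of_le hle
      rw [hR, Nat.card_zpowers, hzo] at this
      norm_num at this
  -- the centre
  have hcen : ∀ x ∈ R, (∀ r ∈ R, r * x = x * r) → x = 1 ∨ x = zc := by
    intro x hx hxc
    have h01 : ∀ w ∈ R, (∀ r ∈ R, r * w = w * r) → w * w = 1 → w = 1 ∨ w = zc := fun w h1 h2 h3 => by
      rcases hcentre w h1 h2 h3 with h | h
      · exact Or.inl (Subtype.ext h)
      · exact Or.inr (Subtype.ext h)
    by_cases hxx : x * x = 1
    · exact h01 x hx hxc hxx
    exfalso
    obtain ⟨m, -, hm⟩ := (Nat.dvd_prime_pow Nat.prime_two).1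
      (hR2 ▸ Subgroup.orderOf_dvd_natCard R hx)
    have hm2 : 4 ∣ orderOf x := by
      rcases Nat.lt_or_ge m 2 with h | h
      · exfalso
        refine hxx ?_
        rw [← pow_two, ← orderOf_dvd_iff_pow_eq_one, hm]
        interval_cases m <;> norm_num
      · rw [hm]; exact pow_dvd_pow 2 h
    set y := x ^ (orderOf x / 4) with hy
    have hy4 : orderOf y = 4 := orderOf_pow_orderOf_div (orderOf_pos x).ne' hm2
    have hyR : y ∈ R := pow_mem hx _
    have hyc : ∀ r ∈ R, r * y = y * r := fun r hr => ((show Commute r x from hxc r hr).pow_right _).eq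
    have hy2 : y * y = zc := by
      refine (h01 _ (mul_mem hyR hyR) (fun r hr => ((show Commute r y from hyc r hr).mul_right (hyc r hr)).eq)
        ?_).resolve_left fun h => ?_
      · have h := pow_orderOf_eq_one y
        rw [hy4] at h
        simpa [pow_succ, mul_assoc] using h
      · have h2 := orderOf_dvd_of_pow_eq_one (show y ^ 2 = 1 by rw [pow_two]; exact h)
        rw [hy4] at h2
        norm_num at h2
    set u := y⁻¹ * (p * y * p⁻¹) with hu
    have hconjR : p * y * p⁻¹ ∈ R := L.normal.conj_mem y hyR p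
    have hconjc : ∀ r ∈ R, r * (p * y * p⁻¹) = p * y * p⁻¹ * r := fun r hr => by
      have h := hyc (p⁻¹ * r * p) (by simpa using L.normal.conj_mem r hr p⁻¹)
      calc r * (p * y * p⁻¹) = p * ((p⁻¹ * r * p) * y) * p⁻¹ := by group
        _ = p * (y * (p⁻¹ * r * p)) * p⁻¹ := by rw [h]
        _ = p * y * p⁻¹ * r := by group
    have huu : u * u = 1 := by
      have h1 : y⁻¹ * (p * y * p⁻¹) = p * y * p⁻¹ * y⁻¹ :=
        (hconjc y⁻¹ (inv_mem hyR))
      calc u * u = y⁻¹ * (p * y * p⁻¹) * (y⁻¹ * (p * y * p⁻¹)) := rfl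
        _ = y⁻¹ * ((p * y * p⁻¹) * y⁻¹) * (p * y * p⁻¹) := by group
        _ = y⁻¹ * (y⁻¹ * (p * y * p⁻¹)) * (p * y * p⁻¹) := by rw [h1]
        _ = (y * y)⁻¹ * (p * (y * y) * p⁻¹) := by group
        _ = 1 := by rw [hy2, ← (hzall p).eq, mul_inv_cancel_right, inv_mul_cancel]
    have hyne : ¬ Commute p y := fun h => by
      rcases hfix1 y hyR h with h' | h' <;> rw [h'] at hy4
      · rw [orderOf_one] at hy4; norm_num at hy4
      · rw [hzo] at hy4; norm_num at hy4
    rcases h01 u (mul_mem (inv_mem hyR) hconjR)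
      (fun r hr => ((show Commute r y from hyc r hr).inv_right.mul_right (hconjc r hr)).eq) huu with h | h
    · exact hyne (commute_of_conj_eq (inv_mul_eq_one.1 h).symm)
    · refine hyne (commute_of_pow (q := 7) (n := 2) (by norm_num) hp (by norm_num) ?_)
      have hc1 : p * y * p⁻¹ = y * zc := by
        rw [← h, hu, mul_inv_cancel_left]
      refine commute_of_conj_eq ?_
      calc p ^ 2 * y * (p ^ 2)⁻¹ = p * (p * y * p⁻¹) * p⁻¹ := by rw [pow_two]; group
        _ = p * y * p⁻¹ * (p * zc * p⁻¹) := by conv_lhs => rw [hc1]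
                                               group
        _ = y := by
          rw [hc1, ← (hzall p).eq, mul_inv_cancel_right, mul_assoc, hzz, mul_one]
  -- the commutators
  haveI : (zpowers zc).Normal := ⟨fun x hx c => by
    obtain ⟨i, rfl⟩ := hx
    show c * zc ^ i * c⁻¹ ∈ zpowers zc
    rw [← ((hzall c).zpow_left i).eq, mul_inv_cancel_right]
    exact zpow_mem (mem_zpowers zc) i⟩
  set g := QuotientGroup.mk' (zpowers zc) with hgdef
  haveI : (R.map g).Normal := L.normal.map g (QuotientGroup.mk'_surjective _)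
  set W := R ⊓ (centralizer (R.map g : Set _)).comap g with hWdef
  haveI hWn : W.Normal := inferInstance
  have hgker : ∀ x, g x = 1 ↔ x = 1 ∨ x = zc := fun x => by
    rw [hgdef, QuotientGroup.mk'_apply, QuotientGroup.eq_one_iff]
    refine ⟨eq_of_mem_zpowers hzz, ?_⟩
    rintro (rfl | rfl)
    · exact one_mem _
    · exact mem_zpowers _
  have hWcomm : ∀ x ∈ W, ∀ r ∈ R, x * r = r * x ∨ x * r = r * x * zc := by
    intro x hx r hr
    have h : g r * g x = g x * g r := mem_centralizer_iff.1 hx.2 (g r) ⟨r, hr, rfl⟩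
    have h2 : g ((r * x)⁻¹ * (x * r)) = 1 := by
      rw [map_mul, map_inv, map_mul, map_mul, h, inv_mul_cancel]
    rcases (hgker _).1 h2 with h3 | h3
    · exact Or.inl (inv_mul_eq_one.1 h3).symm
    · exact Or.inr (by rw [← h3, mul_inv_cancel_left])
  have hzW : zc ∈ W := ⟨hzR, mem_centralizer_iff.2 fun y _ => by
    rw [(hgker zc).2 (Or.inr rfl), mul_one, one_mul]⟩
  have hWR : W ≤ R := inf_le_left
  have hsqW : ∀ x ∈ W, x * x = 1 ∨ x * x = zc := by
    intro x hx
    refine hcen _ (mul_mem (hWR hx) (hWR hx)) fun r hr => ?_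
    rcases hWcomm x hx r hr with h | h
    · rw [← mul_assoc, ← h, mul_assoc, ← h, ← mul_assoc]
    · have h' : r * x = x * r * zc := by rw [h, mul_assoc, hzz, mul_one]
      calc r * (x * x) = (r * x) * x := (mul_assoc _ _ _).symm
        _ = x * r * (zc * x) := by rw [h', mul_assoc]
        _ = x * (r * x) * zc := by rw [(hzall x).eq]; group
        _ = x * x * r * (zc * zc) := by rw [h']; group
        _ = x * x * r := by rw [hzz, mul_one]
  have hpnorm : ∀ H : Subgroup ↥(centralizer ({z} : Set G)), H.Normal →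
      p ∈ normalizer (H : Set _) := fun H hH => by
    haveI := hH
    rw [normalizer_eq_top]; exact mem_top p
  have hW128 : Nat.card W = 128 := by
    rcases horb W hWR hzW (hpnorm W hWn) with h | h | h
    · exfalso
      have hW2 : W = zpowers zc := (eq_of_le_of_card_ge (zpowers_le.2 hzW)
        (by rw [h, Nat.card_zpowers, hzo])).symm
      have hnt : Nontrivial (R.map g) := by
        refine (nontrivial_iff_ne_bot _).2 fun hb => ?_
        have hle : R ≤ zpowers zc := fun r hr => by
          rcases (hgker r).1 (mem_bot.1 (hb ▸ mem_map_of_mem g hr)) with h | h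
          · rw [h]; exact one_mem _
          · rw [h]; exact mem_zpowers _
        have := card_le_of_le hle
        rw [hR, Nat.card_zpowers, hzo] at this
        norm_num at this
      haveI := hnt
      haveI := ((IsPGroup.of_card hR2).map g).center_nontrivial
      obtain ⟨c, hc⟩ := exists_ne (1 : center (R.map g))
      obtain ⟨r, hr, hrc⟩ := (c : R.map g).2
      have hrW : r ∈ W := ⟨hr, mem_centralizer_iff.2 fun y hy => by
        rw [hrc]; exact congrArg Subtype.val (mem_center_iff.1 c.2 ⟨y, hy⟩)⟩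
      rw [hW2] at hrW
      refine hc (Subtype.ext (Subtype.ext ?_))
      show ((c : R.map g) : _ ⧸ zpowers zc) = 1
      rw [← hrc]
      exact (hgker r).2 (eq_of_mem_zpowers hzz hrW)
    swap
    · exact h
    exfalso
    -- an element of order three
    obtain ⟨e, he⟩ := exists_prime_orderOf_dvd_card' (G := ↥(centralizer ({z} : Set G))) 3
      (by rw [hzc]; norm_num)
    set X := R ⊓ centralizer ({e} : Set _) with hXdef
    have hXmod := fixed_modEq he R (by rw [normalizer_eq_top]; exact mem_top e)
    rw [hR, ← hXdef] at hXmod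
    obtain ⟨kX, hkX, hXk⟩ := two_pow_of_le (inf_le_left : X ≤ R) hR2
    have hXsq : Nat.card X * Nat.card X ≤ 256 := by
      set R0 := R.map (centralizer ({z} : Set G)).subtype with hR0def
      have hR0 : Nat.card R0 = 128 := by
        rw [hR0def, card_map_of_injective (subtype_injective _), hR]
      have hn : centralizer ({z} : Set G) ≤ normalizer (R0 : Set G) := by
        intro c hc
        rw [mem_normalizer_iff]
        intro y
        constructor
        · rintro ⟨k, hk, rfl⟩
          exact ⟨⟨c, hc⟩ * k * ⟨c, hc⟩⁻¹, L.normal.conj_mem k hk _, rfl⟩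
        · rintro ⟨k, hk, hky⟩
          exact ⟨⟨c, hc⟩⁻¹ * k * ⟨c, hc⟩, by simpa using L.normal.conj_mem k hk ⟨c, hc⟩⁻¹, by
            show c⁻¹ * (k : G) * c = y
            rw [show (k : G) = c * y * c⁻¹ from hky]
            group⟩
      have hsq := cent_three_sq hzc h14 R0 (n := 7) (by rw [hR0]; norm_num) (map_subtype_le R) hn
        (e := (e : G)) (by rw [orderOf_coe, he]) (commute_of_mem e.2)
      rw [hR0] at hsq
      have hle : Nat.card X ≤ Nat.card ↥(R0 ⊓ centralizer ({(e : G)} : Set G)) := by
        rw [← card_map_of_injective (subtype_injective _) (K := X)]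
        refine card_le_of_le ?_
        rintro _ ⟨x, hx, rfl⟩
        exact ⟨mem_map_of_mem _ hx.1,
          mem_of_commute ((commute_of_mem hx.2).map (centralizer ({z} : Set G)).subtype)⟩
      exact le_trans (Nat.mul_le_mul hle hle) hsq
    set Y := W ⊓ centralizer ({e} : Set _) with hYdef
    have hYmod := fixed_modEq he W (by rw [normalizer_eq_top]; exact mem_top e)
    rw [h, ← hYdef] at hYmod
    obtain ⟨kY, hkY, hYk⟩ := two_pow_of_le (inf_le_left : Y ≤ W) (n := 4) (by rw [h]; norm_num)
    have hYX : Y ≤ X := inf_le_inf_right _ hWR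
    have hY2 : 2 ≤ Nat.card Y := by
      have h2 := card_le_of_le (zpowers_le.2
        (⟨hzW, mem_of_commute (hzall e).symm⟩ : zc ∈ Y) : zpowers zc ≤ Y)
      rwa [Nat.card_zpowers, hzo] at h2
    have hcards : Nat.card Y = 4 ∧ Nat.card X = 8 := by
      have h1 := card_le_of_le hYX
      rw [hXk, hYk] at h1
      rw [hYk] at hY2 hYmod ⊢
      rw [hXk] at hXsq hXmod ⊢
      unfold Nat.ModEq at hXmod hYmod
      interval_cases kX <;> interval_cases kY <;> omega
    obtain ⟨a, haX, haY⟩ : ∃ a ∈ X, a ∉ Y := by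
      by_contra hno
      push Not at hno
      have := card_le_of_le (fun x hx => hno x hx : X ≤ Y)
      omega
    have haW : a ∉ W := fun h' => haY ⟨h', haX.2⟩
    have hidx : (Y.subgroupOf X).index = 2 := by
      have h1 := relIndex_mul_relIndex ⊥ Y X bot_le hYX
      rw [relIndex_bot_left, relIndex_bot_left, hcards.1, hcards.2] at h1
      show Y.relIndex X = 2
      omega
    have ha2 : a * a ∈ Y := by
      have h1 : (⟨a, haX⟩ : X) * ⟨a, haX⟩ ∈ Y.subgroupOf X := mul_self_mem_of_index_two hidx _
      exact h1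
    have haq : a * a = 1 ∨ a * a = zc := by
      by_contra hne
      push Not at hne
      set w := a * a with hwdef
      have hwW : w ∈ W := ha2.1
      have hwa : Commute w a := (Commute.refl a).mul_left (Commute.refl a)
      set K := R ⊓ centralizer ({w} : Set _) with hKdef
      have hK64 : Nat.card K = 64 := by
        have h1 := card_le_two_mul (z := zc) (x := w) R (hWcomm w hwW)
        obtain ⟨kK, hkK, hKk⟩ := two_pow_of_le (inf_le_left : K ≤ R) hR2
        rw [hR, ← hKdef, hKk] at h1
        have h2 : 2 ^ kK ≠ 128 := fun h2 => by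
          have hKR : K = R := eq_of_le_of_card_ge inf_le_left (by rw [hKk, h2, hR])
          rcases hcen w (hWR hwW) (fun r hr => (commute_of_mem (hKR.ge hr).2).eq.symm) with h' | h'
          · exact hne.1 h'
          · exact hne.2 h'
        rw [hKk]
        interval_cases kK <;> omega
      have hne' : e ∈ normalizer (K : Set _) := by
        have hwe : Commute e w := commute_of_mem ha2.2
        have hn : ∀ c, Commute c w → ∀ y ∈ K, c * y * c⁻¹ ∈ K := fun c hc y hy =>
          ⟨L.normal.conj_mem y hy.1 c, mem_of_commute (by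
            have := (commute_of_mem hy.2).conj c
            rwa [hc.eq, mul_inv_cancel_right] at this)⟩
        rw [mem_normalizer_iff]
        refine fun y => ⟨hn e hwe y, fun h' => ?_⟩
        simpa [mul_assoc] using hn e⁻¹ hwe.inv_left _ h'
      have hmodK := fixed_modEq he K hne'
      have hYcomm : ∀ y ∈ Y, Commute w y := fun y hy => congrArg Subtype.val
        ((IsPGroup.isMulCommutative_of_card_eq_prime_sq (p := 2)
          (by rw [hcards.1]; norm_num : Nat.card Y = 2 ^ 2)).is_comm.comm ⟨w, ha2⟩ ⟨y, hy⟩)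
      have hXK : X ≤ K := by
        intro x hx
        refine ⟨hx.1, mem_of_commute ?_⟩
        by_cases hxY : x ∈ Y
        · exact hYcomm x hxY
        · have h1 : (⟨a, haX⟩ : X)⁻¹ * ⟨x, hx⟩ ∈ Y.subgroupOf X := by
            rw [Subgroup.mul_mem_iff_of_index_two hidx, inv_mem_iff]
            exact iff_of_false haY hxY
          have h2 : Commute w (a⁻¹ * x) := hYcomm _ h1
          simpa using hwa.mul_right h2
      have heq : K ⊓ centralizer ({e} : Set _) = X :=
        le_antisymm (inf_le_inf_right _ inf_le_left) (le_inf hXK inf_le_right)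
      rw [hK64, heq, hcards.2] at hmodK
      norm_num [Nat.ModEq] at hmodK
    -- all squares
    have hpa : ∀ n : ℕ, ¬ 7 ∣ n →
        QuotientGroup.mk' W (p ^ n) * QuotientGroup.mk' W a ≠
          QuotientGroup.mk' W a * QuotientGroup.mk' W (p ^ n) := by
      intro n hn heq
      set ab := QuotientGroup.mk' W a
      have hab2 : orderOf ab = 2 := by
        refine orderOf_eq_prime ?_ ?_
        · rw [pow_two, ← map_mul, QuotientGroup.mk'_apply, QuotientGroup.eq_one_iff]; exact ha2.1
        · show ¬ QuotientGroup.mk' W a = 1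
          rw [QuotientGroup.mk'_apply, QuotientGroup.eq_one_iff]; exact haW
      have hpb : orderOf (QuotientGroup.mk' W p) = 7 := by
        refine orderOf_eq_prime (by rw [← map_pow, ← hp, pow_orderOf_eq_one, map_one]) ?_
        rw [Ne, QuotientGroup.mk'_apply, QuotientGroup.eq_one_iff]
        intro h'
        have h1 := Subgroup.orderOf_dvd_natCard W h'
        rw [hp, h] at h1
        norm_num at h1
      have hc : Commute (QuotientGroup.mk' W p) ab :=
        commute_of_pow (by norm_num : Nat.Prime 7) hpb hn (by rw [← map_pow]; exact heq)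
      set H1 := (zpowers ab).comap (QuotientGroup.mk' W)
      have hWH : W ≤ H1 := fun x hx => by
        show QuotientGroup.mk' W x ∈ zpowers ab
        rw [show QuotientGroup.mk' W x = 1 from (QuotientGroup.eq_one_iff x).2 hx]
        exact one_mem _
      have hH1R : H1 ≤ R := by
        intro x hx
        obtain ⟨i, hi⟩ := mem_zpowers_iff.1 (hx : QuotientGroup.mk' W x ∈ zpowers ab)
        have h1 : (a ^ i)⁻¹ * x ∈ W := by
          rw [← QuotientGroup.eq_one_iff, ← QuotientGroup.mk'_apply, map_mul, map_inv, map_zpow, hi,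
            inv_mul_cancel]
        simpa using mul_mem (zpow_mem (show a ∈ R from haX.1) i) (hWR h1)
      have hpH : p ∈ normalizer (H1 : Set _) := by
        have key : ∀ q, Commute (QuotientGroup.mk' W q) ab → ∀ x ∈ H1, q * x * q⁻¹ ∈ H1 := by
          intro q hq x hx
          show QuotientGroup.mk' W (q * x * q⁻¹) ∈ zpowers ab
          obtain ⟨i, hi⟩ := mem_zpowers_iff.1 (hx : QuotientGroup.mk' W x ∈ zpowers ab)
          rw [map_mul, map_mul, map_inv, ← hi, (hq.zpow_right i).eq, mul_inv_cancel_right]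
          exact zpow_mem (mem_zpowers ab) i
        rw [mem_normalizer_iff]
        refine fun x => ⟨key p hc x, fun h' => ?_⟩
        simpa [mul_assoc] using key p⁻¹ (by rw [map_inv]; exact hc.inv_left) _ h'
      have hc1 : Nat.card H1 = 32 := by
        have h1 := relIndex_mul_relIndex ⊥ W H1 bot_le hWH
        rw [relIndex_bot_left, relIndex_bot_left, h] at h1
        have h2 : W.relIndex H1 = Nat.card (H1.map (QuotientGroup.mk' W)) := by
          rw [← relIndex_ker, QuotientGroup.ker_mk']
        rw [map_comap_eq_self_of_surjective (QuotientGroup.mk'_surjective W), Nat.card_zpowers,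
          hab2] at h2
        omega
      rcases horb H1 hH1R (hWH hzW) hpH with h' | h' | h' <;> omega
    let U : Set ↥(centralizer ({z} : Set G)) := {r | r ∈ R ∧ (r * r = 1 ∨ r * r = zc)}
    have hUmul : ∀ r ∈ U, ∀ w ∈ W, r * w ∈ U := by
      intro r hr w hw
      refine ⟨mul_mem hr.1 (hWR hw), ?_⟩
      have hin : ∀ s, s = 1 ∨ s = zc → ∀ t, t = 1 ∨ t = zc → s * t = 1 ∨ s * t = zc := by
        rintro s (rfl | rfl) t (rfl | rfl) <;> simp [hzz]
      rcases hWcomm w hw r hr.1 with h' | h'
      · rw [show r * w * (r * w) = r * r * (w * w) by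
          rw [mul_assoc, ← mul_assoc w r w, h']; group]
        exact hin _ hr.2 _ (hsqW w hw)
      · rw [show r * w * (r * w) = r * r * ((w * w) * zc) by
          rw [mul_assoc, ← mul_assoc w r w, h', mul_assoc _ zc w, (hzall w).eq]; group]
        exact hin _ hr.2 _ (hin _ (hsqW w hw) _ (Or.inr rfl))
    have hUconj : ∀ r ∈ U, ∀ c, c * r * c⁻¹ ∈ U := by
      intro r hr c
      refine ⟨L.normal.conj_mem r hr.1 c, ?_⟩
      rw [show c * r * c⁻¹ * (c * r * c⁻¹) = c * (r * r) * c⁻¹ by group]
      rcases hr.2 with h' | h'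
      · exact Or.inl (by rw [h', mul_one, mul_inv_cancel])
      · exact Or.inr (by rw [h', ← (hzall c).eq, mul_inv_cancel_right])
    have hWU : ∀ w ∈ W, w ∈ U := fun w hw => ⟨hWR hw, hsqW w hw⟩
    have haU : a ∈ U := ⟨haX.1, haq⟩
    let F : Fin 7 × W ⊕ W → R := Sum.elim
      (fun iw => ⟨p ^ (iw.1 : ℕ) * a * (p ^ (iw.1 : ℕ))⁻¹ * (iw.2 : ↥(centralizer ({z} : Set G))),
        mul_mem (L.normal.conj_mem a haX.1 _) (hWR iw.2.2)⟩)
      (fun w => ⟨w, hWR w.2⟩)
    have hFU : ∀ t, (F t : ↥(centralizer ({z} : Set G))) ∈ U := by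
      rintro (⟨i, w⟩ | w)
      · exact hUmul _ (hUconj a haU _) w w.2
      · exact hWU w w.2
    have hmkW : ∀ w : W, QuotientGroup.mk' W (w : ↥(centralizer ({z} : Set G))) = 1 := fun w =>
      (QuotientGroup.eq_one_iff _).2 w.2
    have hFout : ∀ i : ℕ, ∀ w w' : W,
        p ^ i * a * (p ^ i)⁻¹ * (w : ↥(centralizer ({z} : Set G))) ≠ w' := by
      intro i w w' h'
      refine haW ?_
      have h2 : p ^ i * a * (p ^ i)⁻¹ ∈ W := by
        rw [← eq_mul_inv_iff_mul_eq] at h'
        rw [h']; exact mul_mem w'.2 (inv_mem w.2)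
      simpa [mul_assoc] using hWn.conj_mem _ h2 (p ^ i)⁻¹
    have hFinj : Function.Injective F := by
      rintro (⟨i, w⟩ | w) (⟨i', w'⟩ | w') h' <;>
        have h2 := congrArg (fun t : R => (t : ↥(centralizer ({z} : Set G)))) h' <;>
        simp only [F, Sum.elim_inl, Sum.elim_inr] at h2
      · have h3 := congrArg (QuotientGroup.mk' W) h2
        simp only [map_mul, map_inv, map_pow, hmkW, mul_one] at h3
        have hii : (i : ℕ) = i' := by
          refine pow_conj_inj (by norm_num : Nat.Prime 7) ?_ ?_ i.2 i'.2 h3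
          · refine orderOf_eq_prime (by rw [← map_pow, ← hp, pow_orderOf_eq_one, map_one]) ?_
            intro h4
            exact hpa 1 (by norm_num) (by rw [pow_one, h4, one_mul, mul_one])
          · exact fun h4 => hpa 1 (by norm_num) (by rw [pow_one]; exact h4)
        obtain rfl : i = i' := Fin.ext hii
        rw [show w = w' from Subtype.ext (mul_left_cancel h2)]
      · exact absurd h2 (hFout _ w w')
      · exact absurd h2.symm (hFout _ w' w)
      · exact congrArg Sum.inr (Subtype.ext h2)
    have hFbij : Function.Bijective F := (Nat.bijective_iff_injective_and_card F).2 ⟨hFinj, by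
      rw [Nat.card_sum, Nat.card_prod, Nat.card_fin, h, hR]⟩
    have hsqR : ∀ r ∈ R, r * r = 1 ∨ r * r = zc := fun r hr => by
      obtain ⟨t, ht⟩ := hFbij.2 ⟨r, hr⟩
      have h1 := (hFU t).2
      rwa [show (F t : ↥(centralizer ({z} : Set G))) = r from congrArg Subtype.val ht] at h1
    have hRW : R ≤ W := fun r hr => ⟨hr, mem_centralizer_iff.2 fun y hy => by
      obtain ⟨s, hs, rfl⟩ := hy
      have hinv : ∀ t ∈ R, (g t)⁻¹ = g t := fun t ht => inv_eq_of_mul_eq_one_right (by
        rw [← map_mul]; exact (hgker _).2 (hsqR t ht))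
      have h1 := hinv (s * r) (mul_mem hs hr)
      rw [map_mul, mul_inv_rev, hinv r hr, hinv s hs] at h1
      exact h1.symm⟩
    have := card_le_of_le hRW
    omega
  have hWR' : W = R := eq_of_le_of_card_ge hWR (by rw [hW128, hR])
  have hcomm : ∀ x ∈ R, ∀ r ∈ R, x * r = r * x ∨ x * r = r * x * zc := fun x hx =>
    hWcomm x (hWR'.symm ▸ hx)
  have hsq : ∀ x ∈ R, x * x = 1 ∨ x * x = zc := fun x hx => hsqW x (hWR'.symm ▸ hx)
  have hne : ∃ a ∈ R, ∃ b ∈ R, a * b ≠ b * a := by
    by_contra hno
    push Not at hno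
    have hle : R ≤ zpowers zc := fun x hx => by
      rcases hcen x hx (fun r hr => hno r hr x hx) with h | h
      · rw [h]; exact one_mem _
      · rw [h]; exact mem_zpowers _
    have := card_le_of_le hle
    rw [hR, Nat.card_zpowers, hzo] at this
    norm_num at this
  obtain ⟨hE, -⟩ := CfsgLib.ThreeTransp.isExtraspecial_of R (IsPGroup.of_card hR2) hzR hz1 hzz
    (fun e _ => (hzall e).eq.symm)
    (fun a ha b hb => by
      rcases hcomm a ha b hb with h | h
      · left; rw [h]; group
      · right
        rw [h, (hzall _).symm.eq]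
        group)
    hsq hcen hne
  refine ⟨hE, ?_, hcR⟩
  -- the elements of square one
  have hS72 : Nat.card (inv1 R) = 72 := by
    have hΦ : Nat.card (frattini R) = 2 := by rw [hE.1.2.1]; exact hE.2
    have hidx : (frattini R).index = 2 ^ 6 := by
      have h1 := (frattini R).card_mul_index
      rw [hΦ, hR] at h1
      norm_num
      omega
    have hcount := (CfsgLib.PGroups.involution_count (IsPGroup.of_card hR2) hΦ 6 hidx).1
    have hS : Nat.card {x : R // x ^ 2 = 1} = Nat.card (inv1 R) := Nat.card_congr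
      { toFun := fun x => ⟨x.1, x.1.2, by
          have := congrArg Subtype.val x.2
          simpa [pow_two] using this⟩
        invFun := fun x => ⟨⟨x.1, x.2.1⟩, Subtype.ext (by simpa [pow_two] using x.2.2)⟩
        left_inv := fun _ => rfl
        right_inv := fun _ => rfl }
    rw [hS] at hcount
    have hmod := set_modEq hp (inv1 R) (fun y hy => ⟨L.normal.conj_mem y hy.1 p, by
      rw [show p * y * p⁻¹ * (p * y * p⁻¹) = p * (y * y) * p⁻¹ by group, hy.2, mul_one,
        mul_inv_cancel]⟩)
    have hf : Nat.card {y // y ∈ inv1 R ∧ Commute p y} = 2 := by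
      rw [← hzo, ← Nat.card_zpowers]
      exact Nat.card_congr (Equiv.subtypeEquivRight fun y => ⟨fun hy =>
        hfix ▸ (⟨hy.1.1, mem_of_commute hy.2⟩ : y ∈ R ⊓ centralizer ({p} : Set _)), fun hy => by
        rcases eq_of_mem_zpowers hzz hy with rfl | rfl
        · exact ⟨⟨one_mem _, one_mul 1⟩, Commute.one_right p⟩
        · exact ⟨⟨hzR, hzz⟩, (hzall p).symm⟩⟩)
    rw [hf] at hmod
    unfold Nat.ModEq at hmod
    rcases hcount with hc | ⟨r, hr1, hr2, hc⟩
    · omega
    · have : r ≤ 3 := by omega
      interval_cases r <;> omega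
  -- three steps
  have h1 : ∃ x ∈ R, x * x = 1 ∧ x ∉ zpowers zc := by
    by_contra hno
    push Not at hno
    have h2 : Nat.card (inv1 R) ≤ Nat.card (zpowers zc) :=
      Nat.card_le_card_of_injective (fun y => ⟨y.1, hno y.1 y.2.1 y.2.2⟩)
        (fun a b h => Subtype.ext (congrArg (fun t : ↥(zpowers zc) => (t : ↥(centralizer ({z} : Set G)))) h))
    rw [hS72, Nat.card_zpowers, hzo] at h2
    norm_num at h2
  obtain ⟨x, hxR, hxx, hxA⟩ := h1
  obtain ⟨A1, hA1, hA1c, hA1m⟩ := extend (A := zpowers zc)
    (fun a ha => by rcases eq_of_mem_zpowers hzz ha with rfl | rfl <;> simp [hzz]) hxx hxA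
    (fun a ha => by
      rcases eq_of_mem_zpowers hzz ha with rfl | rfl
      · exact Commute.one_left x
      · exact hzall x)
  rw [Nat.card_zpowers, hzo] at hA1c
  set K1 := R ⊓ centralizer ({x} : Set _) with hK1
  have hK1c : Nat.card K1 = 64 := by
    have h1 := card_le_two_mul (z := zc) (x := x) R (hcomm x hxR)
    obtain ⟨k, hk, hKk⟩ := two_pow_of_le (inf_le_left : K1 ≤ R) hR2
    rw [hR, ← hK1, hKk] at h1
    have h2 : 2 ^ k ≠ 128 := fun h2 => by
      have hKR : K1 = R := eq_of_le_of_card_ge inf_le_left (by rw [hKk, h2, hR])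
      rcases hcen x hxR (fun r hr => (commute_of_mem (hKR.ge hr).2).eq.symm) with h' | h'
      · exact hxA (h' ▸ one_mem _)
      · exact hxA (h' ▸ mem_zpowers _)
    rw [hKk]
    interval_cases k <;> omega
  have hN1 : 40 ≤ Nat.card (inv1 K1) := by
    have h1 := count_outside hz1 hzz R hxR hxx (fun y _ => (hzall y).eq) (hcomm x hxR)
    rw [← hK1, hS72, hK1c, hR] at h1
    omega
  obtain ⟨y, ⟨hyK, hyy⟩, hyA⟩ : ∃ y ∈ inv1 K1, y ∉ A1 := by
    by_contra hno
    push Not at hno
    have h2 : Nat.card (inv1 K1) ≤ Nat.card A1 :=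
      Nat.card_le_card_of_injective (fun y => ⟨y.1, hno y.1 y.2⟩)
        (fun a b h => Subtype.ext (congrArg (fun t : ↥A1 => (t : ↥(centralizer ({z} : Set G)))) h))
    omega
  have hcA1 : ∀ t, Commute x t → ∀ a ∈ A1, Commute a t := by
    intro t ht a ha
    have hz' : ∀ b ∈ zpowers zc, Commute b t := fun b hb => by
      rcases eq_of_mem_zpowers hzz hb with rfl | rfl
      · exact Commute.one_left t
      · exact hzall t
    rcases (hA1m a).1 ha with h' | h'
    · exact hz' a h'
    · have := (hz' _ h').mul_left ht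
      rwa [mul_assoc, hxx, mul_one] at this
  obtain ⟨A2, hA2, hA2c, hA2m⟩ := extend hA1 hyy hyA (hcA1 y (commute_of_mem hyK.2))
  set K2 := K1 ⊓ centralizer ({y} : Set _) with hK2
  have hN2 : 8 < Nat.card (inv1 K2) := by
    have h1 := count_outside hz1 hzz K1 hyK hyy (fun w _ => (hzall w).eq)
      (fun w hw => hcomm y hyK.1 w hw.1)
    have h2 := card_le_two_mul (z := zc) (x := y) K1 (fun w hw => hcomm y hyK.1 w hw.1)
    rw [← hK2, hK1c] at h1 h2
    omega
  obtain ⟨w, ⟨hwK, hww⟩, hwA⟩ : ∃ w ∈ inv1 K2, w ∉ A2 := by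
    by_contra hno
    push Not at hno
    have h2 : Nat.card (inv1 K2) ≤ Nat.card A2 :=
      Nat.card_le_card_of_injective (fun y => ⟨y.1, hno y.1 y.2⟩)
        (fun a b h => Subtype.ext (congrArg (fun t : ↥A2 => (t : ↥(centralizer ({z} : Set G)))) h))
    omega
  have hcA2 : ∀ a ∈ A2, Commute a w := by
    intro a ha
    rcases (hA2m a).1 ha with h' | h'
    · exact hcA1 w (commute_of_mem hwK.1.2) a h'
    · have := (hcA1 w (commute_of_mem hwK.1.2) _ h').mul_left (commute_of_mem hwK.2)
      rwa [mul_assoc, hyy, mul_one] at this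
  obtain ⟨A3, hA3, hA3c, hA3m⟩ := extend hA2 hww hwA hcA2
  have hleR : A3 ≤ R := by
    intro a ha
    have hA1R : ∀ b ∈ A1, b ∈ R := fun b hb => by
      rcases (hA1m b).1 hb with h' | h'
      · exact zpowers_le.2 hzR h'
      · exact (mul_mem_cancel_right hxR).1 (zpowers_le.2 hzR h')
    have hA2R : ∀ b ∈ A2, b ∈ R := fun b hb => by
      rcases (hA2m b).1 hb with h' | h'
      · exact hA1R b h'
      · exact (mul_mem_cancel_right (show y ∈ R from hyK.1)).1 (hA1R _ h')
    rcases (hA3m a).1 ha with h' | h'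
    · exact hA2R a h'
    · exact (mul_mem_cancel_right (show w ∈ R from hwK.1.1)).1 (hA2R _ h')
  refine ⟨A3.subgroupOf R, ⟨⟨⟨fun a b => ?_⟩⟩, fun a ha => ?_⟩, ?_⟩
  · refine Subtype.ext (Subtype.ext ?_)
    have hinv : ∀ c : A3.subgroupOf R, ((c : R) : ↥(centralizer ({z} : Set G)))⁻¹ = (c : R) :=
      fun c => inv_eq_of_mul_eq_one_right (hA3 _ c.2)
    show ((a : R) : ↥(centralizer ({z} : Set G))) * (b : R) = (b : R) * (a : R)
    have hab : ((a : R) : ↥(centralizer ({z} : Set G))) * (b : R) ∈ A3 :=
      mul_mem (mem_subgroupOf.1 a.2) (mem_subgroupOf.1 b.2)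
    have h := inv_eq_of_mul_eq_one_right (hA3 _ hab)
    rw [mul_inv_rev, hinv, hinv] at h
    exact h.symm
  · exact Subtype.ext (by rw [pow_two]; exact hA3 _ ha)
  · rw [Nat.card_congr (subgroupOfEquivOfLe hleR).toEquiv, hA3c, hA2c, hA1c]
    norm_num

end CfsgLib.M24Nse
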