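import Cfsg.Agent.Lib.M24Nse.FiveTools

/-!
# S3596, piece P6: tools

Elements of square one in a 2-group whose commutators and squares lie in a central subgroup of
order two.
-/

set_option autoImplicit false
set_option linter.unusedSectionVars false
set_option linter.style.haveILetI false

namespace CfsgLib.M24Nse.Extra

open Subgroup CfsgLib.M24Nse.Five

universe u

variable {H : Type u} [Group H]

/-- the powers of two between 1 and 128 that are 2 modulo 7 -/
theorem two_pow_seven {k : ℕ} (hk : k ≤ 7) (h : 2 ^ k % 7 = 2) :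
    2 ^ k = 2 ∨ 2 ^ k = 16 ∨ 2 ^ k = 128 := by
  interval_cases k <;> norm_num at *

theorem eq_of_mem_zpowers {z x : H} (hzz : z * z = 1) (h : x ∈ zpowers z) : x = 1 ∨ x = z := by
  obtain ⟨i, rfl⟩ := mem_zpowers_iff.1 h
  have h2 : z ^ (2 : ℤ) = 1 := by rw [show (2 : ℤ) = 1 + 1 by norm_num, zpow_add, zpow_one, hzz]
  rcases Int.even_or_odd' i with ⟨m, rfl | rfl⟩
  · exact Or.inl (by rw [zpow_mul, h2, one_zpow])
  · exact Or.inr (by rw [zpow_add, zpow_mul, h2, one_zpow, one_mul, zpow_one])

/-- a power prime to the order commutes with what the element commutes with -/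
theorem commute_of_pow {p a : H} {q n : ℕ} (hq : q.Prime) (hp : orderOf p = q) (hn : ¬ q ∣ n)
    (h : Commute (p ^ n) a) : Commute p a := by
  obtain ⟨m, hm⟩ := exists_pow_eq_self_of_coprime (x := p) (n := n)
    (by rw [hp]; exact ((hq.coprime_iff_not_dvd).2 hn).symm)
  exact hm ▸ h.pow_left m

/-- two powers, less than the order, with one conjugate of `a` -/
theorem pow_conj_inj {p a : H} {q : ℕ} (hq : q.Prime) (hp : orderOf p = q) (h : ¬ Commute p a)
    {i j : ℕ} (hi : i < q) (hj : j < q) (hij : p ^ i * a * (p ^ i)⁻¹ = p ^ j * a * (p ^ j)⁻¹) :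
    i = j := by
  have key : ∀ i j : ℕ, i ≤ j → j < q →
      p ^ i * a * (p ^ i)⁻¹ = p ^ j * a * (p ^ j)⁻¹ → i = j := by
    intro i j hle hj hij
    by_contra hne
    refine h (commute_of_pow hq hp (n := j - i)
      (Nat.not_dvd_of_pos_of_lt (by omega) (by omega)) ?_)
    refine commute_of_conj_eq ?_
    rw [show j = i + (j - i) by omega, pow_add] at hij
    calc p ^ (j - i) * a * (p ^ (j - i))⁻¹
        = (p ^ i)⁻¹ * (p ^ i * p ^ (j - i) * a * (p ^ i * p ^ (j - i))⁻¹) * p ^ i := by group
      _ = a := by rw [← hij]; group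
  rcases le_total i j with hle | hle
  · exact key i j hle hj hij
  · exact (key j i hle hi hij.symm).symm

variable [Finite H]

/-- fixed points of an element of prime order on an invariant set -/
theorem set_modEq {p : ℕ} [Fact p.Prime] {x : H} (hx : orderOf x = p) (S : Set H)
    (hS : ∀ g ∈ S, x * g * x⁻¹ ∈ S) :
    Nat.card S ≡ Nat.card {g : H // g ∈ S ∧ Commute x g} [MOD p] := by
  have hmem : ∀ q ∈ zpowers x, ∀ g ∈ S, q * g * q⁻¹ ∈ S := by
    intro q hq
    obtain ⟨n, rfl⟩ := mem_powers_iff_mem_zpowers.2 hq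
    clear hq
    induction n with
    | zero => simp
    | succ n ih =>
      intro g hg
      have h := hS _ (ih g hg)
      simpa [pow_succ', mul_assoc] using h
  let _ : MulAction (zpowers x) S :=
    { smul := fun q g => ⟨(q : H) * g.1 * (q : H)⁻¹, hmem q q.2 g g.2⟩
      one_smul := fun g => Subtype.ext (show (1 : H) * g.1 * (1 : H)⁻¹ = g.1 by simp)
      mul_smul := fun q r g => Subtype.ext
        (show (q : H) * r * g.1 * ((q : H) * r)⁻¹ = q * (r * g.1 * (r : H)⁻¹) * (q : H)⁻¹ by
          group) }
  have hP : IsPGroup p (zpowers x) :=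
    IsPGroup.of_card (n := 1) (by rw [Nat.card_zpowers, hx, pow_one])
  refine (hP.card_modEq_card_fixedPoints _).trans ?_
  rw [Nat.card_congr (α := MulAction.fixedPoints (zpowers x) S)
    (β := {g : H // g ∈ S ∧ Commute x g})
    { toFun := fun g => ⟨g.1.1, g.1.2,
        commute_of_conj_eq (congrArg Subtype.val (g.2 ⟨x, mem_zpowers x⟩) :)⟩
      invFun := fun g => ⟨⟨g.1, g.2.1⟩, fun q => Subtype.ext (by
        obtain ⟨n, hn⟩ := mem_zpowers_iff.1 q.2
        show (q : H) * g.1 * (q : H)⁻¹ = g.1
        rw [← hn]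
        exact mul_inv_eq_iff_eq_mul.2 (g.2.2.zpow_left n).eq)⟩
      left_inv := fun _ => rfl
      right_inv := fun _ => rfl }]

/-- the elements of a subgroup with square one -/
def inv1 (K : Subgroup H) : Set H := {g | g ∈ K ∧ g * g = 1}

/-- the centraliser of an element with all commutators in `{1, z}` has index at most two -/
theorem card_le_two_mul {z x : H} (K : Subgroup H)
    (hc : ∀ y ∈ K, x * y = y * x ∨ x * y = y * x * z) :
    Nat.card K ≤ 2 * Nat.card ↥(K ⊓ centralizer ({x} : Set H)) := by
  classical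
  by_cases h : K ≤ centralizer ({x} : Set H)
  · rw [inf_eq_left.2 h]; omega
  obtain ⟨r, hr, hrx⟩ := SetLike.not_le_iff_exists.1 h
  have hr1 : x * r = r * x * z := (hc r hr).resolve_left fun e => hrx (mem_of_commute e)
  have hmul : ∀ y ∈ K, y ∉ centralizer ({x} : Set H) → r * y ∈ centralizer ({x} : Set H) := by
    intro y hy hyx
    have hy1 : x * y = y * x * z := (hc y hy).resolve_left fun e => hyx (mem_of_commute e)
    rcases hc (r * y) (mul_mem hr hy) with e | e
    · exact mem_of_commute e
    · exfalso
      have e3 : x * (r * y) = r * (x * z * y) := by rw [← mul_assoc, hr1]; group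
      have e4 : r * (y * x * z) = r * (x * z * y) := by rw [← e3, e]; group
      have e5 : x * z * y = y * x * z := (mul_left_cancel e4).symm
      rw [← hy1] at e5
      have e6 : z * y = y := mul_left_cancel (a := x) (by rw [← mul_assoc, e5])
      have hz1 : z = 1 := mul_eq_right.1 e6
      exact hyx (mem_of_commute (show x * y = y * x by rw [hy1, hz1, mul_one]))
  let F : ↥K → ↥(K ⊓ centralizer ({x} : Set H)) × Bool := fun y =>
    if hy : (y : H) ∈ centralizer ({x} : Set H) then (⟨y, y.2, hy⟩, false)
    else (⟨r * y, mul_mem hr y.2, hmul y y.2 hy⟩, true)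
  have hF : Function.Injective F := by
    intro a b hab
    simp only [F] at hab
    split_ifs at hab with ha hb hb <;>
      simp only [Prod.mk.injEq, Bool.false_eq_true, Bool.true_eq_false,
        and_false, and_true] at hab
    · exact Subtype.ext (congrArg (fun t : ↥(K ⊓ centralizer ({x} : Set H)) => (t : H)) hab)
    · exact Subtype.ext (mul_left_cancel (congrArg (fun t : ↥(K ⊓ centralizer ({x} : Set H)) => (t : H)) hab))
  have := Nat.card_le_card_of_injective F hF
  rw [Nat.card_prod, Nat.card_eq_fintype_card (α := Bool), Fintype.card_bool] at this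
  omega

/-- multiplication by an involution exchanges squares outside its centraliser -/
theorem count_outside {z x : H} (hz : z ≠ 1) (hzz : z * z = 1) (K : Subgroup H) (hxK : x ∈ K)
    (hx : x * x = 1) (hzc : ∀ y ∈ K, z * y = y * z)
    (hc : ∀ y ∈ K, x * y = y * x ∨ x * y = y * x * z) :
    2 * Nat.card (inv1 K) + Nat.card ↥(K ⊓ centralizer ({x} : Set H)) ≤
      2 * Nat.card (inv1 (K ⊓ centralizer ({x} : Set H))) + Nat.card K := by
  classical
  have hout : ∀ y ∈ K, y ∉ centralizer ({x} : Set H) → y * y = 1 →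
      x * y ∈ K ∧ x * y ∉ centralizer ({x} : Set H) ∧ x * y * (x * y) ≠ 1 := by
    intro y hy hyx h1
    refine ⟨mul_mem hxK hy, fun h => hyx ?_, fun h => ?_⟩
    · have h2 := mul_mem (inv_mem (mem_of_commute (Commute.refl x))) h
      rwa [inv_mul_cancel_left] at h2
    · have hy1 : x * y = y * x * z := (hc y hy).resolve_left fun e => hyx (mem_of_commute e)
      refine hz ?_
      calc z = y * y * z := by rw [h1, one_mul]
        _ = y * (x * x) * (z * y) := by rw [hx, mul_one, hzc y hy, mul_assoc]
        _ = y * x * (x * z * y) := by group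
        _ = y * x * z * z * (x * z * y) := by rw [mul_assoc (y * x) z z, hzz, mul_one]
        _ = x * y * (z * x * z * y) := by rw [← hy1]; group
        _ = x * y * (x * (z * z) * y) := by rw [hzc x hxK]; group
        _ = 1 := by rw [hzz, mul_one, h]
  let F : ↥(inv1 K) ⊕ ↥(inv1 K) ⊕ ↥(K ⊓ centralizer ({x} : Set H)) →
      ↥(inv1 (K ⊓ centralizer ({x} : Set H))) ⊕ ↥(inv1 (K ⊓ centralizer ({x} : Set H))) ⊕ ↥K :=
    Sum.elim
      (fun y => if hy : (y : H) ∈ centralizer ({x} : Set H) then Sum.inl ⟨y, ⟨y.2.1, hy⟩, y.2.2⟩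
        else Sum.inr (Sum.inr ⟨y, y.2.1⟩))
      (Sum.elim
        (fun y => if hy : (y : H) ∈ centralizer ({x} : Set H) then
          Sum.inr (Sum.inl ⟨y, ⟨y.2.1, hy⟩, y.2.2⟩) else Sum.inr (Sum.inr ⟨x * y, mul_mem hxK y.2.1⟩))
        (fun y => Sum.inr (Sum.inr ⟨y, y.2.1⟩)))
  have hF : Function.Injective F := by
    rintro (a | a | a) (b | b | b) hab <;> simp only [F, Sum.elim_inl, Sum.elim_inr] at hab <;>
      (try split_ifs at hab) <;>
      simp only [Sum.inl.injEq, Sum.inr.injEq, reduceCtorEq] at hab
    all_goals have h' := congrArg Subtype.val hab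
    all_goals dsimp only at h'
    all_goals first
      | exact congrArg Sum.inl (Subtype.ext h')
      | exact congrArg (fun t => Sum.inr (Sum.inl t)) (Subtype.ext h')
      | exact congrArg (fun t => Sum.inr (Sum.inl t)) (Subtype.ext (mul_left_cancel h'))
      | exact congrArg (fun t => Sum.inr (Sum.inr t)) (Subtype.ext h')
      | (exfalso; refine (hout b.1 b.2.1 ?_ b.2.2).2.2 ?_; assumption; rw [← h']; exact a.2.2)
      | (exfalso; refine (hout a.1 a.2.1 ?_ a.2.2).2.2 ?_; assumption; rw [h']; exact b.2.2)
      | (exfalso; refine (hout a.1 a.2.1 ?_ a.2.2).2.1 ?_; assumption; rw [h']; exact b.2.2)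
      | (exfalso; refine (hout b.1 b.2.1 ?_ b.2.2).2.1 ?_; assumption; rw [← h']; exact a.2.2)
      | (exfalso; have h2 := b.2.2; rw [← h'] at h2; contradiction)
      | (exfalso; have h2 := a.2.2; rw [h'] at h2; contradiction)
  have := Nat.card_le_card_of_injective F hF
  simp only [Nat.card_sum] at this
  omega

/-- an elementary abelian subgroup with one more commuting involution -/
theorem extend {A : Subgroup H} (hA : ∀ a ∈ A, a * a = 1) {t : H} (ht : t * t = 1) (htA : t ∉ A)
    (hc : ∀ a ∈ A, Commute a t) :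
    ∃ B : Subgroup H, (∀ b ∈ B, b * b = 1) ∧ Nat.card B = 2 * Nat.card A ∧
      ∀ b, b ∈ B ↔ b ∈ A ∨ b * t ∈ A := by
  let B : Subgroup H :=
    { carrier := {b | b ∈ A ∨ b * t ∈ A}
      one_mem' := Or.inl (one_mem A)
      mul_mem' := fun {a b} ha hb => by
        rcases ha with ha | ha <;> rcases hb with hb | hb
        · exact Or.inl (mul_mem ha hb)
        · exact Or.inr (by rw [mul_assoc]; exact mul_mem ha hb)
        · refine Or.inr ?_
          rw [mul_assoc, (hc b hb).eq, ← mul_assoc]
          exact mul_mem ha hb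
        · refine Or.inl ?_
          have hbt : Commute (b * t) t := hc _ hb
          have h : a * b = a * t * (b * t) := by
            rw [mul_assoc a t, ← hbt.eq, mul_assoc b t t, ht, mul_one]
          rw [h]
          exact mul_mem ha hb
      inv_mem' := fun {a} ha => by
        rcases ha with ha | ha
        · exact Or.inl (inv_mem ha)
        · refine Or.inr ?_
          have e : a = a * t * t := by rw [mul_assoc, ht, mul_one]
          have h : a⁻¹ * t = (a * t)⁻¹ := by
            conv_lhs => rw [e]
            rw [mul_inv_rev, mul_assoc, ((hc _ ha).inv_left).eq, inv_mul_cancel_left]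
          rw [h]
          exact inv_mem ha }
  refine ⟨B, ?_, ?_, fun b => Iff.rfl⟩
  · rintro b (hb | hb)
    · exact hA b hb
    · have e : b = b * t * t := by rw [mul_assoc, ht, mul_one]
      rw [e, (hc _ hb).symm.mul_mul_mul_comm, hA _ hb, ht, one_mul]
  · have e : ↥B ≃ ↥A ⊕ ↥A := by
      classical
      exact
        { toFun := fun b => if hb : (b : H) ∈ A then Sum.inl ⟨b, hb⟩
            else Sum.inr ⟨(b : H) * t, b.2.resolve_left hb⟩
          invFun := Sum.elim (fun a => ⟨a, Or.inl a.2⟩)
            (fun a => ⟨(a : H) * t, Or.inr (by rw [mul_assoc, ht, mul_one]; exact a.2)⟩)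
          left_inv := fun b => by
            by_cases hb : (b : H) ∈ A
            · simp [hb]
            · simp [hb, mul_assoc, ht]
          right_inv := fun a => by
            rcases a with a | a
            · simp
            · have hna : ¬ (a : H) * t ∈ A := fun h => htA (by
                simpa using mul_mem (inv_mem a.2) h)
              simp [hna, mul_assoc, ht] }
    rw [Nat.card_congr e, Nat.card_sum]
    omega

end CfsgLib.M24Nse.Extra
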