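import Cfsg.Agent.Lib.Small.SmallOrder
import Cfsg.Agent.Lib.Small.InvertedColumn
import Cfsg.Agent.Lib.Small.OrderTools
import Cfsg.Agent.S1001

/-!
# There is no simple group of order 11520

The column of an element `u` of order five, which generates its centraliser and has all its
powers conjugate, against the column of an involution `z` inverting it and that of an involution
`x` in the centre of a Sylow 2-subgroup.
-/

set_option autoImplicit false
set_option linter.unusedSectionVars false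
set_option linter.style.haveILetI false
open Cfsg CfsgLib CfsgLib.Chars CfsgLib.CharApps Subgroup

namespace CfsgLib.M24Nse.Order11520

open CfsgLib.Small (signedCands)

/-- the possible signed degrees -/
def degs : List ℤ := [-4, 6, -9, 16, -24, 36, -64, 96]

theorem cands_five : ∀ s ∈ signedCands 11520 5, s ∈ degs := by
  decide +kernel

/-- the possible signed values at the inverting involution for a given signed degree -/
def rs (s : ℤ) : List ℤ :=
  ((List.range 41).map fun i : ℕ => (i : ℤ) - 20).filter fun r =>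
    (s - r) % 4 == 0 && decide (5 * r.natAbs ≤ (s + 4).natAbs)

/-- the one solution -/
def sol : List (ℤ × ℤ) := [(-64, 0), (-9, -1), (36, -4), (36, 4)]

/-- one quadruple -/
def quadOK (a b c d : ℤ × ℤ) : Bool :=
  let P := a.1 * b.1 * c.1 * d.1
  let X := 2304 * (P + a.2 ^ 2 * (b.1 * c.1 * d.1) + b.2 ^ 2 * (a.1 * c.1 * d.1) +
    c.2 ^ 2 * (a.1 * b.1 * d.1) + d.2 ^ 2 * (a.1 * b.1 * c.1))
  let m := 1 + a.2 ^ 2 + b.2 ^ 2 + c.2 ^ 2 + d.2 ^ 2
  [4, 8, 12, 16, 24, 32, 36, 48, 64, 72, 96, 128, 144, 192, 256, 288, 384, 576, 768, 1152, 2304,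
      1, 2, 3, 6, 9, 18].all fun n : ℕ =>
    !(decide (m ≤ (n : ℤ)) && decide ((n : ℤ) ^ 2 * P = X)) ||
      (n == 64 && sol.all fun q => [a, b, c, d].elem q)

/-- all the quadruples -/
def allOK : Bool :=
  degs.all fun sa => degs.all fun sb => degs.all fun sc =>
    let sd := -1 - sa - sb - sc
    !degs.elem sd || (rs sa).all fun ra => (rs sb).all fun rb => (rs sc).all fun rc =>
      let rd := -1 - ra - rb - rc
      !(rs sd).elem rd || quadOK (sa, ra) (sb, rb) (sc, rc) (sd, rd)

theorem all_ok : allOK = true := by decide +kernel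

theorem mem_rs {s r : ℤ} (hs : s ∈ degs) (h4 : (4 : ℤ) ∣ s - r)
    (hr : 5 * r.natAbs ≤ (s + 4).natAbs) : r ∈ rs s := by
  have hb : -20 ≤ r ∧ r ≤ 20 := by
    simp only [degs, List.mem_cons, List.not_mem_nil, or_false] at hs
    omega
  refine List.mem_filter.2 ⟨List.mem_map.2 ⟨(r + 20).toNat, List.mem_range.2 (by omega), by omega⟩, ?_⟩
  simp only [Bool.and_eq_true, beq_iff_eq, decide_eq_true_eq]
  exact ⟨Int.emod_eq_zero_of_dvd h4, hr⟩

theorem no_quad {a b c d : ℤ × ℤ} (ha : a.1 ∈ degs) (ha' : a.2 ∈ rs a.1) (hb : b.1 ∈ degs)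
    (hb' : b.2 ∈ rs b.1) (hc : c.1 ∈ degs) (hc' : c.2 ∈ rs c.1) (hd : d.1 ∈ degs)
    (hd' : d.2 ∈ rs d.1) (hs : a.1 + b.1 + c.1 + d.1 = -1) (hr : a.2 + b.2 + c.2 + d.2 = -1)
    {n : ℕ} (hnd : n ∣ 2304) (hn : 1 + a.2 ^ 2 + b.2 ^ 2 + c.2 ^ 2 + d.2 ^ 2 ≤ (n : ℤ))
    (heq : (n : ℤ) ^ 2 * (a.1 * b.1 * c.1 * d.1) =
      2304 * (a.1 * b.1 * c.1 * d.1 + a.2 ^ 2 * (b.1 * c.1 * d.1) + b.2 ^ 2 * (a.1 * c.1 * d.1) +
        c.2 ^ 2 * (a.1 * b.1 * d.1) + d.2 ^ 2 * (a.1 * b.1 * c.1))) :
    n = 64 ∧ ∀ q ∈ sol, q ∈ [a, b, c, d] := by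
  have h := all_ok
  simp only [allOK, List.all_eq_true] at h
  have h1 := h _ ha _ hb _ hc
  rw [show -1 - a.1 - b.1 - c.1 = d.1 by omega] at h1
  simp only [List.elem_eq_mem, hd, decide_true, Bool.not_true, Bool.false_or,
    List.all_eq_true] at h1
  have h2 := h1 _ ha' _ hb' _ hc'
  rw [show -1 - a.2 - b.2 - c.2 = d.2 by omega] at h2
  simp only [hd', decide_true, Bool.not_true, Bool.false_or, quadOK, List.all_eq_true,
    Prod.mk.eta] at h2
  have hmem : n ∈ [4, 8, 12, 16, 24, 32, 36, 48, 64, 72, 96, 128, 144, 192, 256, 288, 384, 576,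
      768, 1152, 2304, 1, 2, 3, 6, 9, 18] := by
    have := Nat.mem_divisors.2 ⟨hnd, (by norm_num : (2304 : ℕ) ≠ 0)⟩
    revert this
    generalize n = k
    revert k
    decide +kernel
  have h3 := h2 n hmem
  simpa [hn, heq] using h3

theorem sol_values {qB qC qD : ℤ} (h1 : 1 + qB + qC + qD = 0) (h2 : 9 + qB - qC + qD = 0)
    (h3 : 36 - 4 * qB ^ 2 + qC ^ 2 + qD ^ 2 = 0) : qB = 7 ∧ qC = 4 ∧ qD = -12 := by
  have hC : qC = 4 := by omega
  have hD : qD = -5 - qB := by omega
  subst hC hD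
  have h : (qB - 7) * (3 * qB + 11) = 0 := by nlinarith
  rcases mul_eq_zero.1 h with h | h <;> omega

variable {G : Type*} [Group G] [Finite G] [IsSimpleGroup G]

theorem ne_11520 (hG : ¬ IsMulCommutative G) : Nat.card G ≠ 11520 := by
  classical
  intro h
  have := Fact.mk Nat.prime_five
  have := Fact.mk Nat.prime_two
  obtain ⟨P⟩ : Nonempty (Sylow 5 G) := inferInstance
  have hP : Nat.card (P : Subgroup G) = 5 := by
    simpa using Small.card_sylow_eq (p := 5) 1 2304 (by omega) (by norm_num) P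
  obtain ⟨e, he1, he4, hce⟩ := Small.exists_normalizer_centralizer hG P hP
  have hmul := Small.card_normalizer_mul P
  have hcent : ∀ u : G, orderOf u = 5 → centralizer ({u} : Set G) = zpowers u :=
    fun u hu => Cfsg.Agent.S1001.result (G := G) 5 2 8 Nat.prime_five (by rw [h]; norm_num) u hu
  obtain ⟨u0, hu0⟩ := exists_prime_orderOf_dvd_card' (G := (P : Subgroup G)) 5 (by rw [hP])
  have hgen0 : zpowers (u0 : G) = (P : Subgroup G) := eq_of_le_of_card_ge (zpowers_le.2 u0.2)
    (by rw [Nat.card_zpowers, Subgroup.orderOf_coe, hu0, hP])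
  have hk1 : Nat.card (centralizer ((P : Subgroup G) : Set G)) = 5 := by
    rw [← hgen0, zpowers_eq_closure, centralizer_closure, hcent _ (by rw [Subgroup.orderOf_coe, hu0]),
      Nat.card_zpowers, Subgroup.orderOf_coe, hu0]
  set n5 := Nat.card (Sylow 5 G) with hn5
  rw [← hce, h, hk1] at hmul
  have hmod : n5 % 5 = 1 := Eq.trans (card_sylow_modEq_one 5 G) (Nat.mod_eq_of_lt (by norm_num))
  have he : e = 4 := by
    have := Nat.le_of_dvd (by norm_num) he4
    rcases (by omega : e = 1 ∨ e = 2 ∨ e = 3 ∨ e = 4) with rfl | rfl | rfl | rfl <;>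
      ring_nf at hmul <;> omega
  subst he
  obtain ⟨g, hg⟩ := (isCyclic_of_prime_card hP).exists_generator
  set u : G := (g : G) with hu
  have huo : orderOf u = 5 := by
    rw [hu, Subgroup.orderOf_coe, orderOf_eq_card_of_forall_mem_zpowers hg, hP]
  have hu5 : u ^ 5 = 1 := by rw [← huo, pow_orderOf_eq_one]
  have hgen : (P : Subgroup G) = zpowers u :=
    (eq_of_le_of_card_ge (zpowers_le.mpr g.2) (by rw [Nat.card_zpowers, huo, hP])).symm
  have hCu : centralizer ({u} : Set G) = zpowers u := hcent u huo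
  obtain ⟨w, hwN, hw⟩ := Small.exists_conj_eq_pow_of_full P hP hce g.2 (j := 2) (by norm_num)
    (by norm_num)
  change w * u * w⁻¹ = u ^ 2 at hw
  have hrat : ∀ j < 5, j ≠ 0 → IsConj (u ^ j) u := fun j hj hj0 => by
    obtain ⟨x, -, hx⟩ := Small.exists_conj_eq_pow_of_full P hP hce g.2 hj hj0
    exact (isConj_iff.mpr ⟨x, hx⟩).symm
  set z := w * w with hz
  have hinv : z * u * z⁻¹ = u⁻¹ := by
    rw [hz, show w * w * u * (w * w)⁻¹ = w * (w * u * w⁻¹) * w⁻¹ by group, hw, ← conj_pow, hw,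
      ← pow_mul]
    exact eq_inv_of_mul_eq_one_left (by rw [← pow_succ, hu5])
  have hzz : z * z = 1 := by
    have h4 : z * z ∈ centralizer ({u} : Set G) := by
      rw [mem_centralizer_singleton_iff]
      have h1 : z * z * u * (z * z)⁻¹ = u := by
        rw [show z * z * u * (z * z)⁻¹ = z * (z * u * z⁻¹) * z⁻¹ by group, hinv, ← inv_inj,
          show (z * u⁻¹ * z⁻¹)⁻¹ = z * u * z⁻¹ by group, hinv]
      exact mul_inv_eq_iff_eq_mul.mp h1
    rw [hCu] at h4
    obtain ⟨i, hi⟩ := h4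
    change u ^ i = z * z at hi
    have h1 : z * (z * z) * z⁻¹ = z * z := by group
    rw [← hi, ← conj_zpow, hinv, inv_zpow] at h1
    rw [← hi]
    have h2 : u ^ (2 * i) = 1 := by rw [two_mul, zpow_add]; nth_rw 1 [← h1]; simp
    rw [← orderOf_dvd_iff_zpow_eq_one, huo] at h2
    rw [← orderOf_dvd_iff_zpow_eq_one, huo]
    push_cast at h2 ⊢
    omega
  have hz1 : z ≠ 1 := by
    intro h'
    rw [h', one_mul, inv_one, mul_one, eq_inv_iff_mul_eq_one, ← sq] at hinv
    have := orderOf_dvd_of_pow_eq_one hinv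
    rw [huo] at this
    norm_num at this
  haveI := Fintype.ofFinite G
  haveI := irrFintype G
  choose v hv hv5 using fun χ : IrrCharacter G => exists_int_of_rational χ huo hrat
  choose t ht using fun χ : IrrCharacter G => exists_int_apply_involution hzz χ
  have hcf := fun χ : IrrCharacter G => isClassFunction_irr χ
  have hprin1 : charDegree ((principal G : IrrCharacter G) : G → ℂ) = 1 :=
    (deg_eq_one_iff (principal G)).mp (principal_apply _)
  have hvp : v (principal G) = 1 := by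
    have h1 := hv (principal G)
    rw [principal_apply] at h1
    exact_mod_cast h1
  have htp : t (principal G) = 1 := by
    have h1 := ht (principal G)
    rw [principal_apply] at h1
    exact_mod_cast h1
  -- column relations
  have hcol : ∑ χ, v χ ^ 2 = 5 := by
    have h1 := sum_normSq (G := G) u
    simp only [← hv, Complex.normSq_intCast, hCu, Nat.card_zpowers, huo] at h1
    have h2 : ((∑ χ : IrrCharacter G, v χ ^ 2 : ℤ) : ℝ) = ((5 : ℤ) : ℝ) := by
      rw [Int.cast_sum]
      simp only [pow_two, Int.cast_mul]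
      rw [h1]
      norm_num
    exact Int.cast_injective h2
  have hdeg : ∑ χ, v χ * charDegree (χ : G → ℂ) = 0 := by
    have h1 := sum_degree_mul (G := G) u
    rw [if_neg (fun h' => by rw [h', orderOf_one] at huo; omega)] at h1
    simp only [← hv, deg_eq] at h1
    apply Int.cast_injective (α := ℂ)
    push_cast
    rw [← h1]
    exact Finset.sum_congr rfl fun χ _ => mul_comm _ _
  have hzcol : ∑ χ, v χ * t χ = 0 := by
    have h1 := second_orthogonality (G := G) u z
    rw [if_neg (fun h' => by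
      obtain ⟨x, hx⟩ := isConj_iff.mp h'
      have := congrArg orderOf hx
      rw [← MulAut.conj_apply, MulEquiv.orderOf_eq, huo,
        orderOf_eq_prime (by rw [sq, hzz]) hz1] at this
      omega)] at h1
    simp only [← hv, ← ht, map_intCast] at h1
    exact_mod_cast h1
  have hne0 : ∀ χ : IrrCharacter G, v χ ≠ 0 → v χ = 1 ∨ v χ = -1 := by
    intro χ hχ0
    by_contra hc
    have h4 : 4 ≤ v χ ^ 2 := by
      rcases not_or.mp hc with ⟨h1, h2⟩
      rcases (by omega : 2 ≤ v χ ∨ v χ ≤ -2) with h3 | h3 <;> nlinarith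
    have hχp : χ ≠ principal G := fun h' => hc (Or.inl (h' ▸ hvp))
    have hsub : ∀ ψ, ψ ≠ χ → ψ ≠ principal G → v ψ = 0 := by
      intro ψ h1 h2
      have h3 : ∑ x ∈ ({principal G, χ, ψ} : Finset (IrrCharacter G)), v x ^ 2 ≤ ∑ x, v x ^ 2 :=
        Finset.sum_le_sum_of_subset_of_nonneg (Finset.subset_univ _) fun _ _ _ => sq_nonneg _
      rw [hcol, Finset.sum_insert (by simp [Ne.symm hχp, Ne.symm h2]),
        Finset.sum_pair (Ne.symm h1), hvp] at h3
      nlinarith [sq_nonneg (v ψ)]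
    have h5 : ∑ x, v x * (charDegree (x : G → ℂ) : ℤ) =
        ∑ x ∈ ({principal G, χ} : Finset (IrrCharacter G)), v x * (charDegree (x : G → ℂ) : ℤ) := by
      refine (Finset.sum_subset (Finset.subset_univ _) fun ψ _ hψ => ?_).symm
      simp only [Finset.mem_insert, Finset.mem_singleton, not_or] at hψ
      rw [hsub ψ hψ.2 hψ.1, zero_mul]
    rw [hdeg, Finset.sum_pair (Ne.symm hχp), hvp, hprin1] at h5
    have hd0 := CfsgLib.Blocks.charDegree_pos χ
    have hd1 : (1 : ℤ) ≤ charDegree (χ : G → ℂ) := by exact_mod_cast hd0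
    exact hc (Int.isUnit_iff.mp (isUnit_of_dvd_one ⟨-(charDegree (χ : G → ℂ) : ℤ), by push_cast at h5; linear_combination -h5⟩))
  set F := Finset.univ.filter fun χ : IrrCharacter G => v χ ≠ 0 with hF
  have hFsum : ∀ φ : IrrCharacter G → ℤ, ∑ χ, v χ * φ χ = ∑ χ ∈ F, v χ * φ χ := by
    intro φ
    refine (Finset.sum_subset (Finset.subset_univ _) fun ψ _ hψ => ?_).symm
    simp only [hF, Finset.mem_filter, Finset.mem_univ, true_and, not_not] at hψ
    rw [hψ, zero_mul]
  have hFc : F.card = 5 := by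
    have h1 : ∑ χ ∈ F, v χ ^ 2 = 5 := by
      have := hFsum v
      simp only [← sq] at this
      rw [← this, hcol]
    rw [Finset.sum_congr rfl (g := fun _ => (1 : ℤ)) fun χ hχ => by
      rcases hne0 χ (Finset.mem_filter.mp hχ).2 with h' | h' <;> simp [h'],
      Finset.sum_const, nsmul_one] at h1
    exact_mod_cast h1
  have hpF : principal G ∈ F := Finset.mem_filter.mpr ⟨Finset.mem_univ _, by rw [hvp]; norm_num⟩
  -- each other member gives a pair of the list
  have hpair : ∀ χ ∈ F.erase (principal G),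
      v χ * (charDegree (χ : G → ℂ) : ℤ) ∈ degs ∧
        v χ * t χ ∈ rs (v χ * (charDegree (χ : G → ℂ) : ℤ)) := by
    intro χ hχ
    obtain ⟨hne, hχF⟩ := Finset.mem_erase.mp hχ
    have hvc := hne0 χ (Finset.mem_filter.mp hχF).2
    have habs : ∀ m : ℤ, (v χ * m).natAbs = m.natAbs := fun m => by
      rcases hvc with h' | h' <;> simp [h']
    have hd1 : 1 < charDegree (χ : G → ℂ) := by
      have h0 := CfsgLib.Blocks.charDegree_pos χ
      by_contra h'
      exact hne (Small.eq_of_degree_one hG (by omega) hprin1)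
    have hmod : v χ * charDegree (χ : G → ℂ) ≡ 1 [ZMOD 5] := by
      have h5 := hv5 χ
      rw [Int.modEq_iff_dvd]
      rcases hvc with h' | h' <;> rw [h'] at h5 ⊢ <;> omega
    have hsqd : charDegree (χ : G → ℂ) ^ 2 < 11520 := by
      rw [← h, ← sum_degree_sq_nat (G := G), ← Finset.add_sum_erase _ _ (Finset.mem_univ χ)]
      have := Finset.single_le_sum (f := fun ψ : IrrCharacter G => charDegree (ψ : G → ℂ) ^ 2)
        (s := Finset.univ.erase χ) (fun _ _ => Nat.zero_le _)
        (Finset.mem_erase.mpr ⟨Ne.symm hne, Finset.mem_univ (principal G)⟩)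
      rw [hprin1, one_pow] at this
      omega
    have hs := cands_five _ (Small.mem_signedCands hmod
      (by rw [habs, Int.natAbs_natCast, ← h]; exact Small.charDegree_dvd_card χ)
      (by rw [habs, Int.natAbs_natCast]; exact hd1)
      (by rw [habs, Int.natAbs_natCast]; exact hsqd))
    have hfour := Small.four_dvd_degree_sub (Small.commutator_eq_top hG) χ hzz (ht χ)
    obtain ⟨a, b, ha, hb⟩ := Small.exists_dihedral_sums χ hu5 hzz hinv
    rw [← Finset.add_sum_erase _ _ (Finset.mem_range.mpr (by norm_num : 0 < 5)), pow_zero, deg_eq,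
      Finset.sum_congr rfl (g := fun _ => (v χ : ℂ)) fun j hj => by
        rw [hv, Blocks.classFun_of_isConj (hcf χ) (hrat j
          (Finset.mem_range.mp (Finset.mem_erase.mp hj).2) (Finset.mem_erase.mp hj).1)]] at ha
    have hcoset : ∀ j, (χ : G → ℂ) (u ^ j * z) = (t χ : ℂ) := by
      intro j
      have hzu : z * (u ^ (3 * j))⁻¹ = u ^ (3 * j) * z := by
        rw [← mul_inv_eq_iff_eq_mul]
        have h9 : z * u ^ (3 * j) * z⁻¹ = (u ^ (3 * j))⁻¹ := by rw [← conj_pow, hinv, inv_pow]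
        simpa [mul_inv_rev, mul_assoc] using congrArg (·⁻¹) h9
      have h8 : u ^ (3 * j) * z * (u ^ (3 * j))⁻¹ = u ^ j * z := by
        rw [mul_assoc, hzu, ← mul_assoc, ← pow_add, show 3 * j + 3 * j = j + 5 * j by ring,
          pow_add, pow_mul, hu5, one_pow, mul_one]
      rw [← h8, ht]
      exact hcf χ z _
    simp only [hcoset, Finset.sum_const, Finset.card_erase_of_mem (Finset.mem_range.mpr
      (by norm_num : 0 < 5)), Finset.card_range, nsmul_eq_mul] at ha hb
    have ha' : (charDegree (χ : G → ℂ) : ℤ) + 4 * v χ = 5 * (a + b) := by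
      apply Int.cast_injective (α := ℂ)
      push_cast
      push_cast at ha
      linear_combination ha
    have hb' : t χ = (a : ℤ) - b := by
      apply Int.cast_injective (α := ℂ)
      push_cast
      exact mul_left_cancel₀ (by norm_num : ((5 : ℕ) : ℂ) ≠ 0) hb
    refine ⟨hs, mem_rs hs ?_ ?_⟩
    · rcases hvc with h' | h' <;> rw [h'] <;> omega
    · rcases hvc with h' | h' <;> rw [h'] at ha' ⊢ <;> omega
  obtain ⟨A0, B0, C0, D0, hAB, hAC, hAD, hBC, hBD, hCD, hABCD⟩ := Finset.card_eq_four.mp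
    (by rw [Finset.card_erase_of_mem hpF, hFc] : (F.erase (principal G)).card = 4)
  have hsplit : ∀ (φ : IrrCharacter G → ℤ), ∑ χ ∈ F, φ χ =
      φ (principal G) + (φ A0 + φ B0 + φ C0 + φ D0) := by
    intro φ
    rw [← Finset.add_sum_erase _ _ hpF, hABCD, Finset.sum_insert (by simp [hAB, hAC, hAD]),
      Finset.sum_insert (by simp [hBC, hBD]), Finset.sum_pair hCD]
    ring
  have hmemE : ∀ x ∈ ({A0, B0, C0, D0} : Finset (IrrCharacter G)), x ∈ F.erase (principal G) := by
    rw [hABCD]; exact fun x hx => hx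
  set n := Nat.card (centralizer ({z} : Set G)) with hn'
  have no_five : ∀ y : G, y * y = 1 → y ≠ 1 →
      ¬ 5 ∣ Nat.card (centralizer ({y} : Set G)) := by
    intro y hy hy1 hd
    obtain ⟨q, hq⟩ := exists_prime_orderOf_dvd_card' (G := centralizer ({y} : Set G)) 5 hd
    have hq5 : orderOf (q : G) = 5 := by rw [Subgroup.orderOf_coe, hq]
    have hyq : y ∈ centralizer ({(q : G)} : Set G) :=
      mem_centralizer_singleton_iff.2 (mem_centralizer_singleton_iff.1 q.2).symm
    rw [hcent _ hq5] at hyq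
    have hd' := Subgroup.orderOf_dvd_natCard _ hyq
    rw [Nat.card_zpowers, hq5, orderOf_eq_prime (by rw [sq, hy]) hy1] at hd'
    norm_num at hd'
  have hn2304 : n ∣ 2304 :=
    (Nat.Coprime.symm (Nat.prime_five.coprime_iff_not_dvd.2 (no_five z hzz hz1))).dvd_of_dvd_mul_left
      (show n ∣ 5 * 2304 by rw [show 5 * 2304 = Nat.card G by rw [h]]; exact card_subgroup_dvd_card _)
  have hbound : 1 + (v A0 * t A0) ^ 2 + (v B0 * t B0) ^ 2 + (v C0 * t C0) ^ 2 +
      (v D0 * t D0) ^ 2 ≤ (n : ℤ) := by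
    have h1 := sum_normSq (G := G) z
    simp only [← ht, Complex.normSq_intCast] at h1
    have h2 : ((∑ χ : IrrCharacter G, t χ ^ 2 : ℤ) : ℝ) = (((n : ℤ)) : ℝ) := by
      rw [Int.cast_sum]
      simp only [pow_two, Int.cast_mul]
      rw [h1, hn']
      norm_num
    rw [← Int.cast_injective h2]
    have h3 : ∑ χ ∈ F, (v χ * t χ) ^ 2 ≤ ∑ χ, t χ ^ 2 := by
      rw [Finset.sum_congr rfl (g := fun χ => t χ ^ 2) fun χ hχ => by
        rcases hne0 χ (Finset.mem_filter.mp hχ).2 with h' | h' <;> simp [h']]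
      exact Finset.sum_le_sum_of_subset_of_nonneg (Finset.subset_univ _) fun _ _ _ => sq_nonneg _
    rw [hsplit, hvp, htp] at h3
    linarith
  -- the terms of a class multiplication
  have hterm : ∀ (a b : IrrCharacter G → ℤ) (χ : IrrCharacter G), χ ∈ F →
      (a χ : ℂ) * (b χ : ℂ) * (v χ : ℂ) / (charDegree (χ : G → ℂ) : ℂ) =
        (((v χ * a χ) * (v χ * b χ) : ℤ) : ℂ) /
          ((v χ * charDegree (χ : G → ℂ) : ℤ) : ℂ) := by
    intro a b χ hχ
    push_cast
    rcases hne0 χ (Finset.mem_filter.mp hχ).2 with h' | h' <;> simp [h', neg_div, div_neg]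
  have hclass : ∀ (y1 y2 : G) (a b : IrrCharacter G → ℤ),
      (∀ χ : IrrCharacter G, (a χ : ℂ) = (χ : G → ℂ) y1) →
      (∀ χ : IrrCharacter G, (b χ : ℂ) = (χ : G → ℂ) y2) →
      (Nat.card {ab : G × G // (ab.1 * y1 * ab.1⁻¹) * (ab.2 * y2 * ab.2⁻¹) = u} : ℂ) =
        11520 * ∑ χ ∈ F, (((v χ * a χ) * (v χ * b χ) : ℤ) : ℂ) /
          ((v χ * charDegree (χ : G → ℂ) : ℤ) : ℂ) := by
    intro y1 y2 a b ha hb
    rw [card_conj_mul_conj y1 y2 u, h]
    simp only [irr_inv, ← hv, ← ha, ← hb, map_intCast, deg_eq]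
    rw [← Finset.sum_subset (Finset.subset_univ F) (fun ψ _ hψ => by
      simp only [hF, Finset.mem_filter, Finset.mem_univ, true_and, not_not] at hψ
      rw [hψ, Int.cast_zero, mul_zero, zero_div]), Nat.cast_ofNat]
    congr 1
    exact Finset.sum_congr rfl fun χ hχ => hterm a b χ hχ
  have hd0 : ∀ χ : IrrCharacter G, χ ∈ F → ((v χ * charDegree (χ : G → ℂ) : ℤ) : ℂ) ≠ 0 :=
    fun χ hχ => Int.cast_ne_zero.mpr (mul_ne_zero (Finset.mem_filter.mp hχ).2
      (Int.natCast_ne_zero.mpr (CfsgLib.Blocks.charDegree_pos χ).ne'))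
  have hmA : ∀ x ∈ ({A0, B0, C0, D0} : Finset (IrrCharacter G)), x ∈ F :=
    fun x hx => Finset.mem_of_mem_erase (hmemE x hx)
  have hkey : (n : ℤ) ^ 2 * ((v A0 * charDegree (A0 : G → ℂ)) * (v B0 * charDegree (B0 : G → ℂ)) *
      (v C0 * charDegree (C0 : G → ℂ)) * (v D0 * charDegree (D0 : G → ℂ))) =
      2304 * ((v A0 * charDegree (A0 : G → ℂ)) * (v B0 * charDegree (B0 : G → ℂ)) *
          (v C0 * charDegree (C0 : G → ℂ)) * (v D0 * charDegree (D0 : G → ℂ)) +
        (v A0 * t A0) ^ 2 * ((v B0 * charDegree (B0 : G → ℂ)) *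
          (v C0 * charDegree (C0 : G → ℂ)) * (v D0 * charDegree (D0 : G → ℂ))) +
        (v B0 * t B0) ^ 2 * ((v A0 * charDegree (A0 : G → ℂ)) *
          (v C0 * charDegree (C0 : G → ℂ)) * (v D0 * charDegree (D0 : G → ℂ))) +
        (v C0 * t C0) ^ 2 * ((v A0 * charDegree (A0 : G → ℂ)) *
          (v B0 * charDegree (B0 : G → ℂ)) * (v D0 * charDegree (D0 : G → ℂ))) +
        (v D0 * t D0) ^ 2 * ((v A0 * charDegree (A0 : G → ℂ)) *
          (v B0 * charDegree (B0 : G → ℂ)) * (v C0 * charDegree (C0 : G → ℂ)))) := by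
    have hpairs := hclass z z t t ht ht
    rw [Small.card_pairs_inverting (by norm_num) huo hCu hzz hinv, ← hn',
      ← Finset.add_sum_erase _ _ hpF, hABCD, Finset.sum_insert (by simp [hAB, hAC, hAD]),
      Finset.sum_insert (by simp [hBC, hBD]), Finset.sum_pair hCD, hvp, htp, hprin1] at hpairs
    have dA := hd0 A0 (hmA A0 (by simp))
    have dB := hd0 B0 (hmA B0 (by simp))
    have dC := hd0 C0 (hmA C0 (by simp))
    have dD := hd0 D0 (hmA D0 (by simp))
    apply Int.cast_injective (α := ℂ)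
    push_cast at hpairs dA dB dC dD ⊢
    generalize (v A0 : ℂ) * (charDegree (A0 : G → ℂ) : ℂ) = sA at hpairs dA ⊢
    generalize (v B0 : ℂ) * (charDegree (B0 : G → ℂ) : ℂ) = sB at hpairs dB ⊢
    generalize (v C0 : ℂ) * (charDegree (C0 : G → ℂ) : ℂ) = sC at hpairs dC ⊢
    generalize (v D0 : ℂ) * (charDegree (D0 : G → ℂ) : ℂ) = sD at hpairs dD ⊢
    field_simp at hpairs
    linear_combination hpairs / 5
  have hdeg' : v A0 * charDegree (A0 : G → ℂ) + v B0 * charDegree (B0 : G → ℂ) +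
      v C0 * charDegree (C0 : G → ℂ) + v D0 * charDegree (D0 : G → ℂ) = -1 := by
    rw [hFsum, hsplit, hvp, hprin1] at hdeg
    push_cast at hdeg
    linarith
  have hz' : v A0 * t A0 + v B0 * t B0 + v C0 * t C0 + v D0 * t D0 = -1 := by
    rw [hFsum, hsplit, hvp, htp] at hzcol
    linarith
  obtain ⟨hp1, hp1'⟩ := hpair A0 (hmemE A0 (by simp))
  obtain ⟨hp2, hp2'⟩ := hpair B0 (hmemE B0 (by simp))
  obtain ⟨hp3, hp3'⟩ := hpair C0 (hmemE C0 (by simp))
  obtain ⟨hp4, hp4'⟩ := hpair D0 (hmemE D0 (by simp))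
  obtain ⟨hn64, hsol⟩ := no_quad (a := (_, _)) (b := (_, _)) (c := (_, _)) (d := (_, _))
    hp1 hp1' hp2 hp2' hp3 hp3' hp4 hp4' hdeg' hz' hn2304 hbound hkey
  have hwit : ∀ q ∈ sol, ∃ χ ∈ F.erase (principal G),
      (v χ * (charDegree (χ : G → ℂ) : ℤ), v χ * t χ) = q := by
    intro q hq
    have hq' := hsol q hq
    simp only [List.mem_cons, List.not_mem_nil, or_false] at hq'
    rcases hq' with hq' | hq' | hq' | hq'
    · exact ⟨A0, hmemE A0 (by simp), hq'.symm⟩
    · exact ⟨B0, hmemE B0 (by simp), hq'.symm⟩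
    · exact ⟨C0, hmemE C0 (by simp), hq'.symm⟩
    · exact ⟨D0, hmemE D0 (by simp), hq'.symm⟩
  obtain ⟨A, hA, hAq⟩ := hwit (-64, 0) (by decide)
  obtain ⟨B, hB, hBq⟩ := hwit (-9, -1) (by decide)
  obtain ⟨C, hC, hCq⟩ := hwit (36, -4) (by decide)
  obtain ⟨D, hD, hDq⟩ := hwit (36, 4) (by decide)
  have hne : ∀ {χ ψ : IrrCharacter G} {a b : ℤ × ℤ},
      (v χ * (charDegree (χ : G → ℂ) : ℤ), v χ * t χ) = a →
      (v ψ * (charDegree (ψ : G → ℂ) : ℤ), v ψ * t ψ) = b → a ≠ b → χ ≠ ψ := by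
    rintro χ ψ a b h1 h2 h3 rfl
    exact h3 (h1.symm.trans h2)
  have nAB : A ≠ B := hne hAq hBq (by decide)
  have nAC : A ≠ C := hne hAq hCq (by decide)
  have nAD : A ≠ D := hne hAq hDq (by decide)
  have nBC : B ≠ C := hne hBq hCq (by decide)
  have nBD : B ≠ D := hne hBq hDq (by decide)
  have nCD : C ≠ D := hne hCq hDq (by decide)
  have hall : F.erase (principal G) = {A, B, C, D} := by
    refine (Finset.eq_of_subset_of_card_le (fun x hx => ?_) ?_).symm
    · simp only [Finset.mem_insert, Finset.mem_singleton] at hx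
      rcases hx with rfl | rfl | rfl | rfl
      exacts [hA, hB, hC, hD]
    · rw [Finset.card_erase_of_mem hpF, hFc, Finset.card_insert_of_notMem (by simp [nAB, nAC, nAD]),
        Finset.card_insert_of_notMem (by simp [nBC, nBD]), Finset.card_pair nCD]
  simp only [Prod.mk.injEq] at hAq hBq hCq hDq
  -- an involution in the centre of a Sylow 2-subgroup
  obtain ⟨S⟩ : Nonempty (Sylow 2 G) := inferInstance
  have hS : Nat.card (S : Subgroup G) = 256 := by
    simpa using Small.card_sylow_eq (p := 2) 8 45 (by omega) (by norm_num) S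
  haveI : Nontrivial (S : Subgroup G) := Finite.one_lt_card_iff_nontrivial.1 (by omega)
  haveI := S.2.center_nontrivial
  obtain ⟨kc, hkc⟩ := IsPGroup.iff_card.1 (S.2.to_subgroup (center (S : Subgroup G)))
  have hkc0 : kc ≠ 0 := fun h0 => by
    have := Finite.one_lt_card_iff_nontrivial.2
      (inferInstance : Nontrivial (center (S : Subgroup G)))
    rw [hkc, h0, pow_zero] at this
    omega
  obtain ⟨x0, hx0⟩ := exists_prime_orderOf_dvd_card' (G := center (S : Subgroup G)) 2
    (hkc ▸ dvd_pow_self 2 hkc0)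
  set x : G := ((x0 : (S : Subgroup G)) : G) with hxdef
  have hxo : orderOf x = 2 := by rw [hxdef, Subgroup.orderOf_coe, Subgroup.orderOf_coe, hx0]
  have hxx : x * x = 1 := by rw [← sq, ← hxo, pow_orderOf_eq_one]
  have hx1 : x ≠ 1 := fun h' => by rw [h', orderOf_one] at hxo; omega
  have hSx : (S : Subgroup G) ≤ centralizer ({x} : Set G) := fun s hs =>
    mem_centralizer_singleton_iff.2 (congrArg Subtype.val (mem_center_iff.1 x0.2 ⟨s, hs⟩))
  set k := (centralizer ({x} : Set G)).index with hkdef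
  set c := Nat.card (centralizer ({x} : Set G)) with hcdef
  have hck : c * k = 11520 := by rw [hcdef, hkdef, Subgroup.card_mul_index, h]
  have hk : (k = 15 ∧ c = 768) ∨ (k = 45 ∧ c = 256) := by
    obtain ⟨r, hr⟩ := hS ▸ card_dvd_of_le hSx
    have h5 : ¬ 5 ∣ r := fun h5 => no_five x hxx hx1 (hr ▸ h5.mul_left 256)
    have hne1 := Small.index_centralizer_ne_prime_pow hG hx1 5 1 Nat.prime_five
    rw [← hkdef, pow_one] at hne1
    rw [← hcdef] at hr
    rw [hr, mul_assoc] at hck
    have hrk : r * k = 45 := by omega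
    have : r ∈ Nat.divisors 45 := Nat.mem_divisors.2 ⟨Dvd.intro _ hrk, by norm_num⟩
    rw [show Nat.divisors 45 = {1, 3, 5, 9, 15, 45} by decide +kernel] at this
    simp only [Finset.mem_insert, Finset.mem_singleton] at this
    rcases this with rfl | rfl | rfl | rfl | rfl | rfl <;> omega
  have hnxz : ¬ IsConj x z := by
    intro hc
    obtain ⟨g', hg'⟩ := isConj_iff.1 hc
    have h2 : c = n := by
      rw [hcdef, hn', ← hg']
      exact Nat.card_congr
        { toFun := fun y => ⟨g' * y.1 * g'⁻¹, mem_centralizer_singleton_iff.2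
            ((show Commute y.1 x from mem_centralizer_singleton_iff.1 y.2).conj g').eq⟩
          invFun := fun y => ⟨g'⁻¹ * y.1 * g', mem_centralizer_singleton_iff.2 (by
            simpa [mul_assoc] using
              ((show Commute y.1 (g' * x * g'⁻¹) from mem_centralizer_singleton_iff.1 y.2).conj g'⁻¹).eq)⟩
          left_inv := fun y => Subtype.ext (by simp [mul_assoc])
          right_inv := fun y => Subtype.ext (by simp [mul_assoc]) }
    omega
  -- no conjugate of `x` inverts `u`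
  have hempty : ∀ y : G, y * y = 1 →
      Nat.card {ab : G × G // (ab.1 * x * ab.1⁻¹) * (ab.2 * y * ab.2⁻¹) = u} = 0 := by
    intro y hy
    haveI : IsEmpty {ab : G × G // (ab.1 * x * ab.1⁻¹) * (ab.2 * y * ab.2⁻¹) = u} := by
      refine ⟨fun ab => hnxz ?_⟩
      obtain ⟨⟨g1, g2⟩, hab⟩ := ab
      dsimp only at hab
      have hzinv : z⁻¹ = z := inv_eq_of_mul_eq_one_left hzz
      have hX : ∀ g w : G, w * w = 1 → g * w * g⁻¹ * (g * w * g⁻¹) = 1 := fun g w hw => by
        rw [show g * w * g⁻¹ * (g * w * g⁻¹) = g * (w * w) * g⁻¹ by group, hw, mul_one,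
          mul_inv_cancel]
      set x' := g1 * x * g1⁻¹ with hx'
      set y' := g2 * y * g2⁻¹ with hy'
      have hxinv : x'⁻¹ = x' := inv_eq_of_mul_eq_one_left (hX g1 x hxx)
      have hyinv : y'⁻¹ = y' := inv_eq_of_mul_eq_one_left (hX g2 y hy)
      have hxu : x' * u * x'⁻¹ = u⁻¹ := by
        rw [← hab, mul_inv_rev x' y', hyinv, hxinv, ← mul_assoc x' x' y',
          show x' * x' = 1 from hX g1 x hxx, one_mul]
      have hmem : x' * z ∈ centralizer ({u} : Set G) := by
        rw [mem_centralizer_singleton_iff, ← mul_inv_eq_iff_eq_mul]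
        calc x' * z * u * (x' * z)⁻¹ = x' * (z * u * z⁻¹) * x'⁻¹ := by group
          _ = (x' * u * x'⁻¹)⁻¹ := by rw [hinv]; group
          _ = u := by rw [hxu, inv_inv]
      rw [hCu] at hmem
      obtain ⟨i, hi⟩ := hmem
      have hxz : x' = u ^ i * z := by
        rw [show u ^ i = x' * z from hi, mul_assoc, hzz, mul_one]
      have hconj : u ^ (3 * i) * z * (u ^ (3 * i))⁻¹ = x' := by
        have h1 : z * (u ^ (3 * i))⁻¹ * z⁻¹ = u ^ (3 * i) := by
          rw [← zpow_neg, ← conj_zpow, hinv, inv_zpow, zpow_neg, inv_inv]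
        calc u ^ (3 * i) * z * (u ^ (3 * i))⁻¹
            = u ^ (3 * i) * (z * (u ^ (3 * i))⁻¹ * z⁻¹) * z := by group
          _ = u ^ (3 * i + 3 * i) * z := by rw [h1, zpow_add]
          _ = x' := by
            rw [hxz, show 3 * i + 3 * i = i + (5 : ℕ) * i by push_cast; ring, zpow_add,
              zpow_mul, zpow_natCast, hu5, one_zpow, mul_one]
      exact (isConj_iff.2 ⟨g1, hx'.symm⟩).trans (isConj_iff.2 ⟨u ^ (3 * i), hconj⟩).symm
    exact Nat.card_of_isEmpty
  choose a ha using fun χ : IrrCharacter G => exists_int_apply_involution hxx χ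
  have hap : a (principal G) = 1 := by
    have h1 := ha (principal G)
    rw [principal_apply] at h1
    exact_mod_cast h1
  have hsum4 : ∀ φ : IrrCharacter G → ℤ, ∑ χ ∈ F, φ χ =
      φ (principal G) + (φ A + φ B + φ C + φ D) := by
    intro φ
    rw [← Finset.add_sum_erase _ _ hpF, hall, Finset.sum_insert (by simp [nAB, nAC, nAD]),
      Finset.sum_insert (by simp [nBC, nBD]), Finset.sum_pair nCD]
    ring
  have hxcol : ∑ χ, v χ * a χ = 0 := by
    have h1 := second_orthogonality (G := G) u x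
    rw [if_neg (fun h' => by
      obtain ⟨y, hy⟩ := isConj_iff.mp h'
      have := congrArg orderOf hy
      rw [← MulAut.conj_apply, MulEquiv.orderOf_eq, huo, hxo] at this
      omega)] at h1
    simp only [← hv, ← ha, map_intCast] at h1
    exact_mod_cast h1
  rw [hFsum, hsum4, hvp, hap] at hxcol
  have hxx0 : (36 : ℂ) * 1 - 4 * ((v B * a B : ℤ) : ℂ) ^ 2 - 36 / 64 * ((v A * a A : ℤ) : ℂ) ^ 2 +
      ((v C * a C : ℤ) : ℂ) ^ 2 + ((v D * a D : ℤ) : ℂ) ^ 2 = 0 := by
    have h1 := hclass x x a a ha ha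
    rw [hempty x hxx, ← Finset.add_sum_erase _ _ hpF, hall,
      Finset.sum_insert (by simp [nAB, nAC, nAD]), Finset.sum_insert (by simp [nBC, nBD]),
      Finset.sum_pair nCD, hvp, hap, hprin1, hAq.1, hBq.1, hCq.1, hDq.1] at h1
    push_cast at h1 ⊢
    linear_combination -h1 / 320
  have hxz0 : (9 : ℂ) * 1 + ((v B * a B : ℤ) : ℂ) - ((v C * a C : ℤ) : ℂ) +
      ((v D * a D : ℤ) : ℂ) = 0 := by
    have h1 := hclass x z a t ha ht
    rw [hempty z hzz, ← Finset.add_sum_erase _ _ hpF, hall,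
      Finset.sum_insert (by simp [nAB, nAC, nAD]), Finset.sum_insert (by simp [nBC, nBD]),
      Finset.sum_pair nCD, hvp, hap, htp, hprin1, hAq.1, hBq.1, hCq.1, hDq.1, hAq.2, hBq.2,
      hCq.2, hDq.2] at h1
    push_cast at h1 ⊢
    linear_combination -h1 / 1280
  -- the value at `A` vanishes
  have hdA : (charDegree (A : G → ℂ) : ℤ) = 64 := by
    rcases hne0 A (Finset.mem_filter.1 (Finset.mem_of_mem_erase hA)).2 with h' | h' <;>
      rw [h'] at hAq <;> omega
  have haA : a A = 0 := by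
    have hdv := degree_dvd_index_mul A (x := x) (ha A)
    rw [← hkdef, hdA] at hdv
    have hlt := Small.natAbs_lt_degree hG (Finset.ne_of_mem_erase hA) hx1 (ha A)
    have hd64 : charDegree (A : G → ℂ) = 64 := by exact_mod_cast hdA
    rw [hd64] at hlt
    have h64 : (64 : ℤ) ∣ a A := by
      refine Int.dvd_of_dvd_mul_right_of_gcd_one hdv ?_
      rcases hk with ⟨hk', -⟩ | ⟨hk', -⟩ <;> rw [hk'] <;> rfl
    obtain ⟨m, hm⟩ := h64
    omega
  rw [haA, mul_zero] at hxcol hxx0
  have e1 : 1 + v B * a B + v C * a C + v D * a D = 0 := by linarith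
  have e2 : 9 + v B * a B - v C * a C + v D * a D = 0 := by
    apply Int.cast_injective (α := ℂ)
    push_cast at hxz0 ⊢
    linear_combination hxz0
  have e3 : 36 - 4 * (v B * a B) ^ 2 + (v C * a C) ^ 2 + (v D * a D) ^ 2 = 0 := by
    apply Int.cast_injective (α := ℂ)
    push_cast at hxx0 ⊢
    linear_combination hxx0
  obtain ⟨hqB, hqC, hqD⟩ := sol_values e1 e2 e3
  rcases hk with ⟨hk', -⟩ | ⟨-, hc⟩
  · -- the class has 15 elements
    have hdv := degree_dvd_index_mul B (x := x) (ha B)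
    rw [← hkdef, hk'] at hdv
    rcases hne0 B (Finset.mem_filter.1 (Finset.mem_of_mem_erase hB)).2 with h' | h' <;>
      rw [h'] at hBq hqB
    · have : (charDegree (B : G → ℂ) : ℤ) = -9 := by omega
      omega
    · have hdB : (charDegree (B : G → ℂ) : ℤ) = 9 := by omega
      have haB : a B = -7 := by omega
      rw [hdB, haB] at hdv
      norm_num at hdv
  · -- the class has 45 elements: the columns of `x` and `z`
    have hsqx : ∑ χ, a χ ^ 2 = (256 : ℤ) := by
      have h1 := sum_normSq (G := G) x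
      simp only [← ha, Complex.normSq_intCast] at h1
      apply Int.cast_injective (α := ℝ)
      rw [Int.cast_sum]
      simp only [pow_two, Int.cast_mul]
      rw [h1, ← hcdef, hc]
      norm_num
    have hsqz : ∑ χ, t χ ^ 2 = (64 : ℤ) := by
      have h1 := sum_normSq (G := G) z
      simp only [← ht, Complex.normSq_intCast] at h1
      apply Int.cast_injective (α := ℝ)
      rw [Int.cast_sum]
      simp only [pow_two, Int.cast_mul]
      rw [h1, ← hn', hn64]
      norm_num
    have hxz : ∑ χ, a χ * t χ = 0 := by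
      have h1 := second_orthogonality (G := G) x z
      rw [if_neg (fun h' => hnxz h'.symm)] at h1
      simp only [← ha, ← ht, map_intCast] at h1
      exact_mod_cast h1
    have hrest : 0 ≤ ∑ χ, (a χ - t χ) ^ 2 - ∑ χ ∈ F, (a χ - t χ) ^ 2 :=
      sub_nonneg.2 (Finset.sum_le_sum_of_subset_of_nonneg (Finset.subset_univ _)
        fun _ _ _ => sq_nonneg _)
    have htot : ∑ χ, (a χ - t χ) ^ 2 = 256 + 64 := by
      have e : ∀ χ : IrrCharacter G, (a χ - t χ) ^ 2 = a χ ^ 2 + t χ ^ 2 - 2 * (a χ * t χ) :=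
        fun χ => by ring
      rw [Finset.sum_congr rfl fun χ _ => e χ, Finset.sum_sub_distrib, Finset.sum_add_distrib,
        ← Finset.mul_sum, hsqx, hsqz, hxz]
      norm_num
    have hsq : ∀ χ ∈ F, (a χ - t χ) ^ 2 = (v χ * a χ - v χ * t χ) ^ 2 := fun χ hχ => by
      rcases hne0 χ (Finset.mem_filter.mp hχ).2 with h' | h' <;> rw [h'] <;> ring
    rw [htot, Finset.sum_congr rfl hsq, hsum4, hvp, hap, htp, haA, mul_zero, hqB, hqC, hqD,
      hAq.2, hBq.2, hCq.2, hDq.2] at hrest
    norm_num at hrest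

end CfsgLib.M24Nse.Order11520

namespace CfsgLib.M24Nse

universe u

/-- There is no simple group of order 11520. -/
theorem card_ne_11520 {T : Type u} [Group T] [Finite T] [IsSimpleGroup T]
    (hT : ¬ IsMulCommutative T) : Nat.card T ≠ 11520 :=
  Order11520.ne_11520 hT

end CfsgLib.M24Nse
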