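import Cfsg.Agent.Lib.M24Nse.FiveCore
import Cfsg.Agent.Lib.M24Nse.Order11520
import Cfsg.Agent.Lib.Chars.Irr

/-!
# S3596, piece P3: the centraliser of the involution commuting with an element of order five
-/

set_option autoImplicit false
set_option linter.unusedSectionVars false
set_option linter.style.haveILetI false

namespace CfsgLib.M24Nse.Five

open Subgroup

universe u

variable {G : Type u} [Group G] [Finite G]

/-- conjugate elements have centralisers of the same order -/
theorem card_cent_conj' (c g : G) :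
    Nat.card (centralizer ({c * g * c⁻¹} : Set G)) = Nat.card (centralizer ({g} : Set G)) := by
  refine (Nat.card_congr (α := centralizer ({g} : Set G))
    (β := centralizer ({c * g * c⁻¹} : Set G))
    { toFun := fun x => ⟨c * x.1 * c⁻¹, mem_of_commute ((commute_of_mem x.2).conj c)⟩
      invFun := fun x => ⟨c⁻¹ * x.1 * c, mem_of_commute (by
        simpa [mul_assoc] using (commute_of_mem x.2).conj c⁻¹)⟩
      left_inv := fun x => Subtype.ext (by simp [mul_assoc])
      right_inv := fun x => Subtype.ext (by simp [mul_assoc]) }).symm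

/-- a fixed-point-free involution makes the number of points even -/
theorem two_dvd_of_involution {α : Type u} [Finite α] (σ : α → α) (hσ : ∀ a, σ (σ a) = a)
    (hne : ∀ a, σ a ≠ a) : 2 ∣ Nat.card α := by
  classical
  haveI := Fintype.ofFinite α
  have h : ∑ _a : α, (1 : ZMod 2) = 0 :=
    Finset.sum_involution (fun a _ => σ a) (fun _ _ => rfl) (fun a _ _ => hne a)
      (fun a _ => Finset.mem_univ _) (fun a _ => hσ a)
  rw [Finset.sum_const, Finset.card_univ, nsmul_one, ← Nat.card_eq_fintype_card] at h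
  exact (ZMod.natCast_eq_zero_iff _ _).1 h

/-- a subgroup of a group of order `2 ^ n` with an odd or even exponent -/
theorem two_pow_mod_three {k : ℕ} : 2 ^ k % 3 = if Even k then 1 else 2 := by
  induction k with
  | zero => simp
  | succ k ih =>
    rw [pow_succ, Nat.mul_mod, ih]
    by_cases h : Even k <;> simp [h, Nat.even_add_one]

/-- the structure at five, read in the group -/
theorem centre_core (hC : Counts G) (h11520 : No11520.{u}) {v : G} (hv : orderOf v = 2)
    (hcard : Nat.card (centralizer ({v} : Set G)) = 17280 ∨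
      Nat.card (centralizer ({v} : Set G)) = 46080) :
    Nat.card (centralizer ({v} : Set G)) = 46080 ∧
      ∃ (p : ↥(centralizer ({v} : Set G))) (R M : Subgroup ↥(centralizer ({v} : Set G))),
        orderOf p = 5 ∧ R.Normal ∧ Nat.card R = 64 ∧ centralizer (R : Set _) ≤ R ∧
        (⟨v, mem_centralizer_singleton_iff.2 rfl⟩ : ↥(centralizer ({v} : Set G))) ∈ R ∧
        Nat.card ↥(R ⊓ centralizer ({p} : Set _)) = 4 ∧
        (∀ x ∈ R, Commute p x → x * x = 1) ∧ M.Normal ∧ R ≤ M ∧ Nat.card M = 23040 := by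
  classical
  haveI : Fact (Nat.Prime 5) := ⟨Nat.prime_five⟩
  set C := centralizer ({v} : Set G) with hCdef
  obtain ⟨p, hp⟩ := exists_prime_orderOf_dvd_card' (G := C) 5
    (by rcases hcard with h | h <;> rw [h] <;> norm_num)
  have hp' : orderOf (p : G) = 5 := by rw [orderOf_coe, hp]
  have hpv : Commute (p : G) v := (commute_of_mem p.2).symm
  set vc : C := ⟨v, mem_centralizer_singleton_iff.2 rfl⟩ with hvcdef
  have hvc : vc ∈ center C :=
    mem_center_iff.2 fun g => Subtype.ext (commute_of_mem g.2).symm.eq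
  have hCp : Nat.card (centralizer ({p} : Set C)) = 20 := by
    rw [← hC.cent52 p v hp' hv hpv]
    exact Nat.card_congr
      { toFun := fun g => ⟨g.1.1, (commute_of_mem g.2).map C.subtype, commute_of_mem g.1.2⟩
        invFun := fun g => ⟨⟨g.1, mem_of_commute g.2.2⟩, mem_of_commute (Subtype.ext g.2.1.eq)⟩
        left_inv := fun _ => rfl
        right_inv := fun _ => rfl }
  have hNp : Nat.card (normalizer (zpowers p : Set C)) ∣ 240 := by
    have hfac : (Nat.card G).factorization 5 = 1 := by
      rw [hC.card, show (244823040 : ℕ) = 5 * 48964608 from rfl,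
        Nat.factorization_mul (by norm_num) (by norm_num), Finsupp.add_apply,
        Nat.Prime.factorization_self (by norm_num),
        Nat.factorization_eq_zero_of_not_dvd (by norm_num : ¬ 5 ∣ 48964608)]
    let P : Sylow 5 G := Sylow.ofCard (zpowers (p : G))
      (by rw [Nat.card_zpowers, hp', hfac, pow_one])
    have h := hC.norm5 P
    rw [show ((P : Subgroup G) : Set G) = (zpowers (p : G) : Set G) from
      congrArg _ (Sylow.coe_ofCard _ _)] at h
    rw [← h, ← card_map_of_injective C.subtype_injective]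
    refine card_dvd_of_le ?_
    have h2 := le_normalizer_map (H := zpowers p) C.subtype
    rwa [MonoidHom.map_zpowers] at h2
  have hI : 3 ≤ Nat.card {x : C // Commute p x ∧ orderOf x = 2} := by
    rw [← hC.invol5 p hp']
    have hcv : ∀ x : G, Commute (p : G) x → orderOf x = 2 → Commute v x := fun x h1 h2 =>
      (hC.four5 p v x hp' hv h2 hpv h1).1
    refine Nat.card_le_card_of_injective (fun x => ⟨⟨x.1, mem_of_commute (hcv x.1 x.2.1 x.2.2)⟩,
      Subtype.ext x.2.1.eq, by rw [orderOf_mk]; exact x.2.2⟩) fun a b h =>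
        Subtype.ext (congrArg (fun t => ((t.1 : C) : G)) h)
  obtain ⟨h1, R, M, hR, hR64, hcR, hvR, hA, hel, hM, hRM, hMc⟩ :=
    core_structure h11520 hp (by rw [hvcdef, orderOf_mk]; exact hv) hvc hCp hNp hI hcard
  exact ⟨h1, p, R, M, hp, hR, hR64, hcR, hvR, hA, hel, hM, hRM, hMc⟩

/-- the order 46080 is impossible -/
theorem not_46080 (hC : Counts G) (h11520 : No11520.{u}) {z v : G} (hz : orderOf z = 2)
    (hzc : Nat.card (centralizer ({z} : Set G)) = 21504) (hCL : Closed z ∨ Nonempty (Lin z))
    (hv : orderOf v = 2) (hvc : Nat.card (centralizer ({v} : Set G)) = 46080)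
    {T : Subgroup G} (hT : Nat.card T = 1024) (hTz : T ≤ centralizer ({z} : Set G))
    (hTv : T ≤ centralizer ({v} : Set G)) (hzT : z ∈ T) : False := by
  classical
  haveI : Fact (Nat.Prime 2) := ⟨Nat.prime_two⟩
  haveI : Fact (Nat.Prime 3) := ⟨Nat.prime_three⟩
  haveI : Fact (Nat.Prime 5) := ⟨Nat.prime_five⟩
  have hcc := centre_core hC h11520 hv (Or.inr hvc)
  set C := centralizer ({v} : Set G) with hCdef
  obtain ⟨-, p, R, M, hp, hRn, hR, hcR, hvR, hA, hel, hMn, hRM, hM⟩ := hcc
  haveI := hRn; haveI := hMn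
  set vc : C := ⟨v, mem_centralizer_singleton_iff.2 rfl⟩ with hvcdef
  have hvcc : ∀ g : C, Commute vc g := fun g => Subtype.ext (commute_of_mem g.2).eq
  set zc : C := ⟨z, hTv hzT⟩ with hzcdef
  have hzz : zc * zc = 1 := Subtype.ext (show z * z = 1 by
    have h := pow_orderOf_eq_one z
    rwa [hz, pow_two] at h)
  have hvv : vc * vc = 1 := Subtype.ext (show v * v = 1 by
    have h := pow_orderOf_eq_one v
    rwa [hv, pow_two] at h)
  have hz1 : zc ≠ 1 := fun h => by
    rw [show z = 1 from congrArg Subtype.val h, orderOf_one] at hz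
    norm_num at hz
  have hv1 : vc ≠ 1 := fun h => by
    rw [show v = 1 from congrArg Subtype.val h, orderOf_one] at hv
    norm_num at hv
  have hzv : zc ≠ vc := fun h => by
    rw [show z = v from congrArg Subtype.val h, ← hCdef, hvc] at hzc
    norm_num at hzc
  -- the Sylow 2-subgroup
  set TC := T.subgroupOf C with hTCdef
  have hTC : Nat.card TC = 1024 := by
    rw [hTCdef, Nat.card_congr (subgroupOfEquivOfLe hTv).toEquiv, hT]
  have hfac : (Nat.card C).factorization 2 = 10 := by
    rw [hvc, show (46080 : ℕ) = 2 ^ 10 * 45 from rfl,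
      Nat.factorization_mul (by norm_num) (by norm_num), Finsupp.add_apply,
      Nat.Prime.factorization_pow (by norm_num : Nat.Prime 2), Finsupp.single_eq_same,
      Nat.factorization_eq_zero_of_not_dvd (by norm_num : ¬ 2 ∣ 45)]
  let S : Sylow 2 C := Sylow.ofCard TC (by rw [hTC, hfac]; norm_num)
  have hRT : R ≤ TC := by
    have h := (IsPGroup.of_card (p := 2) (n := 6) (by rw [hR]; norm_num) :
      IsPGroup 2 R).le_sylow_of_normal S
    rwa [Sylow.coe_ofCard] at h
  have hTcomm : ∀ g ∈ TC, Commute zc g := fun g hg => Subtype.ext (commute_of_mem (hTz hg)).eq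
  have hzR : zc ∈ R := hcR (mem_centralizer_iff.2 fun r hr => (hTcomm r (hRT hr)).eq.symm)
  -- the centraliser in C and the class
  set D := centralizer ({zc} : Set C)
  have hTD : TC ≤ D := fun g hg => mem_of_commute (hTcomm g hg)
  have hDd : Nat.card D ∣ 3072 := by
    have h1 : Nat.card D ∣ 46080 := hvc ▸ card_subgroup_dvd_card D
    have h2 : Nat.card D ∣ 21504 := by
      rw [← hzc, ← card_map_of_injective C.subtype_injective (K := D)]
      refine card_dvd_of_le ?_
      rintro _ ⟨g, hg, rfl⟩
      exact mem_of_commute ((commute_of_mem hg).map C.subtype)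
    have := Nat.dvd_gcd h1 h2
    norm_num at this
    exact this
  have hD1024 : 1024 ∣ Nat.card D := hTC ▸ card_dvd_of_le hTD
  obtain ⟨d, hd⟩ := hD1024
  have hd3 : d = 1 ∨ d = 3 := by
    rw [hd] at hDd
    have h3 : d ∣ 3 := Nat.dvd_of_mul_dvd_mul_left (by norm_num : 0 < 1024) hDd
    exact (Nat.dvd_prime Nat.prime_three).1 h3
  have hcls := CfsgLib.Chars.card_isConj_mul_card_centralizer zc
  rw [hvc, show Nat.card (centralizer ({zc} : Set C)) = Nat.card D from rfl, hd] at hcls
  set m := Nat.card {y : C // IsConj zc y} with hm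
  have hm' : (d = 1 ∧ m = 45) ∨ (d = 3 ∧ m = 15) := by
    rcases hd3 with rfl | rfl
    · left; omega
    · right; omega
  have hnv : ¬ IsConj zc (vc * zc) := by
    intro hc
    have h2 : 2 ∣ m := two_dvd_of_involution
      (fun y => ⟨vc * y.1, by
        obtain ⟨c, hy⟩ := isConj_iff.1 y.2
        refine hc.trans (isConj_iff.2 ⟨c, ?_⟩)
        rw [← hy, ← mul_assoc c, ← (hvcc c).eq]
        group⟩)
      (fun y => Subtype.ext (show vc * (vc * y.1) = y.1 by rw [← mul_assoc, hvv, one_mul]))
      (fun y h => hv1 (mul_eq_right.1 (congrArg Subtype.val h)))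
    rcases hm' with ⟨-, h⟩ | ⟨-, h⟩ <;> omega
  -- the central elements of order two
  let W : Subgroup C :=
    { carrier := {r | r ∈ R ∧ (∀ s ∈ R, s * r = r * s) ∧ r * r = 1}
      one_mem' := ⟨one_mem R, fun s _ => by rw [mul_one, one_mul], one_mul 1⟩
      mul_mem' := fun {a b} ha hb => ⟨mul_mem ha.1 hb.1, fun s hs => by
          rw [← mul_assoc, ha.2.1 s hs, mul_assoc, hb.2.1 s hs, mul_assoc], by
        calc a * b * (a * b) = a * (b * a) * b := by group
          _ = a * a * (b * b) := by rw [ha.2.1 b hb.1]; group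
          _ = 1 := by rw [ha.2.2, hb.2.2, one_mul]⟩
      inv_mem' := fun {a} ha => by
        rw [show a⁻¹ = a from inv_eq_of_mul_eq_one_right ha.2.2]; exact ha }
  haveI hWn : W.Normal := ⟨fun r hr g => by
    refine ⟨hRn.conj_mem r hr.1 g, fun s hs => ?_, ?_⟩
    · have h := hr.2.1 (g⁻¹ * s * g) (by simpa using hRn.conj_mem s hs g⁻¹)
      calc s * (g * r * g⁻¹) = g * ((g⁻¹ * s * g) * r) * g⁻¹ := by group
        _ = g * (r * (g⁻¹ * s * g)) * g⁻¹ := by rw [h]
        _ = g * r * g⁻¹ * s := by group
    · calc g * r * g⁻¹ * (g * r * g⁻¹) = g * (r * r) * g⁻¹ := by group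
        _ = 1 := by rw [hr.2.2, mul_one, mul_inv_cancel]⟩
  have hWR : W ≤ R := fun r hr => hr.1
  have hzW : zc ∈ W := ⟨hzR, fun s hs => (hTcomm s (hRT hs)).eq.symm, hzz⟩
  have hvW : vc ∈ W := ⟨hvR, fun s _ => (hvcc s).eq.symm, hvv⟩
  have hclsW : ∀ y : {y : C // IsConj zc y}, y.1 ∈ W := fun y => by
    obtain ⟨c, hy⟩ := isConj_iff.1 y.2
    exact hy ▸ hWn.conj_mem zc hzW c
  have hne1 : ∀ y : {y : C // IsConj zc y}, y.1 ≠ 1 ∧ y.1 ≠ vc := fun y => by
    obtain ⟨c, hy⟩ := isConj_iff.1 y.2
    refine ⟨fun h => hz1 (conj_eq_one_iff.1 (hy.trans h)), fun h => hzv ?_⟩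
    have h2 := hy.trans h
    calc zc = c⁻¹ * (c * zc * c⁻¹) * c := by group
      _ = c⁻¹ * (c * vc) := by rw [h2, mul_assoc, (hvcc c).eq]
      _ = vc := inv_mul_cancel_left c vc
  have hWc : 2 * m + 2 ≤ Nat.card W := by
    let ι : {y : C // IsConj zc y} ⊕ {y : C // IsConj zc y} ⊕ Fin 2 → W :=
      Sum.elim (fun y => ⟨y.1, hclsW y⟩) (Sum.elim (fun y => ⟨vc * y.1, mul_mem hvW (hclsW y)⟩)
        (fun i => ![(1 : W), ⟨vc, hvW⟩] i))
    have hcross : ∀ a b : {y : C // IsConj zc y}, a.1 ≠ vc * b.1 := fun a b h => by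
      obtain ⟨c, hc⟩ := isConj_iff.1 b.2
      refine hnv (a.2.trans (isConj_iff.2 ⟨c⁻¹, ?_⟩))
      rw [h, ← hc]
      calc c⁻¹ * (vc * (c * zc * c⁻¹)) * c⁻¹⁻¹ = c⁻¹ * (vc * c) * zc := by group
        _ = vc * zc := by rw [(hvcc c).eq, inv_mul_cancel_left]
    have hι : Function.Injective ι := by
      rintro (a | a | i) (b | b | j) h <;>
        simp only [ι, Sum.elim_inl, Sum.elim_inr] at h
      · exact congrArg _ (Subtype.ext (congrArg (fun t : W => (t : C)) h))
      · exact absurd (congrArg Subtype.val h) (hcross a b)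
      · exfalso
        fin_cases j
        · exact (hne1 a).1 (congrArg Subtype.val h)
        · exact (hne1 a).2 (congrArg Subtype.val h)
      · exact absurd (congrArg Subtype.val h).symm (hcross b a)
      · exact congrArg _ (congrArg _ (Subtype.ext (mul_left_cancel (congrArg Subtype.val h))))
      · exfalso
        fin_cases j
        · refine (hne1 a).2 ?_
          have h2 : vc * a.1 = 1 := congrArg Subtype.val h
          rw [← hvv] at h2
          exact mul_left_cancel h2
        · exact (hne1 a).1 (mul_eq_left.1 (congrArg Subtype.val h : vc * a.1 = vc))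
      · exfalso
        fin_cases i
        · exact (hne1 b).1 (congrArg Subtype.val h).symm
        · exact (hne1 b).2 (congrArg Subtype.val h).symm
      · exfalso
        fin_cases i
        · refine (hne1 b).2 ?_
          have h2 : vc * b.1 = 1 := (congrArg Subtype.val h).symm
          rw [← hvv] at h2
          exact mul_left_cancel h2
        · exact (hne1 b).1 (mul_eq_left.1 ((congrArg Subtype.val h).symm : vc * b.1 = vc))
      · fin_cases i <;> fin_cases j
        · rfl
        · exact absurd (congrArg Subtype.val h).symm hv1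
        · exact absurd (congrArg Subtype.val h) hv1
        · rfl
    have h := Nat.card_le_card_of_injective ι hι
    rw [Nat.card_sum, Nat.card_sum, Nat.card_fin, ← hm] at h
    omega
  have hW64 : Nat.card W ≤ 64 := hR ▸ card_le_of_le hWR
  have hd' : d = 3 ∧ m = 15 := hm'.resolve_left fun h => by omega
  -- `R` is elementary abelian
  obtain ⟨kW, hkW, hWk⟩ := two_pow_of_le hWR (n := 6) hR
  have hsup : ∀ r ∈ R, ∃ w ∈ W, ∃ a ∈ R ⊓ centralizer ({p} : Set C), r = w * a := by
    set A := R ⊓ centralizer ({p} : Set C) with hAdef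
    have hkW5 : 5 ≤ kW := by
      by_contra hlt
      have : 2 ^ kW ≤ 2 ^ 4 := Nat.pow_le_pow_right (by norm_num) (by omega)
      omega
    rcases (by omega : kW = 5 ∨ kW = 6) with h5 | h6
    · have hW32 : Nat.card W = 32 := by rw [hWk, h5]; norm_num
      have hmod := fixed_modEq hp W (by rw [normalizer_eq_top]; exact mem_top p)
      have hle : W ⊓ centralizer ({p} : Set C) ≤ A := inf_le_inf_right _ hWR
      have hdvd := card_dvd_of_le hle
      rw [hA] at hdvd
      rw [hW32] at hmod
      have hb2 : Nat.card ↥(W ⊓ centralizer ({p} : Set C)) = 2 := by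
        have := Nat.le_of_dvd (by norm_num) hdvd
        unfold Nat.ModEq at hmod
        interval_cases Nat.card ↥(W ⊓ centralizer ({p} : Set C)) <;> omega
      have hWA : W ⊔ A = R := by
        refine eq_of_le_of_card_ge (sup_le hWR inf_le_left) ?_
        have h := card_mul_card_le (le_sup_left : W ≤ W ⊔ A) le_sup_right
        rw [hW32, hA, show W ⊓ A = W ⊓ centralizer ({p} : Set C) by
          rw [hAdef, ← inf_assoc, inf_eq_left.2 hWR], hb2] at h
        rw [hR]
        omega
      intro r hr
      have hmem : r ∈ ((W ⊔ A : Subgroup C) : Set C) := hWA.symm ▸ hr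
      rw [Subgroup.normal_mul W A] at hmem
      obtain ⟨w, hw, a, ha, rfl⟩ := hmem
      exact ⟨w, hw, a, ha, rfl⟩
    · intro r hr
      have hWeq : W = R := eq_of_le_of_card_ge hWR (by rw [hWk, hR, h6]; norm_num)
      exact ⟨r, hWeq.symm ▸ hr, 1, one_mem _, (mul_one r).symm⟩
  have hsq : ∀ r ∈ R, r * r = 1 := fun r hr => by
    obtain ⟨w, hw, a, ha, rfl⟩ := hsup r hr
    have hwa : a * w = w * a := hw.2.1 a ha.1
    calc w * a * (w * a) = w * (a * w) * a := by group
      _ = w * w * (a * a) := by rw [hwa]; group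
      _ = 1 := by rw [hw.2.2, hel a ha.1 (commute_of_mem ha.2), one_mul]
  -- the element of order three
  have hDc : Nat.card D = 3072 := by rw [hd, hd'.1]
  obtain ⟨e0, he0⟩ := exists_prime_orderOf_dvd_card' (G := D) 3 (by rw [hDc]; norm_num)
  set ec : C := e0.1 with hecdef
  have hec : orderOf ec = 3 := by rw [hecdef, orderOf_coe, he0]
  have hecz : Commute zc ec := commute_of_mem e0.2
  set Q := R ⊓ centralizer ({ec} : Set C) with hQdef
  obtain ⟨kQ, hkQ, hQk⟩ := two_pow_of_le (inf_le_left : Q ≤ R) (n := 6) hR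
  have hQmod := fixed_modEq hec R (by rw [normalizer_eq_top]; exact mem_top ec)
  rw [hR, ← hQdef] at hQmod
  have hzQ : zc ∈ Q := ⟨hzR, mem_of_commute hecz.symm⟩
  have hvQ : vc ∈ Q := ⟨hvR, mem_of_commute (hvcc ec).symm⟩
  have hQ16 : 16 ≤ Nat.card Q := by
    by_contra hlt
    have h3 : 3 ≤ Nat.card Q := by
      let ι : Fin 3 → Q := ![1, ⟨vc, hvQ⟩, ⟨zc, hzQ⟩]
      have hι : Function.Injective ι := by
        intro i j h
        have h' := congrArg Subtype.val h
        fin_cases i <;> fin_cases j
        · rfl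
        · exact absurd h'.symm hv1
        · exact absurd h'.symm hz1
        · exact absurd h' hv1
        · rfl
        · exact absurd h'.symm hzv
        · exact absurd h' hz1
        · exact absurd h' hzv
        · rfl
      simpa using Nat.card_le_card_of_injective ι hι
    have hQ4 : Nat.card Q = 4 := by
      rw [hQk] at hlt h3 hQmod ⊢
      unfold Nat.ModEq at hQmod
      interval_cases kQ <;> omega
    obtain ⟨E, hE⟩ := (IsPGroup.of_card (n := 1) (by rw [Nat.card_zpowers, hec, pow_one]) :
      IsPGroup 3 (zpowers ec)).exists_le_sylow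
    have hEc : Nat.card (E : Subgroup C) = 3 ^ 2 := by
      rw [E.card_eq_multiplicity, hvc, show (46080 : ℕ) = 3 ^ 2 * 5120 from rfl,
        Nat.factorization_mul (by norm_num) (by norm_num), Finsupp.add_apply,
        Nat.Prime.factorization_pow (by norm_num : Nat.Prime 3), Finsupp.single_eq_same,
        Nat.factorization_eq_zero_of_not_dvd (by norm_num : ¬ 3 ∣ 5120)]
    have hEcomm := (IsPGroup.isMulCommutative_of_card_eq_prime_sq hEc).is_comm.comm
    have hED : (E : Subgroup C) ≤ D := by
      intro g hg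
      have hge : Commute g ec :=
        congrArg Subtype.val (hEcomm ⟨g, hg⟩ ⟨ec, hE (mem_zpowers ec)⟩)
      set y := g * zc * g⁻¹ with hy
      have hyQ : y ∈ Q := ⟨hRn.conj_mem zc hzR g, mem_of_commute (by
        have h := hecz.symm.conj g
        rwa [show g * ec * g⁻¹ = ec from mul_inv_eq_iff_eq_mul.2 hge.eq] at h)⟩
      have hyc : IsConj zc y := isConj_iff.2 ⟨g, rfl⟩
      by_contra hgD
      have hyz : y ≠ zc := fun h => hgD (mem_of_commute (commute_of_conj_eq h).symm)
      let ι : Fin 5 → Q := ![1, ⟨vc, hvQ⟩, ⟨zc, hzQ⟩, ⟨vc * zc, mul_mem hvQ hzQ⟩, ⟨y, hyQ⟩]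
      have hι : Function.Injective ι := by
        have n1 : vc * zc ≠ 1 := fun h => hzv (mul_left_cancel (h.trans hvv.symm))
        have n2 : vc * zc ≠ vc := fun h => hz1 (mul_eq_left.1 h)
        have n3 : vc * zc ≠ zc := fun h => hv1 (mul_eq_right.1 h)
        have n4 := (hne1 ⟨y, hyc⟩).1
        have n5 := (hne1 ⟨y, hyc⟩).2
        have n6 : y ≠ vc * zc := fun h => hnv (h ▸ hyc)
        intro i j h
        have h' := congrArg Subtype.val h
        fin_cases i <;> fin_cases j <;>
          simp [ι, hv1, hz1, hzv, n1, n2, n3, n4, n5, n6, hyz, hv1.symm, hz1.symm, hzv.symm,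
            n1.symm, n2.symm, n3.symm, n4.symm, n5.symm, n6.symm, hyz.symm] at h' ⊢
      have := Nat.card_le_card_of_injective ι hι
      simp at this
      omega
    have h9 := card_dvd_of_le hED
    rw [hEc, hDc] at h9
    norm_num at h9
  -- back to the group
  set e : G := (ec : G) with hedef
  have he : orderOf e = 3 := by rw [hedef, orderOf_coe, hec]
  have hze : Commute z e := hecz.map C.subtype
  have h14 : ∀ q : G, orderOf q = 7 → Commute q z →
      Nat.card {g : G // Commute q g ∧ Commute z g} = 14 := fun q h1 h2 => hC.cent72 q z h1 hz h2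
  set QG := Q.map C.subtype with hQGdef
  have hQG : 16 ≤ Nat.card QG := by rwa [hQGdef, card_map_of_injective C.subtype_injective]
  have hQGe : QG ≤ centralizer ({e} : Set G) := by
    rintro _ ⟨x, hx, rfl⟩
    exact mem_of_commute ((commute_of_mem hx.2).map C.subtype)
  have hQGT : QG ≤ T := by
    rintro _ ⟨x, hx, rfl⟩
    exact hRT hx.1
  have conjN : ∀ (K : Subgroup ↥(centralizer ({z} : Set G))), K.Normal →
      centralizer ({z} : Set G) ≤
        normalizer ((K.map (centralizer ({z} : Set G)).subtype : Subgroup G) : Set G) := by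
    intro K hK g hg
    rw [mem_normalizer_iff]
    intro x
    constructor
    · rintro ⟨k, hk, rfl⟩
      exact ⟨⟨g, hg⟩ * k * ⟨g, hg⟩⁻¹, hK.conj_mem k hk _, rfl⟩
    · rintro ⟨k, hk, hkx⟩
      exact ⟨⟨g, hg⟩⁻¹ * k * ⟨g, hg⟩, by simpa using hK.conj_mem k hk ⟨g, hg⟩⁻¹, by
        show g⁻¹ * (k : G) * g = x
        rw [show (k : G) = g * x * g⁻¹ from hkx]
        group⟩
  rcases hCL with ⟨T0, hT0n, hT0c⟩ | hL
  · -- 2-closed
    have hTN : (centralizer ({z} : Set G)) ≤ normalizer (T : Set G) := by
      have hfac2 : (Nat.card (centralizer ({z} : Set G))).factorization 2 = 10 := by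
        rw [hzc, show (21504 : ℕ) = 2 ^ 10 * 21 from rfl,
          Nat.factorization_mul (by norm_num) (by norm_num), Finsupp.add_apply,
          Nat.Prime.factorization_pow (by norm_num : Nat.Prime 2), Finsupp.single_eq_same,
          Nat.factorization_eq_zero_of_not_dvd (by norm_num : ¬ 2 ∣ 21)]
      let S2 : Sylow 2 (centralizer ({z} : Set G)) := Sylow.ofCard (T.subgroupOf (centralizer ({z} : Set G)))
        (by rw [Nat.card_congr (subgroupOfEquivOfLe hTz).toEquiv, hT, hfac2]; norm_num)
      haveI := hT0n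
      have h := (IsPGroup.of_card (p := 2) (n := 10) (by rw [hT0c]; norm_num) :
        IsPGroup 2 T0).le_sylow_of_normal S2
      rw [Sylow.coe_ofCard] at h
      have heq : T0.map (centralizer ({z} : Set G)).subtype = T := eq_of_le_of_card_ge
        (by rintro _ ⟨x, hx, rfl⟩; exact h hx)
        (by rw [card_map_of_injective (centralizer ({z} : Set G)).subtype_injective, hT0c, hT])
      exact heq ▸ conjN T0 hT0n
    set X := T ⊓ centralizer ({e} : Set G) with hXdef
    have hsqX := cent_three_sq hzc h14 T (n := 10) (by rw [hT]; norm_num) hTz hTN he hze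
    rw [← hXdef, hT] at hsqX
    have hXmod := fixed_modEq he T (hTN (mem_of_commute hze))
    rw [← hXdef, hT] at hXmod
    obtain ⟨kX, hkX, hXk⟩ := two_pow_of_le (inf_le_left : X ≤ T) (n := 10) (by rw [hT]; norm_num)
    -- the part inside the subgroup of index two
    set I := TC ⊓ M with hIdef
    have hI : Nat.card I = 512 := by
      have hidx : M.index = 2 := by
        have h := M.card_mul_index
        rw [hM, hvc] at h
        omega
      have hmul := relIndex_mul_relIndex ⊥ I TC bot_le inf_le_left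
      rw [relIndex_bot_left, relIndex_bot_left, hIdef, inf_comm TC M, inf_relIndex_right,
        hTC] at hmul
      have hdv : M.relIndex TC ∣ 2 := hidx ▸ relIndex_dvd_index_of_normal M TC
      have hd2 : Nat.card ↥(M ⊓ TC) ∣ 23040 := hM ▸ card_dvd_of_le inf_le_left
      rw [hIdef, inf_comm TC M]
      rcases (Nat.dvd_prime Nat.prime_two).1 hdv with h | h <;> rw [h] at hmul
      · rw [mul_one] at hmul
        rw [hmul] at hd2
        norm_num at hd2
      · omega
    have hnI : ec ∈ normalizer (I : Set C) := by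
      have hn : ∀ c : C, Commute z (c : G) → ∀ y ∈ I, c * y * c⁻¹ ∈ I := fun c hc y hy =>
        ⟨(mem_normalizer_iff.1 (hTN (mem_of_commute hc)) _).1 hy.1, hMn.conj_mem y hy.2 c⟩
      rw [mem_normalizer_iff]
      refine fun y => ⟨hn ec hze y, fun h => ?_⟩
      simpa [mul_assoc] using hn ec⁻¹ hze.inv_right _ h
    set Y := I ⊓ centralizer ({ec} : Set C) with hYdef
    have hYmod := fixed_modEq hec I hnI
    rw [← hYdef, hI] at hYmod
    have hQY : Q ≤ Y := fun x hx => ⟨⟨hRT hx.1, hRM hx.1⟩, hx.2⟩
    have hY16 := hQ16.trans (card_le_of_le hQY)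
    obtain ⟨kY, hkY, hYk⟩ := two_pow_of_le (inf_le_left : Y ≤ I) (n := 9) (by rw [hI]; norm_num)
    have hYX : Nat.card Y ≤ Nat.card X := by
      rw [← card_map_of_injective C.subtype_injective (K := Y)]
      refine card_le_of_le ?_
      rintro _ ⟨x, hx, rfl⟩
      exact ⟨hx.1.1, mem_of_commute ((commute_of_mem hx.2).map C.subtype)⟩
    rw [hYk] at hYmod hY16 hYX
    rw [hXk] at hXmod hsqX hYX
    unfold Nat.ModEq at hXmod hYmod
    interval_cases kY <;> interval_cases kX <;> omega
  · -- the quotient is `SL(3, 2)`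
    obtain ⟨L⟩ := hL
    haveI := L.normal
    set R0 := L.R.map (centralizer ({z} : Set G)).subtype with hR0def
    have hR0 : Nat.card R0 = 128 := by
      rw [hR0def, card_map_of_injective (centralizer ({z} : Set G)).subtype_injective, L.card]
    obtain ⟨φ⟩ := L.quot
    let π : ↥(centralizer ({z} : Set G)) →* Matrix.SpecialLinearGroup (Fin 3) (ZMod 2) :=
      φ.toMonoidHom.comp (QuotientGroup.mk' L.R)
    have hπ : ∀ x : ↥(centralizer ({z} : Set G)), π x = 1 ↔ x ∈ L.R := fun x => by
      show φ (QuotientGroup.mk x) = 1 ↔ x ∈ L.R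
      rw [MulEquiv.map_eq_one_iff, QuotientGroup.eq_one_iff]
    let eL : ↥(centralizer ({z} : Set G)) := ⟨e, mem_of_commute hze⟩
    have heL : eL ^ 3 = 1 := Subtype.ext (show e ^ 3 = 1 by rw [← he, pow_orderOf_eq_one])
    have heπ : orderOf (π eL) = 3 := by
      refine orderOf_eq_prime (by rw [← map_pow, heL, map_one]) fun h => ?_
      have hd := Subgroup.orderOf_dvd_natCard L.R ((hπ eL).1 h)
      rw [L.card, orderOf_mk, he] at hd
      norm_num at hd
    have hQR0 : QG ≤ R0 := by
      intro x hx
      let xL : ↥(centralizer ({z} : Set G)) := ⟨x, hTz (hQGT hx)⟩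
      have hcomm : Commute (π eL) (π xL) :=
        (show Commute eL xL from Subtype.ext (commute_of_mem (hQGe hx)).eq).map π
      obtain ⟨q, hq, hqx⟩ := hx
      have hxx : xL ^ 2 ^ 1 = 1 := Subtype.ext (show x ^ (2 ^ 1) = 1 by
        rw [pow_one, pow_two, ← hqx]
        exact congrArg Subtype.val (hsq q hq.1))
      have h1 := sl_cent heπ hcomm (k := 1) (by rw [← map_pow, hxx, map_one])
      exact ⟨xL, (hπ xL).1 h1, rfl⟩
    set X := R0 ⊓ centralizer ({e} : Set G) with hXdef
    have hR0z : R0 ≤ (centralizer ({z} : Set G)) := map_subtype_le L.R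
    have hsqX := cent_three_sq hzc h14 R0 (n := 7) (by rw [hR0]; norm_num) hR0z
      (conjN L.R L.normal) he hze
    rw [← hXdef, hR0] at hsqX
    have hXmod := fixed_modEq he R0 (conjN L.R L.normal (mem_of_commute hze))
    rw [← hXdef, hR0] at hXmod
    obtain ⟨kX, hkX, hXk⟩ := two_pow_of_le (inf_le_left : X ≤ R0) (n := 7) (by rw [hR0]; norm_num)
    have hX16 := hQG.trans (card_le_of_le (le_inf hQR0 hQGe : QG ≤ X))
    rw [hXk] at hX16 hsqX hXmod
    unfold Nat.ModEq at hXmod
    interval_cases kX <;> omega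

/-- P3, given that there is no simple group of order 11520 -/
theorem five_of (h11520 : No11520.{u}) : StmtFive.{u} := by
  intro G _ _ hC z hz hzc hCL v hv h5
  classical
  haveI : Fact (Nat.Prime 2) := ⟨Nat.prime_two⟩
  have hmem := hC.card_cent5 v hv h5
  simp only [List.mem_cons, List.not_mem_nil, or_false] at hmem
  rcases hmem with h | h
  · exact h
  exfalso
  have h46 : Nat.card (centralizer ({v} : Set G)) = 46080 := (centre_core hC h11520 hv h).1
  have hsyl : ∀ (w : G) (a : ℕ), ¬ 2 ∣ a → Nat.card (centralizer ({w} : Set G)) = 1024 * a →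
      ∀ S : Sylow 2 ↥(centralizer ({w} : Set G)),
        Nat.card ((S : Subgroup _).map (centralizer ({w} : Set G)).subtype) = 1024 := by
    intro w a ha hw S
    rw [card_map_of_injective (subtype_injective _), S.card_eq_multiplicity, hw,
      show (1024 : ℕ) = 2 ^ 10 from rfl,
      Nat.factorization_mul (by norm_num) (fun h0 => ha (by rw [h0]; exact dvd_zero 2)), Finsupp.add_apply,
      Nat.Prime.factorization_pow (by norm_num : Nat.Prime 2), Finsupp.single_eq_same,
      Nat.factorization_eq_zero_of_not_dvd ha]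
  obtain ⟨Sv⟩ := (inferInstance : Nonempty (Sylow 2 ↥(centralizer ({v} : Set G))))
  obtain ⟨Sz⟩ := (inferInstance : Nonempty (Sylow 2 ↥(centralizer ({z} : Set G))))
  have hfacG : (Nat.card G).factorization 2 = 10 := by
    rw [hC.card, show (244823040 : ℕ) = 2 ^ 10 * 239085 from rfl,
      Nat.factorization_mul (by norm_num) (by norm_num), Finsupp.add_apply,
      Nat.Prime.factorization_pow (by norm_num : Nat.Prime 2), Finsupp.single_eq_same,
      Nat.factorization_eq_zero_of_not_dvd (by norm_num : ¬ 2 ∣ 239085)]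
  set SV := (Sv : Subgroup _).map (centralizer ({v} : Set G)).subtype with hSV
  set T := (Sz : Subgroup _).map (centralizer ({z} : Set G)).subtype with hTdef
  have hSVc : Nat.card SV = 1024 := hsyl v 45 (by norm_num) (by rw [h46]) Sv
  have hTc : Nat.card T = 1024 := hsyl z 21 (by norm_num) (by rw [hzc]) Sz
  obtain ⟨g, hg⟩ := MulAction.exists_smul_eq G
    (Sylow.ofCard T (by rw [hTc, hfacG]; norm_num) : Sylow 2 G)
    (Sylow.ofCard SV (by rw [hSVc, hfacG]; norm_num))
  have hTg : ∀ t ∈ T, g * t * g⁻¹ ∈ SV := by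
    intro t ht
    have h1 := congrArg (fun S : Sylow 2 G => (S : Subgroup G)) hg
    simp only [Sylow.coe_subgroup_smul, Sylow.coe_ofCard] at h1
    rw [← h1, mem_pointwise_smul_iff_inv_smul_mem]
    simpa [MulAut.smul_def, mul_assoc] using ht
  set v1 := g⁻¹ * v * g⁻¹⁻¹ with hv1def
  have hv1 : orderOf v1 = 2 := by rw [hv1def, conj_order, hv]
  have hv1c : Nat.card (centralizer ({v1} : Set G)) = 46080 := by
    rw [hv1def, card_cent_conj', h46]
  have hTv : T ≤ centralizer ({v1} : Set G) := by
    intro t ht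
    have h1 : Commute v (g * t * g⁻¹) :=
      commute_of_mem (map_subtype_le (H := centralizer ({v} : Set G)) _ (hTg t ht))
    exact mem_of_commute (by simpa [hv1def, mul_assoc] using h1.conj g⁻¹)
  have hzT : z ∈ T := by
    let zc : ↥(centralizer ({z} : Set G)) := ⟨z, mem_centralizer_singleton_iff.2 rfl⟩
    haveI : (zpowers zc).Normal := ⟨fun x hx c => by
      obtain ⟨i, rfl⟩ := hx
      have hc : Commute c (zc ^ i) :=
        (show Commute c zc from Subtype.ext (commute_of_mem c.2).symm.eq).zpow_right i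
      rw [hc.eq, mul_inv_cancel_right]
      exact ⟨i, rfl⟩⟩
    have hpg : IsPGroup 2 (zpowers zc) := IsPGroup.of_card (n := 1)
      (by rw [Nat.card_zpowers, orderOf_mk, hz, pow_one])
    exact ⟨zc, hpg.le_sylow_of_normal Sz (mem_zpowers zc), rfl⟩
  exact not_46080 hC h11520 hz hzc hCL hv1 hv1c hTc (map_subtype_le _) hTv hzT

end CfsgLib.M24Nse.Five

namespace CfsgLib.M24Nse

universe u

/-- P3: the centraliser of the involution commuting with an element of order five -/
theorem five : StmtFive.{u} :=
  Five.five_of fun T _ _ _ hT => card_ne_11520 (T := T) hT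

end CfsgLib.M24Nse
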