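import Cfsg.Agent.Lib.Spor.HeRecog.ModelZero
import Cfsg.Agent.Lib.Involutions.ZStar.Main

/-!
# Only the split untwisted model occurs when there are two classes of involutions

The proof of the uniserial twisted case is the one for the Held group, which uses only the two
classes.
-/

set_option autoImplicit false
set_option maxRecDepth 100000
set_option maxHeartbeats 1000000

namespace CfsgLib.M24Nse

open CfsgLib.Spor.HeRecog

universe u

section
variable {G : Type u} [Group G] {z : G} (D : Cen 3 z)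
include D

theorem false_of_fused_three [Finite G]
    (two : ∃ w : G, orderOf w = 2 ∧ ¬ IsConj w z ∧ ∀ x : G, orderOf x = 2 → IsConj x z ∨ IsConj x w)
    (hU : ∀ a ∈ [190, 1344, 1404], ¬ IsConj (D.val a) z) (h168 : IsConj (D.val 168) z) :
    False := by
  classical
  obtain ⟨w, hw, hwz, htwo⟩ := two
  have hreps : ∀ p ∈ clsL 3, p.1 = zN ∨ p.1 = 168 ∨ p.1 ∈ [190, 1344, 1404] := by decide +kernel
  have hTE : ∀ x, x * z = z * x → orderOf x = 2 →
      (IsConj x z ↔ ∃ m ∈ eList, D.val m = x) := by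
    intro x hx ho
    obtain ⟨m, hm, rfl, p, hp, hmp⟩ := D.invol_val ho hx
    constructor
    · intro hT
      refine ⟨m, ?_, rfl⟩
      rcases hreps p hp with e | e | e
      · rw [e, clsOf_zN 3 D.hkr, List.mem_singleton] at hmp
        exact List.mem_cons.2 (Or.inl hmp)
      · exact List.mem_cons.2 (Or.inr (e ▸ hmp))
      · exact absurd ((D.cls_isConj hmp).trans hT) (hU _ e)
    · rintro ⟨m', hm', e⟩
      rw [← e]
      rcases List.mem_cons.1 hm' with rfl | h'
      · rw [D.val_z]
      · exact (D.cls_isConj h').symm.trans h168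
  have hUL : ∀ x, x * z = z * x →
      ((orderOf x = 2 ∧ ¬ IsConj x z) ↔ ∃ m ∈ uList, D.val m = x) := by
    intro x hx
    have hmem : ∀ a m, a ∈ [190, 1344, 1404] → m ∈ clsOf 3 a → m ∈ uList := fun a m ha hm => by
      simp only [List.mem_cons, List.not_mem_nil, or_false] at ha
      simp only [uList, List.mem_append]
      rcases ha with rfl | rfl | rfl <;> simp [hm]
    constructor
    · rintro ⟨ho, hnT⟩
      obtain ⟨m, hm, rfl, p, hp, hmp⟩ := D.invol_val ho hx
      refine ⟨m, ?_, rfl⟩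
      rcases hreps p hp with e | e | e
      · rw [e, clsOf_zN 3 D.hkr, List.mem_singleton] at hmp
        exact absurd (IsConj.refl z) (by rw [hmp, D.val_z] at hnT; exact hnT)
      · exact absurd ((D.cls_isConj (e ▸ hmp)).symm.trans h168) hnT
      · exact hmem _ _ e hmp
    · rintro ⟨m, hm, rfl⟩
      obtain ⟨a, ha, hma⟩ : ∃ a ∈ [190, 1344, 1404], m ∈ clsOf 3 a := by
        simp only [uList, List.mem_append] at hm
        rcases hm with (hm | hm) | hm
        exacts [⟨190, by simp, hm⟩, ⟨1344, by simp, hm⟩, ⟨1404, by simp, hm⟩]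
      obtain ⟨n, hn, -, -, hm', hm0, hmm⟩ := D.cls_conj hma
      exact ⟨D.val_invol hm' hmm hm0, fun hT => hU a ha ((D.cls_isConj hma).trans hT)⟩
  have hTo : ∀ x, IsConj x z → orderOf x = 2 := fun x hx => by
    obtain ⟨c, rfl⟩ := isConj_iff.1 hx
    exact ((MulAut.conj c).orderOf_eq x).symm.trans D.ord
  have hmove : ∀ g a b : G, a * b = b * a →
      (g * a * g⁻¹) * (g * b * g⁻¹) = (g * b * g⁻¹) * (g * a * g⁻¹) := fun g a b e =>
    (Cen.conj_comm_iff g a b).1 e
  have hTconj : ∀ g a, IsConj a z → IsConj (g * a * g⁻¹) z := fun g a ha =>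
    (isConj_iff.2 ⟨g, rfl⟩ : IsConj a (g * a * g⁻¹)).symm.trans ha
  have htr : ∀ a b c : G, IsConj a z → IsConj b z → IsConj c z → a * b = b * a → b * c = c * b →
      a * c = c * a := by
    intro a b c ha hb hc hab hbc
    obtain ⟨g, hg⟩ := isConj_iff.1 hb
    have h1 := hmove g a b hab
    have h2 := hmove g b c hbc
    rw [hg] at h1 h2
    obtain ⟨m, hm, em⟩ := (hTE _ h1 (hTo _ (hTconj g a ha))).1 (hTconj g a ha)
    obtain ⟨n, hn, en⟩ := (hTE _ h2.symm (hTo _ (hTconj g c hc))).1 (hTconj g c hc)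
    have h3 := D.val_commute (eList_comm m hm).1 (eList_comm n hn).1 ((eList_comm m hm).2 n hn)
    rw [em, en] at h3
    exact (Cen.conj_comm_iff g a c).2 h3
  -- the centraliser of `val 190`
  have hu0 : 190 ∈ uList := by decide +kernel
  have hu0' := (hUL (D.val 190) (D.val_comm 190 (by norm_num))).2 ⟨190, hu0, rfl⟩
  set u := D.val 190 with hu
  have hUu : ∀ x, (orderOf x = 2 ∧ ¬ IsConj x z) ↔ IsConj u x := by
    intro x
    constructor
    · rintro ⟨ho, hnT⟩
      exact ((htwo u hu0'.1).resolve_left hu0'.2).trans ((htwo x ho).resolve_left hnT).symm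
    · intro hx
      refine ⟨?_, fun hT => hu0'.2 (hx.trans hT)⟩
      obtain ⟨c, rfl⟩ := isConj_iff.1 hx
      exact ((MulAut.conj c).orderOf_eq u).trans hu0'.1
  let H : Subgroup G := Subgroup.centralizer ({u} : Set G)
  let S : H → Prop := fun a => IsConj (a : G) z
  have hcl : ∀ a : H, S a → ∃ m ∈ uList, Nat.card (Clique S a) = eCount m := by
    intro a ha
    obtain ⟨g, hg⟩ := isConj_iff.1 ha
    have hau : (a : G) * u = u * a := Subgroup.mem_centralizer_singleton_iff.1 a.2
    have h1 := hmove g _ _ hau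
    rw [hg] at h1
    obtain ⟨m, hm, em⟩ := (hUL _ h1.symm).1 ((hUu _).2 (isConj_iff.2 ⟨g, rfl⟩))
    have hm' := uList_card.2 m hm
    refine ⟨m, hm, ?_⟩
    let l := eList.filter fun a => Nat.beq (mulN 3 a m) (mulN 3 m a)
    have hl : ∀ x ∈ l, x < 21504 := fun x hx => (eList_comm x (List.mem_filter.1 hx).1).1
    rw [eCount, ← D.card_image hl (eList_nodup.filter _)]
    refine Nat.card_congr
      { toFun := fun b => ⟨g * (b.1 : G) * g⁻¹, ?_⟩
        invFun := fun b => ⟨⟨g⁻¹ * b.1 * g, ?_⟩, ?_, ?_⟩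
        left_inv := fun b => Subtype.ext (Subtype.ext
          (show g⁻¹ * (g * (b.1 : G) * g⁻¹) * g = b.1 by group))
        right_inv := fun b => Subtype.ext (show g * (g⁻¹ * b.1 * g) * g⁻¹ = b.1 by group) }
    · have hab : (a : G) * b.1 = b.1 * a := congrArg Subtype.val b.2.2
      have h2 := hmove g _ _ hab
      rw [hg] at h2
      obtain ⟨n, hn, en⟩ := (hTE _ h2.symm (hTo _ (hTconj g _ b.2.1))).1 (hTconj g _ b.2.1)
      refine ⟨n, List.mem_filter.2 ⟨hn, ?_⟩, en⟩
      have h3 := hmove g _ _ (Subgroup.mem_centralizer_singleton_iff.1 b.1.2)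
      rw [← em, ← en] at h3
      exact beq_true_iff.2 (D.mul_val_eq (eList_comm n hn).1 hm' h3)
    all_goals
      obtain ⟨n, hn, en⟩ := b.2
      obtain ⟨hn, hnm⟩ := List.mem_filter.1 hn
    · rw [Subgroup.mem_centralizer_singleton_iff]
      refine (Cen.conj_comm_iff g _ u).2 ?_
      rw [← em, show g * (g⁻¹ * b.1 * g) * g⁻¹ = b.1 by group, ← en]
      exact D.val_commute (eList_comm n hn).1 hm' (Nat.eq_of_beq_eq_true hnm)
    · have hn2 : IsConj b.1 z := by
        have hv : D.val n * D.val n = 1 := by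
          rw [← D.val_mul n n (eList_comm n hn).1 (eList_comm n hn).1, eList_sq n hn, D.val_zero]
        refine (hTE _ ?_ ?_).2 ⟨n, hn, en⟩
        · rw [← en]
          exact D.val_comm n (eList_comm n hn).1
        · refine orderOf_eq_prime (hp := ⟨Nat.prime_two⟩) (by rw [pow_two, ← en, hv]) ?_
          intro e
          rw [← en] at e
          have h0 := D.val_eq_one (eList_comm n hn).1 e
          subst h0
          exact absurd hn (by decide +kernel)
      show IsConj (g⁻¹ * b.1 * g) z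
      have h5 := hTconj g⁻¹ _ hn2
      rwa [inv_inv] at h5
    · refine Subtype.ext ?_
      show (a : G) * (g⁻¹ * b.1 * g) = g⁻¹ * b.1 * g * a
      refine (Cen.conj_comm_iff g _ _).2 ?_
      rw [hg, show g * (g⁻¹ * b.1 * g) * g⁻¹ = b.1 by group, ← en]
      exact (D.val_comm n (eList_comm n hn).1).symm
  -- counting
  have hp1 := card_pairs z (fun y => IsConj u y)
    (fun g y hy => hy.trans (isConj_iff.2 ⟨g, rfl⟩))
  have hp2 := card_pairs u (fun y => IsConj z y)
    (fun g y hy => hy.trans (isConj_iff.2 ⟨g, rfl⟩))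
  have hsym : Nat.card {p : G × G // IsConj u p.1 ∧ IsConj z p.2 ∧ p.1 * p.2 = p.2 * p.1} =
      Nat.card {p : G × G // IsConj z p.1 ∧ IsConj u p.2 ∧ p.1 * p.2 = p.2 * p.1} :=
    Nat.card_congr ((Equiv.prodComm G G).subtypeEquiv fun p =>
      ⟨fun ⟨h1, h2, h3⟩ => ⟨h2, h1, h3.symm⟩, fun ⟨h1, h2, h3⟩ => ⟨h2, h1, h3.symm⟩⟩)
  have h560 : Nat.card {y : G // IsConj u y ∧ z * y = y * z} = 560 := by
    rw [← uList_card.1, ← D.card_image uList_card.2 uList_nodup]
    refine Nat.card_congr (Equiv.subtypeEquivRight fun y => ⟨fun ⟨h1, h2⟩ =>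
      (hUL y h2.symm).1 ((hUu y).2 h1), ?_⟩)
    rintro ⟨m, hm, rfl⟩
    have hc := D.val_comm m (uList_card.2 m hm)
    exact ⟨(hUu _).1 ((hUL _ hc).2 ⟨m, hm, rfl⟩), hc.symm⟩
  have hH : Nat.card {y : G // IsConj z y ∧ u * y = y * u} = Nat.card {a : H // S a} :=
    Nat.card_congr
      { toFun := fun y => ⟨⟨y.1, Subgroup.mem_centralizer_singleton_iff.2 y.2.2.symm⟩, y.2.1.symm⟩
        invFun := fun a => ⟨(a.1 : G), a.2.symm,
          (Subgroup.mem_centralizer_singleton_iff.1 a.1.2).symm⟩
        left_inv := fun _ => rfl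
        right_inv := fun _ => rfl }
  rw [h560, D.card_cent] at hp1
  rw [hH, hsym] at hp2
  change _ * Nat.card H = _ at hp2
  have hcard : 192 * Nat.card {a : H // S a} = 5 * Nat.card H := by
    have hG : 0 < Nat.card G := Nat.card_pos
    have e : Nat.card G * (21504 * Nat.card {a : H // S a}) =
        Nat.card G * (560 * Nat.card H) := by
      rw [← Nat.mul_assoc, Nat.mul_comm (Nat.card G) 21504, Nat.mul_assoc, ← hp2,
        ← Nat.mul_assoc, Nat.mul_comm 21504, hp1, Nat.mul_assoc]
    have := Nat.eq_of_mul_eq_mul_left hG e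
    omega
  refine clique_contra S (fun a ha => ?_) (fun g a ha => hTconj (g : G) a ha)
    (fun a b c ha hb hc hab hbc => Subtype.ext (htr a b c ha hb hc (congrArg Subtype.val hab)
      (congrArg Subtype.val hbc))) ?_ (fun a ha => ?_) (fun a ha => ?_) hcard
  · rw [← Subgroup.orderOf_coe]
    exact hTo _ ha
  · exact ⟨⟨z, Subgroup.mem_centralizer_singleton_iff.2 (D.val_comm 190 (by norm_num)).symm⟩,
      IsConj.refl z⟩
  · obtain ⟨m, hm, e⟩ := hcl a ha
    rw [e, Nat.odd_iff]
    exact (eCount_spec m hm).1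
  · obtain ⟨m, hm, e⟩ := hcl a ha
    rw [e, Nat.dvd_iff_mod_eq_zero]
    exact (eCount_spec m hm).2

end

/-- Only the model `0` is left. -/
theorem model_zero_of_two {G : Type u} [Group G] [Finite G] [IsSimpleGroup G] {z : G} {k : ℕ}
    (D : Cen k z)
    (two : ∃ w : G, orderOf w = 2 ∧ ¬ IsConj w z ∧ ∀ x : G, orderOf x = 2 → IsConj x z ∨ IsConj x w) :
    k = 0 := by
  by_contra hk0
  have hk : k = 1 ∨ k = 2 ∨ k = 3 := by
    have := D.hk
    omega
  by_cases hT : k = 3 ∧ IsConj (D.val 168) z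
  · obtain ⟨rfl, h168⟩ := hT
    refine false_of_fused_three D two (fun a ha haT => ?_) h168
    have hmem : ∀ a ∈ [190, 1344, 1404], a ≠ zN ∧ a ≠ 168 ∧
        ∃ p ∈ clsL 3, p.1 = a := by decide +kernel
    obtain ⟨h1, h2, p, hp, rfl⟩ := hmem a ha
    exact h2 (D.partner hk hp h1 haT).2
  · have hiso : Cfsg.IsIsolatedInvolution z := D.isolated fun p hp hne hpT => hT (by
      obtain ⟨h1, h2⟩ := D.partner hk hp hne hpT
      exact ⟨h1, h2 ▸ hpT⟩)
    have hcore : Cfsg.oddCore G = ⊥ := by
      refine ((inferInstance : (Cfsg.oddCore G).Normal).eq_bot_or_eq_top).resolve_right fun e => ?_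
      have h := CfsgLib.Base.odd_card_oddCore G
      rw [e, Subgroup.card_top] at h
      have h2 : 2 ∣ Nat.card G := D.ord ▸ orderOf_dvd_natCard z
      exact (Nat.not_even_iff_odd.2 h) (even_iff_two_dvd.2 h2)
    have hcent := CfsgLib.Involutions.ZStar.mem_center_of_oddCore_eq_bot hiso hcore
    rcases Subgroup.Normal.eq_bot_or_eq_top (inferInstance : (Subgroup.center G).Normal) with e | e
    · rw [e, Subgroup.mem_bot] at hcent
      have h2 := D.ord
      rw [hcent, orderOf_one] at h2
      exact absurd h2 (by norm_num)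
    · obtain ⟨w, hw, hwz, htwo⟩ := two
      have hone : ∀ x y : G, IsConj x y → x = y := fun x y hxy => by
        obtain ⟨g, rfl⟩ := isConj_iff.1 hxy
        rw [Subgroup.mem_center_iff.1 (e ▸ Subgroup.mem_top x) g, mul_inv_cancel_right]
      let inst : CommGroup G :=
        { (inferInstance : Group G) with
          mul_comm := fun a b => (Subgroup.mem_center_iff.1 (e ▸ Subgroup.mem_top b) a) }
      have hp : (Nat.card G).Prime := IsSimpleGroup.prime_card
      have h2 : Nat.card G = 2 :=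
        ((Nat.prime_dvd_prime_iff_eq Nat.prime_two hp).1 (D.ord ▸ orderOf_dvd_natCard z)).symm
      have h3 : 3 ≤ Nat.card G := by
        refine le_trans (by simp) (Nat.card_le_card_of_injective (fun i : Fin 3 => D.val i.1) ?_)
        intro a b hab
        exact Fin.ext (D.val_inj _ _ (by omega) (by omega) hab)
      omega

end CfsgLib.M24Nse
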