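import Cfsg.Agent.Lib.M24Nse.Defs
import Cfsg.Agent.Lib.M24Nse.Models
import Cfsg.Agent.Lib.Spor.HeRecog.Frame
import Cfsg.Agent.Lib.Spor.HeRecog.FrameModel
import Cfsg.Agent.Lib.Spor.HeTri.Final

/-!
# A group with the order and these numbers of elements of `M24` is `M24`, given the pieces
-/

set_option autoImplicit false

namespace CfsgLib.M24Nse

open Subgroup CfsgLib.Spor

universe u

/-- conjugate elements have centralisers of one order -/
theorem natCard_centralizer_eq_of_isConj {G : Type u} [Group G] {a b : G} (h : IsConj a b) :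
    Nat.card (centralizer ({a} : Set G)) = Nat.card (centralizer ({b} : Set G)) := by
  obtain ⟨g, rfl⟩ := isConj_iff.1 h
  refine Nat.card_congr ((MulAut.conj g).toEquiv.subtypeEquiv fun x => ?_)
  simp only [mem_centralizer_singleton_iff]
  show x * a = a * x ↔ g * x * g⁻¹ * (g * a * g⁻¹) = g * a * g⁻¹ * (g * x * g⁻¹)
  constructor
  · intro e
    calc g * x * g⁻¹ * (g * a * g⁻¹) = g * (x * a) * g⁻¹ := by group
      _ = g * (a * x) * g⁻¹ := by rw [e]
      _ = _ := by group
  · intro e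
    have h1 : g * (x * a) * g⁻¹ = g * (a * x) * g⁻¹ := by
      calc g * (x * a) * g⁻¹ = g * x * g⁻¹ * (g * a * g⁻¹) := by group
        _ = g * a * g⁻¹ * (g * x * g⁻¹) := e
        _ = _ := by group
    exact mul_left_cancel (mul_right_cancel h1)

/-- an involution commuting with an element of a prime order dividing the order -/
theorem exists_invol {G : Type u} [Group G] [Finite G] {p : ℕ} [Fact p.Prime]
    (hp : p ∣ Nat.card G)
    (h : ∀ x : G, orderOf x = p → Nat.card {v : G // Commute x v ∧ orderOf v = 2} = 3) :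
    ∃ v : G, orderOf v = 2 ∧ p ∣ Nat.card (centralizer ({v} : Set G)) := by
  obtain ⟨x, hx⟩ := exists_prime_orderOf_dvd_card' p hp
  obtain ⟨⟨v, hxv, hv⟩⟩ := (Nat.card_pos_iff.1 (by rw [h x hx]; norm_num :
    0 < Nat.card {v : G // Commute x v ∧ orderOf v = 2})).1
  refine ⟨v, hv, hx ▸ ?_⟩
  exact orderOf_dvd_natCard (centralizer ({v} : Set G)) (mem_centralizer_singleton_iff.2 hxv.eq)

/-- the pieces put together -/
theorem nonempty_mulEquiv_of_pieces (hC : StmtCounts.{u}) (hS : StmtSeven.{u}) (hF : StmtFive.{u})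
    (hN : StmtNotClosed.{u}) (hA : StmtCentre.{u}) (hE : StmtExtra.{u})
    {G : Type u} [Group G] [Finite G] (h : Hyp G) : Nonempty (G ≃* Cfsg.M24) := by
  have C := hC G h
  haveI := C.simple
  haveI : Fact (Nat.Prime 7) := ⟨by norm_num⟩
  haveI : Fact (Nat.Prime 5) := ⟨by norm_num⟩
  obtain ⟨z, hz, h7⟩ := exists_invol (p := 7) (by rw [C.card]; norm_num) C.invol7
  obtain ⟨v, hv, h5⟩ := exists_invol (p := 5) (by rw [C.card]; norm_num) C.invol5
  obtain ⟨cz, shape⟩ := hS G C z hz h7
  have cv := hF G C z hz cz shape v hv h5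
  have hvz : ¬ IsConj v z := fun e => by
    have := natCard_centralizer_eq_of_isConj e
    omega
  have T : Two z v := ⟨C, hz, hv, cz, cv, hvz, C.classes z v hz hv cz cv⟩
  obtain ⟨L⟩ := shape.resolve_left (hN G z v T)
  obtain ⟨hQ, hplus, hcent⟩ := hE G z C hz cz L (hA G z v T L)
  haveI := L.normal
  obtain ⟨e⟩ := L.quot
  obtain ⟨j, t, ⟨Fr⟩⟩ := HeRecog.exists_frame z hz L.R hQ (L.card.trans (by norm_num)) hplus hcent e
  obtain ⟨D⟩ := HeRecog.exists_cen_of_frame z j t Fr
  obtain ⟨D⟩ : Nonempty (HeRecog.Cen 0 z) := by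
    have hk := model_zero_of_two D ⟨v, hv, hvz, T.two⟩
    exact ⟨hk ▸ D⟩
  rcases HeTri.pieces_final.five z D with h' | ⟨⟨f⟩⟩ | h' | h' | h'
  · exact absurd h' (HeTri.not_isolated D)
  · exact absurd f.symm.isSimpleGroup HeTri.not_simple_Aff
  · have := HeTri.card_SL5 h'
    rw [C.card] at this
    omega
  · exact h'
  · have := HeTri.card_He h'
    rw [C.card] at this
    omega

end CfsgLib.M24Nse
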