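import Cfsg.Agent.Lib.M24Nse.Defs
import Cfsg.Agent.Lib.CharApps.PrimeDegreesSolvable
import Cfsg.Agent.Lib.DegreeThreeP.Shape

/-!
# Small lemmas on simple groups for piece P2

A simple group of order dividing `48384` with a self-centralising `7` normalised by `7:3` has a
character of degree a nontrivial power of three; hence no involution centralises a Sylow
3-subgroup.
-/

set_option autoImplicit false
set_option linter.style.haveILetI false

namespace CfsgLib.M24Nse

open Cfsg CfsgLib.Chars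

universe u

/-- the degrees in the principal 7-block -/
theorem block_degrees : ∀ a ∈ (Nat.divisors 48384).filter (fun a => 1 < a ∧ a < 220 ∧ ¬ 7 ∣ a),
    ∀ b ∈ (Nat.divisors 48384).filter (fun a => 1 < a ∧ a < 220 ∧ ¬ 7 ∣ a),
    ∀ c ∈ (Nat.divisors 48384).filter (fun a => 1 < a ∧ a < 220 ∧ ¬ 7 ∣ a),
    ∀ i ∈ [(1 : ℤ), -1], ∀ j ∈ [(1 : ℤ), -1], ∀ k ∈ [(1 : ℤ), -1],
    (a : ℤ) % 7 = i % 7 → (b : ℤ) % 7 = j % 7 → (c : ℤ) % 7 = (k * 3) % 7 →
    k * c = 1 + i * a + j * b → a * a + b * b + 2 * (c * c) < 48384 →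
    a = 3 ∨ a = 27 ∨ b = 3 ∨ b = 27 ∨ c = 3 ∨ c = 27 := by
  decide +kernel

variable {T : Type u} [Group T] [Finite T] [IsSimpleGroup T]

/-- a character of degree three or twenty-seven -/
theorem exists_three_power_degree (hna : ¬ IsMulCommutative T) (hcard : Nat.card T ∣ 48384)
    (h7 : 7 ∣ Nat.card T) (P : Sylow 7 T) [Fact (Nat.Prime 7)]
    (hC : Subgroup.centralizer ((P : Subgroup T) : Set T) = (P : Subgroup T))
    (hN : Nat.card (Subgroup.normalizer ((P : Subgroup T) : Set T)) = 21) :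
    ∃ χ : IrrCharacter T, charDegree (χ : T → ℂ) = 3 ∨ charDegree (χ : T → ℂ) = 27 := by
  classical
  haveI := Fintype.ofFinite T
  haveI := Chars.irrFintype T
  have hP : Nat.card (P : Subgroup T) = 7 := by
    obtain ⟨k, hk⟩ := IsPGroup.iff_card.mp P.2
    have hd : 7 ^ k ∣ 48384 := hk ▸ ((Subgroup.card_subgroup_dvd_card _).trans hcard)
    have hk2 : k ≤ 1 := by
      by_contra h
      exact absurd ((pow_dvd_pow 7 (show 2 ≤ k by omega)).trans hd) (by decide)
    have hk1 : k ≠ 0 := by
      rintro rfl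
      have h1 := (P : Subgroup T).card_mul_index
      rw [hk, pow_zero, one_mul] at h1
      exact P.not_dvd_index (h1 ▸ h7)
    rw [hk, show k = 1 by omega, pow_one]
  have he : (Subgroup.centralizer ((P : Subgroup T) : Set T)).relIndex
      (Subgroup.normalizer ((P : Subgroup T) : Set T)) = 3 := by
    rw [hC]
    have h1 := ((P : Subgroup T).subgroupOf
      (Subgroup.normalizer ((P : Subgroup T) : Set T))).card_mul_index
    rw [Nat.card_congr (Subgroup.subgroupOfEquivOfLe Subgroup.le_normalizer).toEquiv, hP, hN] at h1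
    rw [Subgroup.relIndex]
    omega
  obtain ⟨M, hM⟩ := CharApps.exists_pModular 7
  haveI := hM.2.1.isPrime
  obtain ⟨X, Y, hB, hdisj, hX, hY, εX, ε, hXp, hε, hYdeg, hYeq, hrel⟩ :=
    Agent.S4441.result 7 M hM (by norm_num) P hP 3 he
  have hY2 : Nat.card Y = 2 := by rw [hY]
  obtain ⟨θ, θ', hθne, hYset⟩ : ∃ θ θ', θ ≠ θ' ∧ Y = {θ, θ'} := by
    rw [Nat.card_coe_set_eq, Set.ncard_eq_two] at hY2
    exact hY2
  have hθ : θ ∈ Y := by rw [hYset]; simp
  have hθ' : θ' ∈ Y := by rw [hYset]; simp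
  have h17 : ¬ 7 ∣ orderOf (1 : T) := by rw [orderOf_one]; norm_num
  have hdd : charDegree (θ' : T → ℂ) = charDegree (θ : T → ℂ) := by
    have := hYeq θ' hθ' θ hθ 1 h17
    rw [CharApps.deg_eq, CharApps.deg_eq] at this
    exact_mod_cast this
  have hlin : ∀ χ : IrrCharacter T, χ ≠ principal T → 1 < charDegree (χ : T → ℂ) := by
    intro χ hne
    have h0 := CfsgLib.Blocks.charDegree_pos χ
    by_contra h
    exact hne (DegreeThreeP.eq_principal_of_deg_one hna χ (by omega))
  have hpdeg : charDegree (principal T : T → ℂ) = 1 :=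
    (CharApps.deg_eq_one_iff _).mp (principal_apply _)
  have hprY : principal T ∉ Y := by
    intro h
    have hθ1 : charDegree (θ : T → ℂ) = 1 := by
      have := hYeq θ hθ _ h 1 h17
      rw [CharApps.deg_eq, CharApps.deg_eq, hpdeg] at this
      exact_mod_cast this
    exact hθne ((DegreeThreeP.eq_principal_of_deg_one hna θ hθ1).trans
      (DegreeThreeP.eq_principal_of_deg_one hna θ' (hdd.trans hθ1)).symm)
  have hprX : principal T ∈ X :=
    (show principal T ∈ X ∪ Y from hB ▸ CfsgLib.Blocks.principal_mem_principalBlock M).resolve_right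
      hprY
  obtain ⟨α, β, hαβ, hset⟩ : ∃ α β, α ≠ β ∧ X \ {principal T} = {α, β} := by
    have h2 : (X \ {principal T}).ncard = 2 := by
      rw [Set.ncard_diff_singleton_of_mem hprX, ← Nat.card_coe_set_eq, hX]
    exact Set.ncard_eq_two.1 h2
  have hα : α ∈ X \ {principal T} := by rw [hset]; simp
  have hβ : β ∈ X \ {principal T} := by rw [hset]; simp
  have hεp : εX (principal T) = 1 := by
    have h1 := (hXp _ hprX).2.1
    rw [hpdeg] at h1
    refine (hXp _ hprX).1.resolve_right fun h => ?_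
    rw [h] at h1
    exact absurd h1 (by decide)
  have hXeq : X = insert (principal T) ({α, β} : Set (IrrCharacter T)) := by
    rw [← hset, Set.insert_diff_singleton, Set.insert_eq_of_mem hprX]
  -- the relation at the identity
  have hr := hrel θ hθ 1 h17
  rw [hXeq, finsum_mem_insert _ (fun h => by rw [← hset] at h; exact h.2 rfl) (Set.toFinite _),
    finsum_mem_pair hαβ, hεp, principal_apply] at hr
  simp only [CharApps.deg_eq, Int.cast_one, one_mul] at hr
  have hr' : ε * (charDegree (θ : T → ℂ) : ℤ) = 1 + εX α * (charDegree (α : T → ℂ) : ℤ) +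
      εX β * (charDegree (β : T → ℂ) : ℤ) := by
    have h' : ((ε * (charDegree (θ : T → ℂ) : ℤ) : ℤ) : ℂ) = ((1 + εX α * (charDegree (α : T → ℂ) : ℤ) +
        εX β * (charDegree (β : T → ℂ) : ℤ) : ℤ) : ℂ) := by
      push_cast; rw [hr]; ring
    exact_mod_cast h'
  -- the sum of the squares
  have hαY : α ∉ Y := fun h => Set.disjoint_left.1 hdisj hα.1 h
  have hβY : β ∉ Y := fun h => Set.disjoint_left.1 hdisj hβ.1 h
  have hsum : charDegree (α : T → ℂ) * charDegree (α : T → ℂ) +
      charDegree (β : T → ℂ) * charDegree (β : T → ℂ) +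
      2 * (charDegree (θ : T → ℂ) * charDegree (θ : T → ℂ)) < Nat.card T := by
    have hs := Chars.sum_degree_sq (G := T)
    simp only [CharApps.deg_eq] at hs
    have hs' : ∑ χ : IrrCharacter T, charDegree (χ : T → ℂ) ^ 2 = Nat.card T := by exact_mod_cast hs
    have hsub := Finset.sum_le_sum_of_subset
      (f := fun χ : IrrCharacter T => charDegree (χ : T → ℂ) ^ 2)
      (Finset.subset_univ ({principal T, α, β, θ, θ'} : Finset (IrrCharacter T)))
    rw [hs'] at hsub
    have n1 : principal T ∉ ({α, β, θ, θ'} : Finset (IrrCharacter T)) := by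
      simp only [Finset.mem_insert, Finset.mem_singleton, not_or]
      exact ⟨fun e => hα.2 e.symm, fun e => hβ.2 e.symm, fun e => hprY (e ▸ hθ),
        fun e => hprY (e ▸ hθ')⟩
    have n2 : α ∉ ({β, θ, θ'} : Finset (IrrCharacter T)) := by
      simp only [Finset.mem_insert, Finset.mem_singleton, not_or]
      exact ⟨hαβ, fun e => hαY (e ▸ hθ), fun e => hαY (e ▸ hθ')⟩
    have n3 : β ∉ ({θ, θ'} : Finset (IrrCharacter T)) := by
      simp only [Finset.mem_insert, Finset.mem_singleton, not_or]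
      exact ⟨fun e => hβY (e ▸ hθ), fun e => hβY (e ▸ hθ')⟩
    rw [Finset.sum_insert n1, Finset.sum_insert n2, Finset.sum_insert n3, Finset.sum_pair hθne,
      hdd, hpdeg] at hsub
    simp only [sq] at hsub
    omega
  have hle : Nat.card T ≤ 48384 := Nat.le_of_dvd (by norm_num) hcard
  have hmem : ∀ χ : IrrCharacter T, χ ≠ principal T →
      charDegree (χ : T → ℂ) * charDegree (χ : T → ℂ) < 48384 →
      ¬ (7 : ℤ) ∣ (charDegree (χ : T → ℂ) : ℤ) →
      charDegree (χ : T → ℂ) ∈ (Nat.divisors 48384).filter (fun a => 1 < a ∧ a < 220 ∧ ¬ 7 ∣ a) := by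
    intro χ hne hlt h7'
    refine Finset.mem_filter.2 ⟨Nat.mem_divisors.2 ⟨?_, by norm_num⟩, hlin χ hne, ?_, ?_⟩
    · exact (CfsgLib.Small.charDegree_dvd_card χ).trans hcard
    · by_contra h
      have := Nat.mul_le_mul (not_lt.1 h) (not_lt.1 h)
      omega
    · exact fun h => h7' (Int.natCast_dvd_natCast.2 h)
  have ma := (hXp α hα.1).2.1
  have mb := (hXp β hβ.1).2.1
  have mc := hYdeg θ hθ
  rw [Int.ModEq] at ma mb mc
  push_cast at ma mb mc
  have hi : εX α ∈ [(1 : ℤ), -1] := by rcases (hXp α hα.1).1 with h | h <;> simp [h]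
  have hj : εX β ∈ [(1 : ℤ), -1] := by rcases (hXp β hβ.1).1 with h | h <;> simp [h]
  have hk : ε ∈ [(1 : ℤ), -1] := by rcases hε with h | h <;> simp [h]
  have key := block_degrees _
    (hmem α hα.2 (by omega) (fun h => by
      rw [Int.emod_eq_zero_of_dvd h] at ma
      rcases (hXp α hα.1).1 with e | e <;> rw [e] at ma <;> exact absurd ma (by decide))) _
    (hmem β hβ.2 (by omega) (fun h => by
      rw [Int.emod_eq_zero_of_dvd h] at mb
      rcases (hXp β hβ.1).1 with e | e <;> rw [e] at mb <;> exact absurd mb (by decide))) _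
    (hmem θ (fun e => hprY (e ▸ hθ)) (by omega) (fun h => by
      rw [Int.emod_eq_zero_of_dvd h] at mc
      rcases hε with e | e <;> rw [e] at mc <;> exact absurd mc (by decide)))
    _ hi _ hj _ hk ma mb mc hr' (by omega)
  rcases key with h | h | h | h | h | h
  exacts [⟨α, Or.inl h⟩, ⟨α, Or.inr h⟩, ⟨β, Or.inl h⟩, ⟨β, Or.inr h⟩, ⟨θ, Or.inl h⟩, ⟨θ, Or.inr h⟩]

/-- no involution centralises a Sylow 3-subgroup -/
theorem not_three_dvd_cent (hna : ¬ IsMulCommutative T) (hcard : Nat.card T ∣ 48384)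
    (h7 : 7 ∣ Nat.card T) (P : Sylow 7 T) [Fact (Nat.Prime 7)]
    (hC : Subgroup.centralizer ((P : Subgroup T) : Set T) = (P : Subgroup T))
    (hN : Nat.card (Subgroup.normalizer ((P : Subgroup T) : Set T)) = 21) {x : T}
    (hx : orderOf x = 2) : ¬ 27 ∣ Nat.card (Subgroup.centralizer ({x} : Set T)) := by
  classical
  haveI := Fintype.ofFinite T
  haveI := Chars.irrFintype T
  haveI : Fact (Nat.Prime 2) := ⟨Nat.prime_two⟩
  intro hd
  obtain ⟨χ, hχ⟩ := exists_three_power_degree hna hcard h7 P hC hN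
  have h1 : charDegree (χ : T → ℂ) ≠ 1 := by rcases hχ with h | h <;> omega
  have hne : x ≠ 1 := fun e => by rw [e, orderOf_one] at hx; omega
  have hco : Nat.Coprime (charDegree (χ : T → ℂ))
      (Subgroup.centralizer ({x} : Set T)).index := by
    have h3 : ¬ 3 ∣ (Subgroup.centralizer ({x} : Set T)).index := by
      intro h3
      have h81 := Nat.mul_dvd_mul hd h3
      rw [Subgroup.card_mul_index] at h81
      exact absurd (h81.trans hcard) (by decide)
    have hc : Nat.Coprime 3 (Subgroup.centralizer ({x} : Set T)).index :=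
      (Nat.Prime.coprime_iff_not_dvd Nat.prime_three).2 h3
    rcases hχ with h | h <;> rw [h]
    · exact hc
    · exact Nat.Coprime.pow_left 3 hc
  have h0 := PrimeDegreesSolvable.eq_zero_of_coprime hna h1 hne hco
  exact CharApps.char_ne_zero_of_pElement 2 (Chars.isCharacter_of_irr χ.2) (CharApps.deg_eq χ)
    (by rcases hχ with h | h <;> omega) (v := x) (k := 1)
    (by rw [pow_one, ← hx, pow_orderOf_eq_one]) h0

end CfsgLib.M24Nse
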