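import Cfsg.Agent.Lib.M24Nse.SevenCore
import Cfsg.Agent.Lib.M24Nse.SevenChar

/-!
# Piece P2: the centraliser of an involution commuting with an element of order seven
-/

set_option autoImplicit false
set_option linter.style.haveILetI false
set_option linter.unusedSectionVars false

namespace CfsgLib.M24Nse

open Subgroup

universe u

namespace SevenProof

variable {G : Type u} [Group G] [Finite G]

/-- orbit times stabiliser for conjugation of one element by a subgroup -/
theorem card_conj_mul (H : Subgroup G) (z : G) :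
    Nat.card (Set.range fun h : H => (h : G) * z * (h : G)⁻¹) *
      Nat.card (H ⊓ centralizer ({z} : Set G) : Subgroup G) = Nat.card H := by
  letI : MulAction H G :=
    MulAction.compHom G ((ConjAct.toConjAct : G ≃* ConjAct G).toMonoidHom.comp H.subtype)
  have horb : MulAction.orbit H z = Set.range fun h : H => (h : G) * z * (h : G)⁻¹ := rfl
  have hstab : MulAction.stabilizer H z = (centralizer ({z} : Set G)).subgroupOf H := by
    ext h
    rw [MulAction.mem_stabilizer_iff, mem_subgroupOf, mem_centralizer_singleton_iff]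
    exact mul_inv_eq_iff_eq_mul
  have h1 := Nat.card_congr (MulAction.orbitProdStabilizerEquivGroup H z)
  rw [Nat.card_prod, horb, hstab] at h1
  rw [← h1, inf_comm, ← Subgroup.inf_subgroupOf_right, Nat.card_congr
    (subgroupOfEquivOfLe (inf_le_right : centralizer ({z} : Set G) ⊓ H ≤ H)).toEquiv]

/-- `N(⟨p⟩) ∩ C(z)` has order forty-two -/
theorem card_norm_cent (hc : Counts G) {p z : G} (hp : orderOf p = 7) (hz : orderOf z = 2)
    (hpz : Commute p z) :
    Nat.card (normalizer (zpowers p : Set G) ⊓ centralizer ({z} : Set G) : Subgroup G) = 42 := by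
  haveI : Fact (Nat.Prime 7) := ⟨by norm_num⟩
  let P : Sylow 7 G :=
    (IsPGroup.of_card (n := 1) (by rw [Nat.card_zpowers, hp, pow_one]) :
      IsPGroup 7 (zpowers p)).toSylow (by
        intro hd
        have h1 := (zpowers p).card_mul_index
        rw [Nat.card_zpowers, hp, hc.card] at h1
        obtain ⟨k, hk⟩ := hd
        omega)
  have hN : Nat.card (normalizer (zpowers p : Set G)) = 126 := hc.norm7 P
  set Cp := centralizer ({p} : Set G) with hCp
  set O : Set G := {v | Commute p v ∧ orderOf v = 2} with hO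
  have hO3 : Nat.card O = 3 := hc.invol7 p hp
  set S : Set G := Set.range fun h : Cp => (h : G) * z * (h : G)⁻¹ with hS
  set S' : Set G := Set.range fun h : normalizer (zpowers p : Set G) => (h : G) * z * (h : G)⁻¹
    with hS'
  have hSO' : S' ⊆ O := by
    rintro _ ⟨⟨n, hn⟩, rfl⟩
    refine ⟨?_, ((MulAut.conj n).orderOf_eq z).trans hz⟩
    have h1 : n⁻¹ * p * n⁻¹⁻¹ ∈ zpowers p :=
      (mem_normalizer_iff.1 (inv_mem hn) p).1 (mem_zpowers p)
    obtain ⟨k, hk⟩ := mem_zpowers_iff.1 h1
    have hp' : p = n * p ^ k * n⁻¹ := by rw [hk]; group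
    show Commute p (n * z * n⁻¹)
    rw [hp']
    exact (hpz.zpow_left k).map (MulAut.conj n).toMonoidHom
  have hle : Cp ≤ normalizer (zpowers p : Set G) := by
    intro g hg
    rw [mem_normalizer_iff_map_conj_eq, MonoidHom.map_zpowers]
    congr 1
    show g * p * g⁻¹ = p
    rw [mul_inv_eq_iff_eq_mul]
    exact mem_centralizer_singleton_iff.1 hg
  have hSS' : S ⊆ S' := by
    rintro _ ⟨g, rfl⟩
    exact ⟨⟨g, hle g.2⟩, rfl⟩
  have hS3 : Nat.card S = 3 := by
    have h1 : Nat.card S * Nat.card (Cp ⊓ centralizer ({z} : Set G) : Subgroup G) = Nat.card Cp :=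
      card_conj_mul Cp z
    have h2 : Nat.card (Cp ⊓ centralizer ({z} : Set G) : Subgroup G) = 14 := by
      rw [← hc.cent72 p z hp hz hpz]
      refine Nat.card_congr (Equiv.subtypeEquivRight fun g => ?_)
      simp only [hCp, mem_inf, mem_centralizer_singleton_iff]
      exact ⟨fun h => ⟨h.1.symm, h.2.symm⟩, fun h => ⟨h.1.symm, h.2.symm⟩⟩
    rw [h2, hCp, hc.cent7 p hp] at h1
    omega
  have hS'3 : Nat.card S' = 3 := by
    have h1 := Nat.card_mono (Set.toFinite S') hSS'
    have h2 := Nat.card_mono (Set.toFinite O) hSO'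
    omega
  have h1 : Nat.card S' * Nat.card
      (normalizer (zpowers p : Set G) ⊓ centralizer ({z} : Set G) : Subgroup G) =
      Nat.card (normalizer (zpowers p : Set G)) := card_conj_mul _ z
  rw [hS'3, hN] at h1
  omega

theorem cent_zpowers {Y : Type u} [Group Y] (v : Y) :
    centralizer (zpowers v : Set Y) = centralizer ({v} : Set Y) := by
  rw [zpowers_eq_closure, centralizer_closure]

theorem zero (hc : Counts G) (z : G) (hz : orderOf z = 2)
    (h7 : 7 ∣ Nat.card (centralizer ({z} : Set G))) :
    Nat.card (centralizer ({z} : Set G)) = 21504 ∧ (Closed z ∨ Nonempty (Lin z)) := by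
  haveI : Fact (Nat.Prime 7) := ⟨by norm_num⟩
  haveI : Fact (Nat.Prime 2) := ⟨Nat.prime_two⟩
  haveI : Fact (Nat.Prime 3) := ⟨Nat.prime_three⟩
  set C := centralizer ({z} : Set G) with hC
  let zC : C := ⟨z, mem_centralizer_singleton_iff.2 rfl⟩
  have hzC : orderOf zC = 2 := (Subgroup.orderOf_mk z _).trans hz
  have hcentral : ∀ a : C, a * zC = zC * a := fun a =>
    Subtype.ext (mem_centralizer_singleton_iff.1 a.2)
  haveI hZn : (zpowers zC).Normal := by
    refine ⟨fun a ha g => ?_⟩
    obtain ⟨k, rfl⟩ := mem_zpowers_iff.1 ha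
    rw [((show Commute g zC from hcentral g).zpow_right k).eq, mul_inv_cancel_right]
    exact zpow_mem (mem_zpowers zC) k
  set q := QuotientGroup.mk' (zpowers zC) with hq
  have hqs := QuotientGroup.mk'_surjective (zpowers zC)
  have hq1 : ∀ a : C, q a = 1 ↔ a = 1 ∨ a = zC := by
    intro a
    rw [hq, QuotientGroup.mk'_apply, QuotientGroup.eq_one_iff]
    constructor
    · intro ha
      obtain ⟨k, rfl⟩ := mem_zpowers_iff.1 ha
      rw [← zpow_mod_orderOf zC k, hzC]
      rcases Int.emod_two_eq k with e | e <;> simp [e]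
    · rintro (rfl | rfl)
      exacts [one_mem _, mem_zpowers _]
  have hcomap : ∀ K : Subgroup (C ⧸ zpowers zC), Nat.card (K.comap q) = Nat.card K * 2 := by
    intro K
    have h1 := (K.comap q).card_mul_index
    rw [index_comap_of_surjective _ hqs, card_eq_card_quotient_mul_card_subgroup (zpowers zC),
      Nat.card_zpowers, hzC, ← K.card_mul_index, mul_right_comm] at h1
    exact Nat.eq_of_mul_eq_mul_right (Nat.pos_of_ne_zero index_ne_zero_of_finite) h1
  have hcardX : Nat.card (C ⧸ zpowers zC) * 2 = Nat.card C := by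
    have h1 := card_eq_card_quotient_mul_card_subgroup (zpowers zC)
    rw [Nat.card_zpowers, hzC] at h1
    exact h1.symm
  -- lifts of the elements of order seven
  have hlift : ∀ x : C ⧸ zpowers zC, orderOf x = 7 → ∃ p : C, orderOf (p : G) = 7 ∧ q p = x := by
    intro x hx
    obtain ⟨c, rfl⟩ := hqs x
    have hx7 : q c ^ 7 = 1 := hx ▸ pow_orderOf_eq_one _
    have h14 : c ^ 14 = 1 := by
      rw [← map_pow] at hx7
      rcases (hq1 _).1 hx7 with e | e
      · rw [show 14 = 7 * 2 from rfl, pow_mul, e, one_pow]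
      · rw [show 14 = 7 * 2 from rfl, pow_mul, e, ← hzC, pow_orderOf_eq_one]
    refine ⟨c ^ 8, ?_, ?_⟩
    · have h1 : orderOf (c ^ 8) ∣ 7 := orderOf_dvd_of_pow_eq_one (by
        rw [← pow_mul, show 8 * 7 = 14 * 4 from rfl, pow_mul, h14, one_pow])
      rw [Subgroup.orderOf_coe]
      refine ((Nat.dvd_prime (by norm_num)).1 h1).resolve_left fun e => ?_
      rw [orderOf_eq_one_iff] at e
      have h2 : q c = 1 := by
        have h3 := congrArg q e
        rwa [map_pow, map_one, show 8 = 7 + 1 from rfl, pow_succ, hx7, one_mul] at h3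
      rw [h2, orderOf_one] at hx
      omega
    · rw [map_pow, show 8 = 7 + 1 from rfl, pow_succ, hx7, one_mul]
  -- an element equal to a power of `p` modulo `z` is one
  have hmod : ∀ p v : C, orderOf (p : G) = 7 → orderOf (v : G) = 7 → ∀ k : ℤ,
      q v = q p ^ k → v = p ^ k := by
    intro p v hp hv k hvp
    rw [← map_zpow] at hvp
    rcases (hq1 ((p ^ k)⁻¹ * v)).1 (by rw [map_mul, map_inv, hvp, inv_mul_cancel]) with e | e
    · exact (inv_mul_eq_one.1 e).symm
    · exfalso
      rw [inv_mul_eq_iff_eq_mul] at e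
      have hp7 : p ^ 7 = 1 := by
        rw [← hp, Subgroup.orderOf_coe]; exact pow_orderOf_eq_one p
      have hv7 : v ^ 7 = 1 := by
        rw [← hv, Subgroup.orderOf_coe]; exact pow_orderOf_eq_one v
      rw [e, (show Commute (p ^ k) zC from hcentral _).mul_pow, ← zpow_natCast (p ^ k) 7,
        ← zpow_mul, mul_comm, zpow_mul, zpow_natCast, hp7, one_zpow, one_mul,
        ← pow_mod_orderOf, hzC, pow_one] at hv7
      rw [hv7, orderOf_one] at hzC
      omega
  have H : SevenHyp (C ⧸ zpowers zC) := by
    refine ⟨?_, ?_, ?_⟩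
    · have h := hc.card_cent7 z hz h7
      simp only [List.mem_cons, List.not_mem_nil, or_false] at h ⊢
      rw [← hC, ← hcardX] at h
      omega
    · intro x hx
      obtain ⟨p, hp, rfl⟩ := hlift x hx
      have h1 : (centralizer ({q p} : Set (C ⧸ zpowers zC))).comap q =
          centralizer ({p} : Set C) := by
        ext w
        rw [mem_comap, mem_centralizer_singleton_iff, mem_centralizer_singleton_iff]
        constructor
        · intro hw
          have h2 : w * p * w⁻¹ = p ^ (1 : ℤ) := hmod p _ hp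
            (((MulAut.conj (w : G)).orderOf_eq _).trans hp) 1 (by
              rw [map_mul, map_mul, map_inv, hw, mul_inv_cancel_right, zpow_one])
          rw [zpow_one, mul_inv_eq_iff_eq_mul] at h2
          exact h2
        · intro hw
          rw [← map_mul, ← map_mul, hw]
      have h2 := hcomap (centralizer ({q p} : Set (C ⧸ zpowers zC)))
      have hpz : Commute (p : G) z := mem_centralizer_singleton_iff.1 p.2
      have h3 : Nat.card (centralizer ({p} : Set C)) = 14 := by
        rw [← hc.cent72 (p : G) z hp hz hpz]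
        exact Nat.card_congr
          { toFun := fun w => ⟨((w : C) : G),
              (congrArg Subtype.val (mem_centralizer_singleton_iff.1 w.2)).symm,
              (mem_centralizer_singleton_iff.1 (w : C).2).symm⟩
            invFun := fun g => ⟨⟨g.1, mem_centralizer_singleton_iff.2 g.2.2.symm⟩,
              mem_centralizer_singleton_iff.2 (Subtype.ext g.2.1.symm)⟩
            left_inv := fun w => rfl
            right_inv := fun g => rfl }
      rw [h1, h3] at h2
      omega
    · intro x hx
      obtain ⟨p, hp, rfl⟩ := hlift x hx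
      have hpz : Commute (p : G) z := mem_centralizer_singleton_iff.1 p.2
      have hzp : ∀ a : C, a ∈ zpowers p ↔ (a : G) ∈ zpowers (p : G) := by
        intro a
        constructor
        · rintro ⟨k, rfl⟩; exact ⟨k, by simp⟩
        · rintro ⟨k, hk⟩; exact ⟨k, Subtype.ext (by simpa using hk)⟩
      have hcrit : ∀ {Y : Type u} [Group Y] [Finite Y] (g v : Y),
          g ∈ normalizer (zpowers v : Set Y) ↔ ∃ k : ℤ, g * v * g⁻¹ = v ^ k := by
        intro Y _ _ g v
        rw [mem_normalizer_iff_map_conj_eq, MonoidHom.map_zpowers]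
        constructor
        · intro he
          obtain ⟨k, hk⟩ := mem_zpowers_iff.1 (he.le (mem_zpowers _))
          exact ⟨k, hk.symm⟩
        · rintro ⟨k, hk⟩
          refine eq_of_le_of_card_ge (zpowers_le.2 (mem_zpowers_iff.2 ⟨k, hk.symm⟩)) (le_of_eq ?_)
          rw [Nat.card_zpowers, Nat.card_zpowers]
          exact ((MulAut.conj g).orderOf_eq v).symm
      have h1 : (normalizer (zpowers (q p) : Set (C ⧸ zpowers zC))).comap q =
          normalizer (zpowers p : Set C) := by
        ext w
        rw [mem_comap, hcrit, hcrit]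
        constructor
        · rintro ⟨k, hk⟩
          exact ⟨k, hmod p _ hp (((MulAut.conj (w : G)).orderOf_eq _).trans hp) k (by
            rw [map_mul, map_mul, map_inv, hk])⟩
        · rintro ⟨k, hk⟩
          exact ⟨k, by rw [← map_inv, ← map_mul, ← map_mul, hk, map_zpow]⟩
      have h2 := hcomap (normalizer (zpowers (q p) : Set (C ⧸ zpowers zC)))
      have h3 : Nat.card (normalizer (zpowers p : Set C)) = 42 := by
        rw [← card_norm_cent hc hp hz hpz]
        exact Nat.card_congr
          { toFun := fun w => ⟨((w : C) : G), mem_inf.2 ⟨(hcrit _ _).2 (by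
                obtain ⟨k, hk⟩ := (hcrit _ _).1 w.2
                exact ⟨k, by simpa using congrArg Subtype.val hk⟩), (w : C).2⟩⟩
            invFun := fun g => ⟨⟨g.1, (mem_inf.1 g.2).2⟩, (hcrit _ _).2 (by
                obtain ⟨k, hk⟩ := (hcrit _ _).1 (mem_inf.1 g.2).1
                exact ⟨k, Subtype.ext (by simpa using hk)⟩)⟩
            left_inv := fun w => rfl
            right_inv := fun g => rfl }
      rw [h1, h3] at h2
      omega
  rcases H.out with ⟨hX, T, hT, hT9⟩ | ⟨hX, R, hR, hR6, ⟨e⟩⟩ | ⟨hsimp, hnc, hdvd, h27⟩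
  · refine ⟨by omega, Or.inl ⟨T.comap q, inferInstance, ?_⟩⟩
    rw [hcomap, hT9]
  · haveI := hR
    have hker : ((QuotientGroup.mk' R).comp q).ker = R.comap q := by
      rw [← MonoidHom.comap_ker, QuotientGroup.ker_mk']
    refine ⟨by omega, Or.inr ⟨⟨R.comap q, inferInstance, by rw [hcomap, hR6], ⟨?_⟩⟩⟩⟩
    exact ((QuotientGroup.quotientMulEquivOfEq hker.symm).trans
      (QuotientGroup.quotientKerEquivOfSurjective ((QuotientGroup.mk' R).comp q)
        ((QuotientGroup.mk'_surjective R).comp hqs))).trans e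
  · exfalso
    have hC27 : 27 ∣ Nat.card C := h27.trans ⟨2, hcardX.symm⟩
    have hne : Nat.card C ≠ 21504 := fun e => by
      rw [e] at hC27
      omega
    obtain ⟨u, hu, huz, hu27⟩ := hc.other27 z hz h7 hne
    -- a Sylow 3-subgroup of `G` inside the centraliser
    have hsyl : ∀ w : G, 27 ∣ Nat.card (centralizer ({w} : Set G)) →
        ∃ E : Sylow 3 G, (E : Subgroup G) ≤ centralizer ({w} : Set G) ∧
          Nat.card (E : Subgroup G) = 27 := by
      intro w hw
      obtain ⟨K, hK⟩ := Sylow.exists_subgroup_card_pow_prime (G := centralizer ({w} : Set G)) 3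
        (n := 3) (by norm_num; exact hw)
      have hcard : Nat.card (K.map (centralizer ({w} : Set G)).subtype) = 3 ^ 3 := by
        rw [← hK]
        exact (Nat.card_congr (K.equivMapOfInjective _ (subtype_injective _)).toEquiv).symm
      refine ⟨(IsPGroup.of_card hcard).toSylow ?_, map_subtype_le _, hcard⟩
      intro hd
      have h1 := (K.map (centralizer ({w} : Set G)).subtype).card_mul_index
      rw [hcard, hc.card] at h1
      obtain ⟨k, hk⟩ := hd
      norm_num at h1
      omega
    obtain ⟨E, hE, hE27⟩ := hsyl z hC27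
    obtain ⟨F, hF, -⟩ := hsyl u hu27
    obtain ⟨g, hg⟩ := MulAction.exists_smul_eq G F E
    set D := centralizer ((E : Subgroup G) : Set G) with hD
    have hzD : z ∈ D := mem_centralizer_iff.2 fun y hy => mem_centralizer_singleton_iff.1 (hE hy)
    have hu'D : g * u * g⁻¹ ∈ D := by
      refine mem_centralizer_iff.2 fun y hy => ?_
      rw [← hg, Sylow.coe_subgroup_smul, SetLike.mem_coe, mem_pointwise_smul_iff_inv_smul_mem] at hy
      have h1 := mem_centralizer_singleton_iff.1 (hF hy)
      rw [← map_inv, MulAut.smul_def, MulAut.conj_apply, inv_inv] at h1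
      calc y * (g * u * g⁻¹) = g * (g⁻¹ * y * g * u) * g⁻¹ := by group
        _ = g * (u * (g⁻¹ * y * g)) * g⁻¹ := by rw [h1]
        _ = g * u * g⁻¹ * y := by group
    obtain ⟨S, hS⟩ := (IsPGroup.of_card (n := 1) (by
      rw [Nat.card_zpowers, Subgroup.orderOf_mk, hz, pow_one]) :
      IsPGroup 2 (zpowers (⟨z, hzD⟩ : D))).exists_le_sylow
    obtain ⟨S₂, hS₂⟩ := (IsPGroup.of_card (n := 1) (by
      rw [Nat.card_zpowers, Subgroup.orderOf_mk, pow_one]
      exact ((MulAut.conj g).orderOf_eq u).trans hu) :
      IsPGroup 2 (zpowers (⟨_, hu'D⟩ : D))).exists_le_sylow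
    obtain ⟨d, hd⟩ := MulAction.exists_smul_eq D S₂ S
    set u₁ : D := d * ⟨_, hu'D⟩ * d⁻¹ with hu₁
    have hu₁S : u₁ ∈ (S : Subgroup D) := by
      have h1 : MulAut.conj d • (⟨_, hu'D⟩ : D) ∈ ((d • S₂ : Sylow 2 D) : Subgroup D) :=
        smul_mem_pointwise_smul _ _ _ (hS₂ (mem_zpowers _))
      rw [hd] at h1
      exact h1
    have hu₁2 : orderOf u₁ = 2 := by
      rw [hu₁, ← MulAut.conj_apply, MulEquiv.orderOf_eq, Subgroup.orderOf_mk]
      exact ((MulAut.conj g).orderOf_eq u).trans hu
    have hu₁z : (u₁ : G) ≠ z := fun e => huz (isConj_iff.2 ⟨(d : G) * g, by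
      rw [← e, hu₁]
      show (d : G) * g * u * ((d : G) * g)⁻¹ = (d : G) * (g * u * g⁻¹) * (d : G)⁻¹
      group⟩)
    have hzS : (⟨z, hzD⟩ : D) ∈ (S : Subgroup D) := hS (mem_zpowers _)
    haveI : Nontrivial (S : Subgroup D) :=
      ⟨⟨⟨_, hu₁S⟩, 1, fun e => by
        have h1 : u₁ = 1 := congrArg Subtype.val e
        rw [h1, orderOf_one] at hu₁2
        omega⟩⟩
    obtain ⟨w, hw⟩ := exists_prime_orderOf_dvd_card' 2 (G := center (S : Subgroup D)) (by
      haveI := S.2.center_nontrivial
      obtain ⟨n, hn⟩ := IsPGroup.iff_card.1 (S.2.to_subgroup (center (S : Subgroup D)))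
      have h1 := Finite.one_lt_card_iff_nontrivial.2 this
      rw [hn] at h1 ⊢
      rcases n with _ | n
      · simp at h1
      · exact dvd_pow_self 2 (Nat.succ_ne_zero n))
    have hw2 : orderOf (((w : (S : Subgroup D)) : D) : G) = 2 := by
      rw [Subgroup.orderOf_coe, Subgroup.orderOf_coe, Subgroup.orderOf_coe, hw]
    have hwc : ∀ v : D, v ∈ (S : Subgroup D) →
        Commute (((w : (S : Subgroup D)) : D) : G) (v : G) := fun v hv => by
      have h1 := mem_center_iff.1 w.2 ⟨v, hv⟩
      exact (congrArg Subtype.val (congrArg Subtype.val h1)).symm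
    obtain ⟨x, hx2, hxz, hxc, hxE⟩ : ∃ x : G, orderOf x = 2 ∧ x ≠ z ∧ Commute x z ∧ x ∈ D := by
      by_cases hwz : (((w : (S : Subgroup D)) : D) : G) = z
      · refine ⟨u₁, by rw [Subgroup.orderOf_coe]; exact hu₁2, hu₁z, ?_, u₁.2⟩
        have h1 := hwc u₁ hu₁S
        rw [hwz] at h1
        exact h1.symm
      · exact ⟨_, hw2, hwz, hwc ⟨z, hzD⟩ hzS, ((w : (S : Subgroup D)) : D).2⟩
    let xC : C := ⟨x, mem_centralizer_singleton_iff.2 hxc.eq⟩
    have hxq : orderOf (q xC) = 2 := by
      refine orderOf_eq_prime ?_ fun e => ?_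
      · rw [← map_pow, show xC ^ 2 = 1 from Subtype.ext (by
          show x ^ 2 = 1
          rw [← hx2, pow_orderOf_eq_one]), map_one]
      · rcases (hq1 xC).1 e with e | e
        · have h1 : x = 1 := congrArg Subtype.val e
          rw [h1, orderOf_one] at hx2
          omega
        · exact hxz (congrArg Subtype.val e)
    haveI := hsimp
    obtain ⟨P⟩ : Nonempty (Sylow 7 (C ⧸ zpowers zC)) := inferInstance
    have hP := H.sylow_card P
    haveI : IsCyclic (P : Subgroup (C ⧸ zpowers zC)) := isCyclic_of_prime_card hP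
    obtain ⟨w7, hw7⟩ := IsCyclic.exists_ofOrder_eq_natCard (α := (P : Subgroup (C ⧸ zpowers zC)))
    rw [hP] at hw7
    have hw7' : orderOf (w7 : C ⧸ zpowers zC) = 7 := (Subgroup.orderOf_coe w7).trans hw7
    have hPz : (P : Subgroup (C ⧸ zpowers zC)) = zpowers (w7 : C ⧸ zpowers zC) :=
      (eq_of_le_of_card_ge (zpowers_le.2 w7.2) (by rw [Nat.card_zpowers, hw7', hP])).symm
    have h7X : 7 ∣ Nat.card (C ⧸ zpowers zC) := hw7' ▸ orderOf_dvd_natCard _
    refine not_three_dvd_cent hnc hdvd h7X P ?_ ?_ hxq ?_
    · refine (eq_of_le_of_card_ge ?_ ?_).symm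
      · rw [hPz, cent_zpowers, zpowers_le]
        exact mem_centralizer_singleton_iff.2 rfl
      · rw [hPz, cent_zpowers, H.cent _ hw7', Nat.card_zpowers, hw7']
    · rw [hPz]; exact H.norm _ hw7'
    · -- the image of `E` commutes with `x`
      let f : (E : Subgroup G) →* C ⧸ zpowers zC :=
        q.comp (Subgroup.inclusion hE)
      have hf : Function.Injective f := by
        rw [injective_iff_map_eq_one]
        intro a ha
        rcases (hq1 _).1 ha with e | e
        · exact Subtype.ext (congrArg (fun c : C => (c : G)) e)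
        · exfalso
          have h1 : (a : G) = z := congrArg (fun c : C => (c : G)) e
          have h2 := Subgroup.orderOf_dvd_natCard _ a.2
          rw [h1, hz, hE27] at h2
          omega
      have hle : f.range ≤ centralizer ({q xC} : Set (C ⧸ zpowers zC)) := by
        rintro _ ⟨a, rfl⟩
        refine mem_centralizer_singleton_iff.2 ?_
        show q (Subgroup.inclusion hE a) * q xC = q xC * q (Subgroup.inclusion hE a)
        rw [← map_mul, ← map_mul]
        exact congrArg q (Subtype.ext (mem_centralizer_iff.1 hxE a a.2))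
      have h1 := card_dvd_of_le hle
      rwa [← Nat.card_congr (MonoidHom.ofInjective hf).toEquiv, hE27] at h1

end SevenProof

/-- **S3596, piece P2.** -/
theorem seven : StmtSeven.{u} := fun _ _ _ hc z hz h7 => SevenProof.zero hc z hz h7

end CfsgLib.M24Nse
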