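import Cfsg.Agent.Lib.M24Nse.Defs
import Cfsg.Agent.Lib.Small.Orders3640
import Cfsg.Agent.Lib.Small.A6Centralizer
import Cfsg.Agent.S0998
import Cfsg.Agent.S0255

/-!
# The group `C(z)/⟨z⟩` of piece P2

A group of order `10752`, `6048` or `48384` with self-centralising elements of order seven whose
subgroups are normalised by `7:3`.
-/

set_option autoImplicit false
set_option linter.style.haveILetI false

namespace CfsgLib.M24Nse

open Subgroup

universe u

/-- what is known of the quotient of the centraliser -/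
structure SevenHyp (X : Type u) [Group X] : Prop where
  card : Nat.card X ∈ [10752, 6048, 48384]
  cent : ∀ x : X, orderOf x = 7 → Nat.card (centralizer ({x} : Set X)) = 7
  norm : ∀ x : X, orderOf x = 7 → Nat.card (normalizer (zpowers x : Set X)) = 21

/-- the three outcomes -/
def SevenOut (X : Type u) [Group X] : Prop :=
  (Nat.card X = 10752 ∧ ∃ T : Subgroup X, T.Normal ∧ Nat.card T = 512) ∨
  (Nat.card X = 10752 ∧ ∃ (R : Subgroup X) (_ : R.Normal), Nat.card R = 64 ∧
    Nonempty ((X ⧸ R) ≃* Matrix.SpecialLinearGroup (Fin 3) (ZMod 2))) ∨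
  (IsSimpleGroup X ∧ ¬ IsMulCommutative X ∧ Nat.card X ∣ 48384 ∧ 27 ∣ Nat.card X)

variable {X : Type u} [Group X] [Finite X]

theorem mul_pred_dvd {q : ℕ} (F : Type) [Field F] [Fintype F] (hF : Fintype.card F = q)
    (hq : Odd q) (e : Nonempty (X ≃* Matrix.ProjectiveSpecialLinearGroup (Fin 2) F)) :
    2 * Nat.card X = q * (q ^ 2 - 1) := by
  obtain ⟨e⟩ := e
  rw [Nat.card_congr e.toEquiv]
  exact CfsgLib.Small.card_PSL_two_prime hF hq

/-- a simple group of order 168 is `SL(3, 2)` -/
theorem equiv_SL32 [IsSimpleGroup X] (h : Nat.card X = 168) :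
    Nonempty (X ≃* Matrix.SpecialLinearGroup (Fin 3) (ZMod 2)) := by
  haveI := CfsgLib.Small.fact_prime_7
  obtain ⟨f⟩ := CfsgLib.Small.equiv_PSL_two_7 (G := X) (by rw [h]; norm_num) (F := ZMod 7) (ZMod.card 7)
  obtain ⟨f'⟩ := Cfsg.Agent.S0255.result (F := ZMod 7) (K := ZMod 2) (ZMod.card 7) (ZMod.card 2)
  exact ⟨(f.trans f').trans
    ((QuotientGroup.quotientMulEquivOfEq CfsgLib.Small.center_SL_three_two).trans
      QuotientGroup.quotientBot)⟩

namespace SevenHyp

theorem exists_seven (h : SevenHyp X) : ∃ x : X, orderOf x = 7 := by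
  haveI : Fact (Nat.Prime 7) := ⟨by norm_num⟩
  refine exists_prime_orderOf_dvd_card' 7 ?_
  have := h.card
  simp only [List.mem_cons, List.not_mem_nil, or_false] at this
  omega

theorem not_sq (h : SevenHyp X) : ¬ 49 ∣ Nat.card X := by
  have := h.card
  simp only [List.mem_cons, List.not_mem_nil, or_false] at this
  omega

theorem sylow_card (h : SevenHyp X) [Fact (Nat.Prime 7)] (P : Sylow 7 X) :
    Nat.card (P : Subgroup X) = 7 := by
  obtain ⟨k, hk⟩ := IsPGroup.iff_card.mp P.2
  have hk2 : k ≤ 1 := by
    by_contra hgt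
    exact h.not_sq ((pow_dvd_pow 7 (show 2 ≤ k by omega)).trans (hk ▸ card_subgroup_dvd_card _))
  obtain ⟨x, hx⟩ := h.exists_seven
  have hk0 : k ≠ 0 := by
    rintro rfl
    refine P.not_dvd_index ?_
    have h1 := (P : Subgroup X).card_mul_index
    rw [hk, pow_zero, one_mul] at h1
    exact h1 ▸ hx ▸ orderOf_dvd_natCard x
  rw [hk, show k = 1 by omega, pow_one]

/-- a normal subgroup containing an element of order seven contains all of them -/
theorem mem_of_seven (h : SevenHyp X) (M : Subgroup X) [hM : M.Normal] {x : X} (hx : orderOf x = 7)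
    (hxM : x ∈ M) (y : X) (hy : orderOf y = 7) : y ∈ M := by
  haveI : Fact (Nat.Prime 7) := ⟨by norm_num⟩
  have hsyl : ∀ w : X, orderOf w = 7 → ∃ P : Sylow 7 X, (P : Subgroup X) = zpowers w := by
    intro w hw
    obtain ⟨P, hP⟩ := (IsPGroup.of_card (n := 1) (by rw [Nat.card_zpowers, hw, pow_one]) :
      IsPGroup 7 (zpowers w)).exists_le_sylow
    exact ⟨P, (eq_of_le_of_card_ge hP (by rw [h.sylow_card P, Nat.card_zpowers, hw])).symm⟩
  obtain ⟨P, hP⟩ := hsyl x hx
  obtain ⟨Q, hQ⟩ := hsyl y hy
  obtain ⟨g, hg⟩ := MulAction.exists_smul_eq X P Q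
  have hle : (Q : Subgroup X) ≤ M := by
    intro w hw
    rw [← hg, Sylow.coe_subgroup_smul, mem_pointwise_smul_iff_inv_smul_mem, hP] at hw
    have h1 := hM.conj_mem _ (zpowers_le.2 hxM hw) g
    simpa [MulAut.smul_def, MulAut.conj_apply, mul_assoc] using h1
  exact hle (hQ ▸ mem_zpowers y)

/-- a subgroup without elements of order seven normalised by one is one modulo seven -/
theorem card_mod (h : SevenHyp X) (K : Subgroup X) {x : X} (hx : orderOf x = 7)
    (hn : ∀ k ∈ K, x * k * x⁻¹ ∈ K) (h7 : ¬ 7 ∣ Nat.card K) : Nat.card K % 7 = 1 := by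
  haveI : Fact (Nat.Prime 7) := ⟨by norm_num⟩
  have hP : zpowers x ≤ normalizer (K : Set X) := by
    rw [zpowers_le, mem_normalizer_iff]
    intro k
    refine ⟨fun hk => hn k hk, fun hk => ?_⟩
    have hx6 : ∀ (i : ℕ), ∀ l ∈ K, x ^ i * l * (x ^ i)⁻¹ ∈ K := by
      intro i
      induction i with
      | zero => simp
      | succ i ih =>
        intro l hl
        rw [pow_succ', mul_inv_rev, show x * x ^ i * l * ((x ^ i)⁻¹ * x⁻¹) =
          x * (x ^ i * l * (x ^ i)⁻¹) * x⁻¹ by group]
        exact hn _ (ih l hl)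
    have h6 : x ^ 6 * x = 1 := by rw [← pow_succ]; simpa [hx] using pow_orderOf_eq_one x
    have h6' : x ^ 6 = x⁻¹ := eq_inv_of_mul_eq_one_left h6
    have := hx6 6 _ hk
    rw [h6', show x⁻¹ * (x * k * x⁻¹) * x⁻¹⁻¹ = k by group] at this
    exact this
  letI : MulAction (zpowers x) K :=
    { smul := fun a k => ⟨(a : X) * k * (a : X)⁻¹, (mem_normalizer_iff.1 (hP a.2) k).1 k.2⟩
      one_smul := fun k => Subtype.ext (show (1 : X) * k * (1 : X)⁻¹ = k by simp)
      mul_smul := fun a b k => Subtype.ext (show (a : X) * b * k * ((a : X) * b)⁻¹ =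
        a * (b * k * (b : X)⁻¹) * (a : X)⁻¹ by group) }
  have hpg : IsPGroup 7 (zpowers x) := IsPGroup.of_card (n := 1) (by rw [Nat.card_zpowers, hx, pow_one])
  have hmod := hpg.card_modEq_card_fixedPoints K
  have hfix : Nat.card (MulAction.fixedPoints (zpowers x) K) = 1 := by
    rw [Nat.card_eq_one_iff_unique]
    refine ⟨⟨fun a b => ?_⟩, ⟨⟨1, fun a => Subtype.ext (show (a : X) * 1 * (a : X)⁻¹ = 1 by simp)⟩⟩⟩
    have key : ∀ c : MulAction.fixedPoints (zpowers x) K, ((c : K) : X) = 1 := by
      intro c
      have hc : x * ((c : K) : X) * x⁻¹ = ((c : K) : X) :=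
        congrArg Subtype.val (c.2 ⟨x, mem_zpowers x⟩)
      have hmem : ((c : K) : X) ∈ centralizer ({x} : Set X) :=
        mem_centralizer_singleton_iff.2 (mul_inv_eq_iff_eq_mul.1 hc).symm
      have hd : orderOf ((c : K) : X) ∣ 7 := h.cent x hx ▸ Subgroup.orderOf_dvd_natCard _ hmem
      rcases (Nat.dvd_prime (by norm_num)).1 hd with e | e
      · exact orderOf_eq_one_iff.1 e
      · exact absurd (e ▸ Subgroup.orderOf_dvd_natCard _ (c : K).2) h7
    exact Subtype.ext (Subtype.ext ((key a).trans (key b).symm))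
  rw [hfix] at hmod
  exact hmod

/-- a normal subgroup without elements of order seven is a 2-group -/
theorem two_group (h : SevenHyp X) (K : Subgroup X) [hK : K.Normal] (h7 : ¬ 7 ∣ Nat.card K) :
    IsPGroup 2 K := by
  haveI : Fact (Nat.Prime 7) := ⟨by norm_num⟩
  haveI : Fact (Nat.Prime 3) := ⟨by norm_num⟩
  obtain ⟨x, hx⟩ := h.exists_seven
  have hdvd : Nat.card K ∣ 2 ^ 9 * 3 ^ 3 := by
    have h1 : Nat.card K ∣ (2 ^ 9 * 3 ^ 3) * 7 := by
      refine (card_subgroup_dvd_card K).trans ?_
      have := h.card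
      simp only [List.mem_cons, List.not_mem_nil, or_false] at this
      rcases this with e | e | e <;> rw [e] <;> decide
    exact (Nat.Coprime.dvd_of_dvd_mul_right
      ((Nat.Prime.coprime_iff_not_dvd (by norm_num)).2 h7).symm h1)
  -- the Sylow 3-subgroups of `K`, permuted by `x`
  let S : Type u := Sylow 3 K
  have hn : Nat.card (Sylow 3 K) ∣ 2 ^ 9 := by
    obtain ⟨P⟩ : Nonempty (Sylow 3 K) := inferInstance
    have h1 : Nat.card (Sylow 3 K) ∣ Nat.card K := by
      rw [Sylow.card_eq_index_normalizer P]
      exact index_dvd_card _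
    refine Nat.Coprime.dvd_of_dvd_mul_right ?_ (h1.trans hdvd)
    have h3 : Nat.card (Sylow 3 K) % 3 = 1 := by
      have := card_sylow_modEq_one 3 K
      exact this
    exact (Nat.Coprime.pow_left 3 ((Nat.Prime.coprime_iff_not_dvd Nat.prime_three).2
      (by omega))).symm
  let c : zpowers x →* MulAut K := (MulAut.conjNormal (H := K)).comp (zpowers x).subtype
  letI : MulDistribMulAction (zpowers x) K := MulDistribMulAction.compHom _ c
  have hpg : IsPGroup 7 (zpowers x) := IsPGroup.of_card (n := 1) (by rw [Nat.card_zpowers, hx, pow_one])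
  have hmod := hpg.card_modEq_card_fixedPoints (Sylow 3 K)
  have hne : Nat.card (MulAction.fixedPoints (zpowers x) (Sylow 3 K)) ≠ 0 := by
    intro h0
    rw [h0] at hmod
    have h70 : 7 ∣ Nat.card (Sylow 3 K) := Nat.modEq_zero_iff_dvd.1 hmod
    exact absurd (h70.trans hn) (by decide)
  obtain ⟨⟨P, hP⟩⟩ := (Nat.card_ne_zero.1 hne).1
  set P' := (P : Subgroup K).map K.subtype with hP'
  have hnorm : ∀ k ∈ P', x * k * x⁻¹ ∈ P' := by
    rintro _ ⟨k, hk, rfl⟩
    refine ⟨MulAut.conjNormal x k, ?_, MulAut.conjNormal_apply x k⟩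
    have h1 : (⟨x, mem_zpowers x⟩ : zpowers x) • k ∈
        ((⟨x, mem_zpowers x⟩ : zpowers x) • P : Sylow 3 K) :=
      Subgroup.smul_mem_pointwise_smul k _ _ hk
    rw [hP ⟨x, mem_zpowers x⟩] at h1
    exact h1
  obtain ⟨b, hb⟩ := IsPGroup.iff_card.mp P.2
  have hcard' : Nat.card P' = 3 ^ b := by rw [hP', card_map_of_injective K.subtype_injective, hb]
  have hb3 : b ≤ 3 := by
    by_contra hgt
    have h1 : 3 ^ 4 ∣ 2 ^ 9 * 3 ^ 3 :=
      (pow_dvd_pow 3 (show 4 ≤ b by omega)).trans ((hb ▸ card_subgroup_dvd_card _).trans hdvd)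
    exact absurd h1 (by decide)
  have h1 := h.card_mod P' hx hnorm (by
    rw [hcard']
    exact fun hd => absurd ((Nat.prime_dvd_prime_iff_eq (by norm_num) Nat.prime_three).1
      (Nat.Prime.dvd_of_dvd_pow (by norm_num) hd)) (by norm_num))
  rw [hcard'] at h1
  have hb0 : b = 0 := by interval_cases b <;> simp_all
  have h3 : ¬ 3 ∣ Nat.card K := by
    intro hd
    refine P.not_dvd_index ?_
    have h2 := (P : Subgroup K).card_mul_index
    rw [hb, hb0, pow_zero, one_mul] at h2
    rwa [h2]
  have h9 : Nat.card K ∣ 2 ^ 9 := Nat.Coprime.dvd_of_dvd_mul_right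
    (Nat.Coprime.pow_right 3 ((Nat.Prime.coprime_iff_not_dvd Nat.prime_three).2 h3).symm) hdvd
  obtain ⟨a, -, ha⟩ := (Nat.dvd_prime_pow Nat.prime_two).1 h9
  exact IsPGroup.of_card ha

theorem out (h : SevenHyp X) : SevenOut X := by
  haveI : Fact (Nat.Prime 7) := ⟨by norm_num⟩
  haveI : Fact (Nat.Prime 2) := ⟨Nat.prime_two⟩
  obtain ⟨x, hx⟩ := h.exists_seven
  -- a largest normal 2-subgroup
  obtain ⟨N, ⟨hNn, hN2⟩, hmax⟩ := Set.Finite.exists_maximal
    (s := {N : Subgroup X | N.Normal ∧ IsPGroup 2 N}) (Set.toFinite _)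
    ⟨⊥, inferInstance, IsPGroup.of_bot⟩
  haveI := hNn
  obtain ⟨a, ha⟩ := IsPGroup.iff_card.mp hN2
  have hN7 : ¬ 7 ∣ Nat.card N := by
    rw [ha]
    exact fun hd => absurd ((Nat.prime_dvd_prime_iff_eq (by norm_num) Nat.prime_two).1
      (Nat.Prime.dvd_of_dvd_pow (by norm_num) hd)) (by norm_num)
  have hxN : x ∉ N := fun hm => hN7 (hx ▸ Subgroup.orderOf_dvd_natCard _ hm)
  have hNmod := h.card_mod N hx (fun k hk => hNn.conj_mem k hk x) hN7
  -- every larger normal subgroup contains the elements of order seven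
  have hbig : ∀ K : Subgroup X, K.Normal → N ≤ K → ¬ K ≤ N → ∀ y : X, orderOf y = 7 → y ∈ K := by
    intro K hK hNK hKN y hy
    haveI := hK
    by_cases h7 : 7 ∣ Nat.card K
    · obtain ⟨w, hw⟩ := exists_prime_orderOf_dvd_card' 7 h7
      exact h.mem_of_seven K (x := (w : X)) (by rw [Subgroup.orderOf_coe, hw]) w.2 y hy
    · exact absurd (hmax ⟨hK, h.two_group K h7⟩ hNK) hKN
  set M := normalClosure ({x} : Set X) ⊔ N with hM
  have hxM : x ∈ M := mem_sup_left (subset_normalClosure rfl)
  haveI : M.Normal := sup_normal _ _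
  -- Frattini
  have hidx : M.index = 1 ∨ M.index = 3 := by
    have hsyl : ∀ g : X, ∃ m ∈ M, m * g ∈ normalizer (zpowers x : Set X) := by
      intro g
      have hy : orderOf (g * x * g⁻¹) = 7 := ((MulAut.conj g).orderOf_eq x).trans hx
      have hyM : g * x * g⁻¹ ∈ M := Subgroup.Normal.conj_mem inferInstance x hxM g
      have hP : ∀ w : M, orderOf w = 7 → ∃ P : Sylow 7 M, (P : Subgroup M) = zpowers w := by
        intro w hw
        refine ⟨(IsPGroup.of_card (n := 1) (by rw [Nat.card_zpowers, hw, pow_one]) :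
          IsPGroup 7 (zpowers w)).toSylow ?_, rfl⟩
        intro hd
        have h1 := (zpowers w).card_mul_index
        rw [Nat.card_zpowers, hw] at h1
        exact h.not_sq ((Nat.mul_dvd_mul_left 7 hd).trans (h1 ▸ card_subgroup_dvd_card M))
      obtain ⟨P, hP1⟩ := hP ⟨x, hxM⟩ ((Subgroup.orderOf_mk x hxM).trans hx)
      obtain ⟨Q, hQ1⟩ := hP ⟨_, hyM⟩ ((Subgroup.orderOf_mk _ hyM).trans hy)
      obtain ⟨m, hm⟩ := MulAction.exists_smul_eq M Q P
      refine ⟨m, m.2, ?_⟩
      have h1 : MulAut.conj m • (⟨_, hyM⟩ : M) ∈ ((m • Q : Sylow 7 M) : Subgroup M) :=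
        Subgroup.smul_mem_pointwise_smul _ _ _ (hQ1 ▸ mem_zpowers _)
      rw [hm, hP1] at h1
      have h2 : (m : X) * (g * x * g⁻¹) * (m : X)⁻¹ ∈ zpowers x := by
        obtain ⟨k, hk⟩ := mem_zpowers_iff.1 h1
        exact mem_zpowers_iff.2 ⟨k, by
          simpa [MulAut.smul_def, MulAut.conj_apply] using congrArg Subtype.val hk⟩
      rw [show (m : X) * (g * x * g⁻¹) * (m : X)⁻¹ = (m * g : X) * x * (m * g : X)⁻¹ by group] at h2
      rw [mem_normalizer_iff_map_conj_eq, MonoidHom.map_zpowers]
      refine eq_of_le_of_card_ge (zpowers_le.2 h2) (le_of_eq ?_)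
      rw [Nat.card_zpowers, Nat.card_zpowers]
      exact ((MulAut.conj ((m : X) * g)).orderOf_eq x).symm
    have hsup : M ⊔ normalizer (zpowers x : Set X) = ⊤ := by
      rw [eq_top_iff]
      intro g _
      obtain ⟨m, hm, hmg⟩ := hsyl g
      have h1 : m⁻¹ * (m * g) ∈ M ⊔ normalizer (zpowers x : Set X) :=
        mul_mem (mem_sup_left (inv_mem hm)) (mem_sup_right hmg)
      rwa [inv_mul_cancel_left] at h1
    have h1 : M.index = M.relIndex (normalizer (zpowers x : Set X)) := by
      rw [← relIndex_top_right, ← hsup, relIndex_sup_left]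
    have h2 : M.relIndex (normalizer (zpowers x : Set X)) * 7 ∣ 21 := by
      rw [← h.norm x hx]
      have h3 := (M.subgroupOf (normalizer (zpowers x : Set X))).card_mul_index
      rw [← h3, mul_comm _ (M.subgroupOf _).index]
      refine Nat.mul_dvd_mul_left _ ?_
      rw [← hx, ← Subgroup.orderOf_mk x (le_normalizer (mem_zpowers x))]
      exact Subgroup.orderOf_dvd_natCard _ (show x ∈ M from hxM)
    rw [h1]
    have h3 : M.relIndex (normalizer (zpowers x : Set X)) ∣ 3 :=
      Nat.dvd_of_mul_dvd_mul_right (by norm_num : 0 < 7) (by norm_num; exact h2)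
    exact (Nat.dvd_prime Nat.prime_three).1 h3
  have hcardX := h.card
  simp only [List.mem_cons, List.not_mem_nil, or_false] at hcardX
  have ha9 : a ≤ 9 := by
    by_contra hgt
    have h1 : 2 ^ 10 ∣ Nat.card X :=
      (pow_dvd_pow 2 (show 10 ≤ a by omega)).trans (ha ▸ card_subgroup_dvd_card N)
    rcases hcardX with e | e | e <;> rw [e] at h1 <;> exact absurd h1 (by decide)
  have ha3 : a = 0 ∨ a = 3 ∨ a = 6 ∨ a = 9 := by
    rw [ha] at hNmod
    interval_cases a <;> simp_all
  have hNdvd : 2 ^ a ∣ Nat.card X := ha ▸ card_subgroup_dvd_card N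
  rcases hidx with hidx | hidx
  · -- the quotient is simple
    have hMtop : M = ⊤ := index_eq_one.1 hidx
    have hmax' : ∀ K : Subgroup X, K.Normal → N ≤ K → K = N ∨ K = ⊤ := by
      intro K hK hNK
      by_cases hKN : K ≤ N
      · exact Or.inl (le_antisymm hKN hNK)
      · right
        haveI := hK
        rw [eq_top_iff, ← hMtop, hM]
        exact sup_le (normalClosure_le_normal (Set.singleton_subset_iff.2 (hbig K hK hNK hKN x hx))) hNK
    haveI : Nontrivial (X ⧸ N) := by
      refine ⟨⟨(x : X ⧸ N), 1, fun e => hxN ((QuotientGroup.eq_one_iff x).1 e)⟩⟩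
    haveI hsimp : IsSimpleGroup (X ⧸ N) := by
      refine ⟨fun K hK => ?_⟩
      have hs := QuotientGroup.mk'_surjective N
      rcases hmax' (K.comap (QuotientGroup.mk' N)) inferInstance (fun n hn => by
        rw [mem_comap, QuotientGroup.mk'_apply, (QuotientGroup.eq_one_iff n).2 hn]
        exact one_mem _) with e | e
      · left
        rw [← map_comap_eq_self_of_surjective hs K, e, QuotientGroup.map_mk'_self]
      · right
        rw [← map_comap_eq_self_of_surjective hs K, e, map_top_of_surjective _ hs]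
    have hqc : Nat.card (X ⧸ N) * 2 ^ a = Nat.card X := by
      rw [← ha, ← card_eq_card_quotient_mul_card_subgroup]
    have hnc : ¬ IsMulCommutative (X ⧸ N) := by
      intro hc
      letI : CommGroup (X ⧸ N) := { (inferInstance : Group (X ⧸ N)) with mul_comm := hc.is_comm.comm }
      haveI := IsSimpleGroup.isCyclic (α := X ⧸ N)
      have hp := IsSimpleGroup.prime_card (α := X ⧸ N)
      rcases hcardX with e | e | e <;> rw [e] at hqc <;> rcases ha3 with rfl | rfl | rfl | rfl <;>
        first
          | (exfalso; norm_num at hqc; omega)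
          | (norm_num at hqc
             first
               | (rw [hqc] at hp; norm_num at hp)
               | (rw [show Nat.card (X ⧸ N) = 1344 by omega] at hp; norm_num at hp)
               | (rw [show Nat.card (X ⧸ N) = 168 by omega] at hp; norm_num at hp)
               | (rw [show Nat.card (X ⧸ N) = 21 by omega] at hp; norm_num at hp)
               | (rw [show Nat.card (X ⧸ N) = 756 by omega] at hp; norm_num at hp)
               | (rw [show Nat.card (X ⧸ N) = 6048 by omega] at hp; norm_num at hp))
    have hsmall := fun hlt => CfsgLib.Small.Below6000.card_simple_lt_6000 (G := X ⧸ N) hnc hlt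
    simp only [List.mem_cons, List.not_mem_nil, or_false] at hsmall
    rcases ha3 with rfl | rfl | rfl | rfl
    · -- the whole group is simple
      rw [pow_zero, mul_one] at hqc
      have hNbot : N = ⊥ := card_eq_one.1 (by rw [ha, pow_zero])
      let e : X ⧸ N ≃* X :=
        (QuotientGroup.quotientMulEquivOfEq hNbot).trans QuotientGroup.quotientBot
      rcases hcardX with hX | hX | hX
      · exfalso
        have hnc' : ¬ IsCyclic (X ⧸ N) := fun hc => hnc hc.isMulCommutative
        rcases Cfsg.Agent.S0998.result hnc' 3 2 7 9 (by norm_num) Nat.prime_two (by norm_num)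
          (by norm_num) (by norm_num) (by norm_num) (by rw [hqc, hX]; norm_num) with
          ⟨F, _, _, hF, he⟩ | ⟨F, _, _, hF, he⟩
        · have := mul_pred_dvd F hF (by decide) he
          rw [hqc, hX] at this
          omega
        · have := mul_pred_dvd F hF (by decide) he
          rw [hqc, hX] at this
          omega
      all_goals
        right; right
        refine ⟨e.symm.isSimpleGroup, fun hc => hnc ⟨⟨fun p q => e.injective ?_⟩⟩, ?_, ?_⟩
        · rw [map_mul, map_mul]; exact hc.is_comm.comm _ _
        · rw [hX] <;> decide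
        · rw [hX] <;> decide
    · -- a normal subgroup of order eight
      rcases hcardX with hX | hX | hX
      · exfalso; rw [hX] at hqc; have := hsmall (by omega); omega
      · exfalso; rw [hX] at hqc; have := hsmall (by omega); omega
      · exfalso
        set C := centralizer (N : Set X)
        have hxC : x ∉ C := fun hc => by
          have h1 : N ≤ centralizer ({x} : Set X) := fun n hn =>
            mem_centralizer_singleton_iff.2 (mem_centralizer_iff.1 hc n hn)
          have h2 := card_dvd_of_le h1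
          rw [h.cent x hx, ha] at h2
          exact absurd h2 (by decide)
        have hCN : C ≤ N := by
          by_contra hCN
          by_cases h7 : 7 ∣ Nat.card C
          · obtain ⟨w, hw⟩ := exists_prime_orderOf_dvd_card' 7 h7
            exact hxC (h.mem_of_seven C (x := (w : X)) (by rw [Subgroup.orderOf_coe, hw]) w.2 x hx)
          · have h2 := IsPGroup.to_sup_of_normal_right (h.two_group C h7) hN2
            haveI : (C ⊔ N).Normal := sup_normal _ _
            exact hCN (le_sup_left.trans (hmax ⟨inferInstance, h2⟩ le_sup_right))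
        -- the action on the seven involutions
        letI : MulAction X {n : X // n ∈ N ∧ n ≠ 1} :=
          { smul := fun g n => ⟨g * n * g⁻¹, hNn.conj_mem _ n.2.1 g, fun e => n.2.2 (by
              simpa using e)⟩
            one_smul := fun n => Subtype.ext (show (1 : X) * n * (1 : X)⁻¹ = n by simp)
            mul_smul := fun g g' n => Subtype.ext (show g * g' * n * (g * g')⁻¹ =
              g * (g' * n * g'⁻¹) * g⁻¹ by group) }
        let φ := MulAction.toPermHom X {n : X // n ∈ N ∧ n ≠ 1}
        have hker : φ.ker ≤ C := by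
          intro g hg
          rw [mem_centralizer_iff]
          intro n hn
          by_cases h1 : n = 1
          · simp [h1]
          · have h2 : g • (⟨n, hn, h1⟩ : {n : X // n ∈ N ∧ n ≠ 1}) = ⟨n, hn, h1⟩ :=
              Equiv.congr_fun (MonoidHom.mem_ker.1 hg) _
            exact (mul_inv_eq_iff_eq_mul.1 (congrArg Subtype.val h2)).symm
        have hcardsub : Nat.card {n : X // n ∈ N ∧ n ≠ 1} = 7 := by
          classical
          have e : {n : X // n ∈ N ∧ n ≠ 1} ≃ {n : N // n ≠ 1} :=
            { toFun := fun n => ⟨⟨n.1, n.2.1⟩, fun e => n.2.2 (congrArg Subtype.val e)⟩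
              invFun := fun n => ⟨n.1.1, n.1.2, fun e => n.2 (Subtype.ext e)⟩
              left_inv := fun n => rfl
              right_inv := fun n => rfl }
          rw [Nat.card_congr e]
          letI := Fintype.ofFinite N
          rw [Nat.card_eq_fintype_card, Fintype.card_subtype_compl, Fintype.card_subtype_eq,
            ← Nat.card_eq_fintype_card, ha]
          rfl
        have h1 := φ.ker.card_mul_index
        have h2 : φ.ker.index ≤ 5040 := by
          rw [Subgroup.index_ker]
          refine (Nat.card_le_card_of_injective _ Subtype.val_injective).trans ?_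
          rw [Nat.card_perm, hcardsub]
          rfl
        have h3 : Nat.card φ.ker ≤ 8 := by
          have := card_le_of_le (hker.trans hCN)
          rwa [ha] at this
        have h4 := Nat.mul_le_mul h3 h2
        rw [h1, hX] at h4
        omega
    · -- a normal subgroup of order sixty-four
      rcases hcardX with hX | hX | hX
      · right; left
        rw [hX] at hqc
        refine ⟨hX, N, hNn, ha, equiv_SL32 (by omega)⟩
      · exfalso; rw [hX] at hqc hNdvd; norm_num at hNdvd
      · exfalso; rw [hX] at hqc; have := hsmall (by omega); omega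
    · -- a normal subgroup of order 512
      rcases hcardX with hX | hX | hX
      · exact Or.inl ⟨hX, N, hNn, ha⟩
      all_goals (exfalso; rw [hX] at hNdvd; norm_num at hNdvd)
  · -- `7 : 3`
    obtain ⟨P⟩ : Nonempty (Sylow 7 M) := inferInstance
    have hP7 : Nat.card (P : Subgroup M) = 7 := by
      obtain ⟨k, hk⟩ := IsPGroup.iff_card.mp P.2
      have hk2 : k ≤ 1 := by
        by_contra hgt
        exact h.not_sq ((pow_dvd_pow 7 (show 2 ≤ k by omega)).trans
          ((hk ▸ card_subgroup_dvd_card _).trans (card_subgroup_dvd_card M)))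
      have hk0 : k ≠ 0 := by
        rintro rfl
        refine P.not_dvd_index ?_
        have h1 := (P : Subgroup M).card_mul_index
        rw [hk, pow_zero, one_mul] at h1
        rw [h1, ← hx]
        exact Subgroup.orderOf_dvd_natCard _ hxM
      rw [hk, show k = 1 by omega, pow_one]
    haveI : IsCyclic (P : Subgroup M) := isCyclic_of_prime_card hP7
    obtain ⟨w, hw⟩ := IsCyclic.exists_ofOrder_eq_natCard (α := (P : Subgroup M))
    rw [hP7] at hw
    have hyo : orderOf ((w : M) : X) = 7 := by rw [Subgroup.orderOf_coe, Subgroup.orderOf_coe, hw]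
    have hNC : normalizer ((P : Subgroup M) : Set M) ≤ centralizer ((P : Subgroup M) : Set M) := by
      have hPeq : (P : Subgroup M) = zpowers (w : M) := (eq_of_le_of_card_ge (zpowers_le.2 w.2)
        (by rw [Nat.card_zpowers, Subgroup.orderOf_coe, hw, hP7])).symm
      -- the normaliser in `M` is a proper part of `7 : 3`
      set A := (normalizer ((P : Subgroup M) : Set M)).map M.subtype with hA
      have hAle : A ≤ normalizer (zpowers ((w : M) : X) : Set X) := by
        rintro _ ⟨g, hg, rfl⟩
        rw [mem_normalizer_iff_map_conj_eq, MonoidHom.map_zpowers]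
        have h1 : g * (w : M) * g⁻¹ ∈ (P : Subgroup M) :=
          ((mem_normalizer_iff.1 hg) _).1 w.2
        obtain ⟨k, hk⟩ := mem_zpowers_iff.1 (hPeq.le h1)
        refine eq_of_le_of_card_ge (zpowers_le.2 (mem_zpowers_iff.2 ⟨k, ?_⟩)) (le_of_eq ?_)
        · exact congrArg Subtype.val hk
        · rw [Nat.card_zpowers, Nat.card_zpowers]
          exact ((MulAut.conj (M.subtype g)).orderOf_eq _).symm
      have hA7 : Nat.card A = 7 := by
        have h1 := card_dvd_of_le hAle
        rw [h.norm _ hyo] at h1
        have h2 : 7 ∣ Nat.card A := by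
          rw [← hyo]
          exact Subgroup.orderOf_dvd_natCard _ ⟨(w : M), le_normalizer w.2, rfl⟩
        obtain ⟨l, hl⟩ := h2
        rw [hl] at h1
        have hl3 := Nat.dvd_of_mul_dvd_mul_left (by norm_num : 0 < 7)
          (show 7 * l ∣ 7 * 3 by norm_num; exact h1)
        rcases (Nat.dvd_prime Nat.prime_three).1 hl3 with rfl | rfl
        · omega
        exfalso
        have e : Nat.card A = 21 := by rw [hl]
        have hM1 : normalizer (zpowers ((w : M) : X) : Set X) ≤ M := by
          rw [← eq_of_le_of_card_ge hAle (le_of_eq (by rw [e, h.norm _ hyo]))]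
          exact map_subtype_le _
        -- then Frattini makes `M` everything
        have hall : ∀ g : X, g ∈ M := by
          intro g
          have hy : orderOf (g * ((w : M) : X) * g⁻¹) = 7 :=
            ((MulAut.conj g).orderOf_eq _).trans hyo
          obtain ⟨Q, hQ⟩ : ∃ Q : Sylow 7 M, g * ((w : M) : X) * g⁻¹ ∈ (Q : Subgroup M).map M.subtype := by
            have hyM : g * ((w : M) : X) * g⁻¹ ∈ M :=
              Subgroup.Normal.conj_mem inferInstance _ (w : M).2 g
            obtain ⟨Q, hQ⟩ := (IsPGroup.of_card (n := 1) (by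
              rw [Nat.card_zpowers, ← Subgroup.orderOf_coe, pow_one]
              exact hy) : IsPGroup 7 (zpowers (⟨_, hyM⟩ : M))).exists_le_sylow
            exact ⟨Q, ⟨_, hQ (mem_zpowers _), rfl⟩⟩
          obtain ⟨m, hm⟩ := MulAction.exists_smul_eq M Q P
          obtain ⟨q, hq, hqe⟩ := hQ
          have h3 : MulAut.conj m • q ∈ ((m • Q : Sylow 7 M) : Subgroup M) :=
            Subgroup.smul_mem_pointwise_smul _ _ _ hq
          rw [hm, hPeq] at h3
          obtain ⟨k, hk⟩ := mem_zpowers_iff.1 h3
          have hk' : ((w : M) : X) ^ k = (m : X) * (q : X) * (m : X)⁻¹ := by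
            simpa [MulAut.smul_def, MulAut.conj_apply] using congrArg Subtype.val hk
          have h4 : (m : X) * g ∈ normalizer (zpowers ((w : M) : X) : Set X) := by
            rw [mem_normalizer_iff_map_conj_eq, MonoidHom.map_zpowers]
            refine eq_of_le_of_card_ge (zpowers_le.2 (mem_zpowers_iff.2 ⟨k, ?_⟩)) (le_of_eq ?_)
            · rw [hk', show (q : X) = g * ((w : M) : X) * g⁻¹ from hqe]
              show (m : X) * (g * ((w : M) : X) * g⁻¹) * (m : X)⁻¹ =
                (m : X) * g * ((w : M) : X) * ((m : X) * g)⁻¹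
              group
            · rw [Nat.card_zpowers, Nat.card_zpowers]
              exact ((MulAut.conj ((m : X) * g)).orderOf_eq _).symm
          have := mul_mem (inv_mem m.2) (hM1 h4)
          rwa [inv_mul_cancel_left] at this
        rw [(eq_top_iff.2 fun g _ => hall g : M = ⊤), index_top] at hidx
        omega
      intro g hg
      rw [hPeq, zpowers_eq_closure, centralizer_closure, mem_centralizer_singleton_iff]
      have h1 : (zpowers ((w : M) : X)) = A := eq_of_le_of_card_ge
        (zpowers_le.2 ⟨(w : M), le_normalizer w.2, rfl⟩) (by rw [hA7, Nat.card_zpowers, hyo])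
      have h2 : (g : X) ∈ zpowers ((w : M) : X) := h1 ▸ ⟨g, hg, rfl⟩
      obtain ⟨k, hk⟩ := mem_zpowers_iff.1 h2
      exact Subtype.ext (by
        show (g : X) * ((w : M) : X) = ((w : M) : X) * (g : X)
        rw [← hk]; exact ((Commute.refl _).zpow_left k).eq)
    have hcompl := MonoidHom.ker_transferSylow_isComplement' P hNC
    set Q := (MonoidHom.transferSylow P hNC).ker with hQdef
    have hQ7 : ¬ 7 ∣ Nat.card Q := MonoidHom.not_dvd_card_ker_transferSylow P hNC
    haveI : Q.Characteristic := by
      refine characteristic_iff_comap_eq.2 fun e => ?_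
      ext g
      -- `Q` is the set of elements of order prime to seven
      have hQ : ∀ g : M, g ∈ Q ↔ ¬ 7 ∣ orderOf g := by
        intro g
        constructor
        · exact fun hg hd => hQ7 (hd.trans (Subgroup.orderOf_dvd_natCard _ hg))
        · intro hd
          have h1 : g ^ Q.index ∈ Q := Subgroup.pow_index_mem Q g
          rw [hcompl.symm.index_eq_card, hP7] at h1
          have hco : Nat.Coprime 7 (orderOf g) := (Nat.Prime.coprime_iff_not_dvd (by norm_num)).2 hd
          exact zpowers_le.2 h1 (mem_zpowers_pow_iff.2 hco)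
      rw [mem_comap, hQ, hQ]
      show ¬ 7 ∣ orderOf (e g) ↔ _
      rw [MulEquiv.orderOf_eq]
    haveI : (Q.map M.subtype).Normal := ConjAct.normal_of_characteristic_of_normal
    have hQ2 := h.two_group (Q.map M.subtype) (by rwa [card_map_of_injective M.subtype_injective])
    have hQN : Q.map M.subtype ⊔ N ≤ N := by
      haveI : (Q.map M.subtype ⊔ N).Normal := sup_normal _ _
      exact hmax ⟨inferInstance, IsPGroup.to_sup_of_normal_right hQ2 hN2⟩ le_sup_right
    have hcQ : Nat.card Q ≤ 2 ^ a := by
      rw [← ha, Nat.card_congr (Q.equivMapOfInjective M.subtype M.subtype_injective).toEquiv]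
      exact card_le_of_le (le_sup_left.trans hQN)
    have hM7 : Nat.card M = Nat.card Q * 7 := by
      rw [← Q.card_mul_index, hcompl.symm.index_eq_card, hP7]
    have h21 := M.card_mul_index
    rw [hidx, hM7] at h21
    rcases hcardX with hX | hX | hX <;> rw [hX] at h21 hNdvd <;>
      rcases ha3 with rfl | rfl | rfl | rfl
    all_goals first
      | exact Or.inl ⟨hX, N, hNn, ha⟩
      | (exfalso; norm_num at hcQ hNdvd; omega)
      | (exfalso; norm_num at hcQ; omega)

end SevenHyp

end CfsgLib.M24Nse
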