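import Mathlib

/-!
# Representatives and search plans for the classes of the Mathieu group of degree 24

Generated data: packed permutations, orbit plans with code words, chains of points with the
lengths of their cycles (the last point is fixed first).
-/

set_option autoImplicit false

namespace CfsgLib.M24Nse

/-- a fixed-point-free involution -/
def el2B : ℕ := 1795248432537898728475572672376535

/-- an element of order 2 -/
def el2A : ℕ := 383403601142634618300906042712240549

/-- its search plan -/
def plan2A : List (ℕ × ℕ × List ℕ) :=
  [(20, 1, []),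
    (8, 1, []),
    (10, 1, []),
    (1, 2, []),
    (16, 1, []),
    (2, 2, [1127686]),
    (17, 1, []),
    (7, 2, []),
    (18, 1, [4593028]),
    (21, 2, [2501890]),
    (14, 1, [351362]),
    (5, 2, [15777]),
    (15, 2, [36294, 153797]),
    (23, 2, [18147, 8455014]),
    (3, 2, [72588, 530245]),
    (4, 1, [5279])]

/-- its chain of points -/
def chain2A : List (ℕ × ℕ) := [(10, 1), (8, 1), (20, 1)]

/-- an element of order 3 -/
def el3A : ℕ := 801383458370035010535791956261592111

/-- its search plan -/
def plan3A : List (ℕ × ℕ × List ℕ) :=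
  [(20, 1, []),
    (16, 1, []),
    (4, 1, []),
    (6, 3, []),
    (5, 3, [5309160]),
    (23, 3, [8978620]),
    (17, 3, [722544, 1050548]),
    (1, 1, [198058]),
    (15, 3, [5279, 99029]),
    (18, 1, [262637]),
    (13, 3, [10558, 36294, 2101096]),
    (14, 1, [18147])]

/-- its chain of points -/
def chain3A : List (ℕ × ℕ) := [(4, 1), (16, 1), (20, 1)]

/-- an element of order 3 -/
def el3B : ℕ := 570180860794832232691738083434371235

/-- its search plan -/
def plan3B : List (ℕ × ℕ × List ℕ) :=
  [(4, 3, []),
    (14, 3, []),
    (5, 3, []),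
    (16, 3, [1065303, 2162811]),
    (9, 3, [361272]),
    (12, 3, [21116, 99029, 525274]),
    (17, 3, [5279, 36294, 133817]),
    (23, 3, [10558, 4196943, 8391797])]

/-- its chain of points -/
def chain3B : List (ℕ × ℕ) := [(4, 3)]

/-- an element of order 4 -/
def el4A : ℕ := 264252450349374530270119592322368595

/-- its search plan -/
def plan4A : List (ℕ × ℕ × List ℕ) :=
  [(1, 2, []),
    (4, 2, []),
    (18, 2, []),
    (8, 2, [2425238]),
    (20, 4, [1410188]),
    (13, 4, [5279, 304405, 622863]),
    (11, 4, [36294, 4261212, 8398155]),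
    (9, 4, [10558, 18147, 69395, 133817])]

/-- its chain of points -/
def chain4A : List (ℕ × ℕ) := [(1, 2)]

/-- an element of order 4 -/
def el4B : ℕ := 70958466117647295894417218353602287

/-- its search plan -/
def plan4B : List (ℕ × ℕ × List ℕ) :=
  [(22, 1, []),
    (3, 1, []),
    (21, 1, []),
    (12, 1, []),
    (0, 2, []),
    (23, 2, [14716939]),
    (11, 4, [4900873]),
    (6, 4, [210955, 806987, 2422785]),
    (7, 4, [90318, 307594, 1103886]),
    (4, 4, [5279, 10558, 18147, 36294])]

/-- its chain of points -/
def chain4B : List (ℕ × ℕ) := [(22, 1)]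

/-- an element of order 4 -/
def el4C : ℕ := 360358959254584619299463702635029869

/-- its search plan -/
def plan4C : List (ℕ × ℕ × List ℕ) :=
  [(0, 4, []),
    (1, 4, [272595]),
    (20, 4, []),
    (12, 4, [31554, 140167, 1063445, 8401364]),
    (22, 4, [525274, 2110153, 4196943]),
    (15, 4, [5279, 10558, 36294, 69395])]

/-- its chain of points -/
def chain4C : List (ℕ × ℕ) := [(0, 4)]

/-- an element of order 5 -/
def el5 : ℕ := 977864963184960973661438897150854272

/-- its search plan -/
def plan5 : List (ℕ × ℕ × List ℕ) :=
  [(15, 1, []),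
    (23, 1, []),
    (0, 1, []),
    (8, 5, [8499969]),
    (3, 1, []),
    (18, 5, [8683614]),
    (17, 5, [31554, 39257, 210955, 596054, 4196943]),
    (5, 5, [5279, 10558, 69395, 1050548, 2101096])]

/-- its chain of points -/
def chain5 : List (ℕ × ℕ) := [(23, 1), (15, 1)]

/-- an element of order 6 -/
def el6A : ℕ := 540327402399885755422101275916520105

/-- its search plan -/
def plan6A : List (ℕ × ℕ × List ℕ) :=
  [(4, 1, []),
    (16, 1, []),
    (15, 2, []),
    (6, 6, [580704]),
    (22, 6, [95313, 175681, 12641313]),
    (7, 3, [63108, 290352, 4202192]),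
    (1, 3, [15777, 18147, 2106966]),
    (20, 2, [5279, 1050548])]

/-- its chain of points -/
def chain6A : List (ℕ × ℕ) := [(16, 1), (4, 1)]

/-- an element of order 6 -/
def el6B : ℕ := 798336461019304558466823212733961288

/-- its search plan -/
def plan6B : List (ℕ × ℕ × List ℕ) :=
  [(13, 6, []),
    (15, 6, [5024896, 8796800]),
    (6, 6, [138790, 371206, 535268, 1161408]),
    (21, 6, [5279, 10558, 18147, 36294, 69395, 2101096])]

/-- its chain of points -/
def chain6B : List (ℕ × ℕ) := [(13, 6)]

/-- an element of order 7 -/
def el7 : ℕ := 125481335407954887192374891134356172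

/-- its search plan -/
def plan7 : List (ℕ × ℕ × List ℕ) :=
  [(2, 1, []),
    (21, 1, []),
    (13, 1, []),
    (23, 7, [14716939]),
    (11, 7, [39257, 1584464, 2634003, 4726026]),
    (16, 7, [5279, 10558, 18147, 69395, 133817, 262637, 525274])]

/-- its chain of points -/
def chain7 : List (ℕ × ℕ) := [(13, 1), (21, 1), (2, 1)]

/-- an element of order 7 -/
def el7p : ℕ := 625233606659556878734079221411055734

/-- an element of order 8 -/
def el8 : ℕ := 20260525628522937366256823937849739

/-- its search plan -/
def plan8 : List (ℕ × ℕ × List ℕ) :=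
  [(18, 1, []),
    (16, 1, []),
    (4, 2, []),
    (20, 4, [1525008]),
    (12, 8, [237906, 381252, 4220306]),
    (0, 8, [5279, 10558, 18147, 36294, 69395, 525274, 2101096, 8391797])]

/-- its chain of points -/
def chain8 : List (ℕ × ℕ) := [(18, 1)]

/-- an element of order 10 -/
def el10 : ℕ := 357214722257795839214627183337552397

/-- its search plan -/
def plan10 : List (ℕ × ℕ × List ℕ) :=
  [(10, 2, []),
    (3, 2, []),
    (19, 10, [951624, 14949408]),
    (9, 10, [5279, 10558, 18147, 36294, 69395, 133817, 262637, 1050548, 2101096, 4196943])]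

/-- its chain of points -/
def chain10 : List (ℕ × ℕ) := [(10, 2)]

/-- an element of order 11 -/
def el11 : ℕ := 475307754657167297824674626622042217

/-- its search plan -/
def plan11 : List (ℕ × ℕ × List ℕ) :=
  [(18, 1, []),
    (3, 11, [6059150]),
    (23, 11, [5279, 10558, 18147, 36294, 69395, 262637, 525274, 1050548, 2101096, 8391797]),
    (17, 1, [133817])]

/-- its chain of points -/
def chain11 : List (ℕ × ℕ) := []

/-- an element of order 12 -/
def el12A : ℕ := 225965970574668787167790613513183467

/-- its search plan -/
def plan12A : List (ℕ × ℕ × List ℕ) :=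
  [(16, 2, []),
    (9, 12, [684577, 12733024]),
    (8, 6, [31554, 78514, 140167, 272595, 2121909, 4203377]),
    (15, 4, [5279, 10558, 36294, 1050548])]

/-- its chain of points -/
def chain12A : List (ℕ × ℕ) := [(16, 2)]

/-- an element of order 12 -/
def el12B : ℕ := 19129184336455969953246366111510003

/-- its search plan -/
def plan12B : List (ℕ × ℕ × List ℕ) :=
  [(6, 12, []),
    (4, 12, [5279, 10558, 18147, 36294, 69395, 133817, 262637, 525274, 1050548, 2101096, 4196943, 8391797])]

/-- its chain of points -/
def chain12B : List (ℕ × ℕ) := []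

/-- an element of order 14 -/
def el14 : ℕ := 195360273883197447787854714650174899

/-- its search plan -/
def plan14 : List (ℕ × ℕ × List ℕ) :=
  [(22, 1, []),
    (1, 2, []),
    (0, 14, [140167, 304405, 567074, 1050548, 8421811]),
    (16, 7, [5279, 10558, 18147, 36294, 69395, 2101096, 4196943])]

/-- its chain of points -/
def chain14 : List (ℕ × ℕ) := [(22, 1)]

/-- an element of order 14 -/
def el14p : ℕ := 444450983316499033020696456196378036

/-- an element of order 15 -/
def el15 : ℕ := 640539156937248205123462481524699827

/-- its search plan -/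
def plan15 : List (ℕ × ℕ × List ℕ) :=
  [(18, 1, []),
    (0, 3, []),
    (13, 15, [57883, 133817, 608810, 1327290, 2435240, 4287105, 8716939]),
    (10, 5, [5279, 10558, 18147, 69395, 262637])]

/-- its chain of points -/
def chain15 : List (ℕ × ℕ) := [(18, 1)]

/-- an element of order 15 -/
def el15p : ℕ := 184373464438472964690988875310670185

/-- an element of order 21 -/
def el21 : ℕ := 515386751171321645538024958983314802

/-- its search plan -/
def plan21 : List (ℕ × ℕ × List ℕ) :=
  [(15, 3, []),
    (11, 21, [5279, 10558, 18147, 36294, 69395, 133817, 262637, 525274, 1050548, 2101096, 4196943, 8391797])]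

/-- its chain of points -/
def chain21 : List (ℕ × ℕ) := [(15, 3)]

/-- an element of order 21 -/
def el21p : ℕ := 688360223309700220916830478829733544

/-- an element of order 23 -/
def el23 : ℕ := 30596650610690344108468126695669358

/-- its search plan -/
def plan23 : List (ℕ × ℕ × List ℕ) :=
  [(17, 1, []),
    (0, 23, [5279, 10558, 18147, 36294, 69395, 133817, 262637, 525274, 1050548, 2101096, 4196943, 8391797])]

/-- its chain of points -/
def chain23 : List (ℕ × ℕ) := [(17, 1)]

/-- an element of order 23 -/
def el23p : ℕ := 920673147177082347608427462066127447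

end CfsgLib.M24Nse
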