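import Cfsg.Agent.Lib.M24Nse.Defs
import Cfsg.Agent.Lib.M24Nse.TargetData
import Cfsg.Agent.Lib.M23Nse.Target
import Cfsg.Agent.Lib.Spor.FpfCentral
import Cfsg.Agent.Lib.Spor.M24Order

/-!
# The numbers of elements of each order in the Mathieu group of degree 24

Twenty-six pairwise non-conjugate elements with upper bounds on their centralisers whose classes
fill the group.
-/

set_option autoImplicit false
set_option maxRecDepth 100000

namespace CfsgLib.M24Nse

open Cfsg CfsgLib.Spor CfsgLib.MathieuOut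
open scoped Pointwise

universe u v

theorem stab_prev : (([] : List ℕ).all fun b => Nat.blt b 24) = true := rfl

/-- possible images of a point with cycle length dividing `n` outside `pre` -/
def candL (a n : ℕ) (pre : List ℕ) : List ℕ :=
  (List.range 24).filter fun t => Nat.beq (iterP a n t) t && !(pre.any (Nat.beq t))

/-- the product of the numbers of possible images along a chain -/
def chainW (a : ℕ) : List (ℕ × ℕ) → ℕ
  | [] => 1
  | (_, n) :: r => (candL a n (r.map Prod.fst)).length * chainW a r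

/-- the points of a chain are different, with the stated cycle lengths -/
def chainOK (a : ℕ) : List (ℕ × ℕ) → Bool
  | [] => true
  | (b, n) :: r => Nat.blt b 24 && Nat.beq (iterP a n b) b &&
      !((r.map Prod.fst).any (Nat.beq b)) && chainOK a r

/-- an element, its exact order, and a bound on its centraliser -/
def certOK (a n c : ℕ) (plan : List (ℕ × ℕ × List ℕ)) (ch : List (ℕ × ℕ)) : Bool :=
  inStabP [] [] a && eqP (CfsgLib.MathieuOut.powP a n) CfsgLib.MathieuOut.idP &&
    (List.range n).all (fun k => Nat.beq k 0 ||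
      !eqP (CfsgLib.MathieuOut.powP a k) CfsgLib.MathieuOut.idP) &&
    planOK a plan [] && chainOK a ch &&
    Nat.ble (chainW a ch * (dfs [] (ch.map Prod.fst) a a plan []).length) c

theorem iterP_rep {A : Equiv.Perm GolayPt} {a : ℕ} (hA : Rep A a) :
    ∀ (n : ℕ) (p : GolayPt), iterP a n (idx p) = idx ((A ^ n) p)
  | 0, p => by simp [iterP]
  | n + 1, p => by rw [iterP, hA.get, iterP_rep hA n, pow_succ, Equiv.Perm.mul_apply]

theorem exists_elt {a n c : ℕ} {plan : List (ℕ × ℕ × List ℕ)} {ch : List (ℕ × ℕ)}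
    (hn : 0 < n) (h : certOK a n c plan ch = true) :
    ∃ A : ↥M24, Rep (A : Equiv.Perm GolayPt) a ∧ orderOf A = n := by
  simp only [certOK, Bool.and_eq_true, List.all_eq_true, List.mem_range, Bool.or_eq_true,
    Bool.not_eq_true', Nat.beq_eq] at h
  obtain ⟨⟨⟨⟨⟨ha, hp⟩, hk⟩, -⟩, -⟩, -⟩ := h
  obtain ⟨σ, hσ, hσa⟩ := exists_stab_rep stab_prev ha
  rw [stabG_M24] at hσ
  refine ⟨⟨σ, hσ⟩, hσa, (orderOf_eq_iff hn).2 ⟨Subtype.ext ?_, fun k hkn hk0 e => ?_⟩⟩
  · simpa using (eqP_iff (rep_pow hσa n) rep_idP).1 hp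
  · rcases hk k hkn with h0 | h0
    · omega
    · rw [(eqP_iff (rep_pow hσa k) rep_idP).2 (congrArg Subtype.val e)] at h0
      exact absurd h0 (by decide)

/-- what commutes with `A` and fixes the points `pre` -/
def Fix (A : ↥M24) (pre : List ℕ) : Type :=
  {g : ↥M24 // g * A = A * g ∧ ∀ b ∈ pre, (g : Equiv.Perm GolayPt) (pt b) = pt b}

theorem card_step {a n b : ℕ} {pre : List ℕ} (hb : b < 24) (hp : ∀ x ∈ pre, x < 24)
    (hper : iterP a n b = b) (hnot : ∀ x ∈ pre, b ≠ x) (A : ↥M24)
    (hA : Rep (A : Equiv.Perm GolayPt) a) :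
    Nat.card (Fix A pre) ≤ (candL a n pre).length * Nat.card (Fix A (b :: pre)) := by
  classical
  have : Finite (Fix A pre) := Subtype.finite
  have : Finite (Fix A (b :: pre)) := Subtype.finite
  have := Fintype.ofFinite (Fix A pre)
  let F : Fix A pre → ℕ := fun g => idx ((g.1 : Equiv.Perm GolayPt) (pt b))
  have himg : ∀ g ∈ (Finset.univ : Finset (Fix A pre)), F g ∈ (candL a n pre).toFinset := by
    intro g _
    refine List.mem_toFinset.2 (List.mem_filter.2 ⟨List.mem_range.2 (idx_lt _), ?_⟩)
    simp only [Bool.and_eq_true, Nat.beq_eq, Bool.not_eq_true', List.any_eq_false]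
    refine ⟨?_, fun x hx e => hnot x hx ?_⟩
    · have hc : Commute ((g.1 : ↥M24) : Equiv.Perm GolayPt) (A : Equiv.Perm GolayPt) :=
        congrArg Subtype.val g.2.1
      have hfix : ((A : Equiv.Perm GolayPt) ^ n) (pt b) = pt b := idx_injective (by
        rw [← iterP_rep hA, idx_pt hb, hper])
      show iterP a n (idx _) = idx _
      rw [iterP_rep hA, ← Equiv.Perm.mul_apply, ← (hc.pow_right n).eq, Equiv.Perm.mul_apply, hfix]
    · have e' : (g.1 : Equiv.Perm GolayPt) (pt b) = (g.1 : Equiv.Perm GolayPt) (pt x) := by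
        refine idx_injective ?_
        rw [g.2.2 x hx, idx_pt (hp x hx)]
        exact e
      have h' := congrArg idx ((g.1 : Equiv.Perm GolayPt).injective e')
      rwa [idx_pt hb, idx_pt (hp x hx)] at h'
  have hfib : ∀ t ∈ (candL a n pre).toFinset,
      (Finset.univ.filter fun g : Fix A pre => F g = t).card ≤ Nat.card (Fix A (b :: pre)) := by
    intro t _
    rcases Finset.eq_empty_or_nonempty (Finset.univ.filter fun g : Fix A pre => F g = t) with
      e | ⟨g0, hg0⟩
    · simp [e]
    rw [← Fintype.card_coe, ← Nat.card_eq_fintype_card]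
    refine Nat.card_le_card_of_injective
      (fun g => (⟨g0.1⁻¹ * g.1.1, ?_, ?_⟩ : Fix A (b :: pre))) fun g g' e =>
        Subtype.ext (Subtype.ext (mul_left_cancel (congrArg Subtype.val e)))
    · exact ((Commute.inv_left g0.2.1).mul_left g.1.2.1).eq
    · intro i hi
      simp only [Subgroup.coe_mul, Subgroup.coe_inv, Equiv.Perm.mul_apply,
        Equiv.Perm.inv_eq_iff_eq]
      rcases List.mem_cons.1 hi with rfl | hi
      · exact idx_injective (((Finset.mem_filter.1 g.2).2).trans (Finset.mem_filter.1 hg0).2.symm)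
      · rw [g.1.2.2 i hi, g0.2.2 i hi]
  rw [Nat.card_eq_fintype_card, ← Finset.card_univ, Finset.card_eq_sum_card_fiberwise himg]
  refine (Finset.sum_le_card_nsmul _ _ _ hfib).trans ?_
  rw [smul_eq_mul]
  exact Nat.mul_le_mul_right _ (List.toFinset_card_le _)

theorem card_chain {a : ℕ} (A : ↥M24) (hA : Rep (A : Equiv.Perm GolayPt) a) :
    ∀ ch : List (ℕ × ℕ), chainOK a ch = true →
      (∀ x ∈ ch.map Prod.fst, x < 24) ∧
        Nat.card (Fix A []) ≤ chainW a ch * Nat.card (Fix A (ch.map Prod.fst))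
  | [], _ => ⟨by simp, by simp [chainW]⟩
  | (b, n) :: r, h => by
    simp only [chainOK, Bool.and_eq_true, Nat.blt_eq, Nat.beq_eq, Bool.not_eq_true',
      List.any_eq_false] at h
    obtain ⟨⟨⟨hb, hper⟩, hnot⟩, hr⟩ := h
    obtain ⟨hp, hle⟩ := card_chain A hA r hr
    refine ⟨fun x hx => ?_, ?_⟩
    · rcases List.mem_cons.1 hx with rfl | hx
      · exact hb
      · exact hp x hx
    · refine hle.trans ?_
      rw [chainW, mul_comm _ (chainW a r), mul_assoc]
      exact Nat.mul_le_mul_left _ (card_step hb hp hper (fun x hx e => hnot x hx e) A hA)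

theorem card_cent_le {a n c : ℕ} {plan : List (ℕ × ℕ × List ℕ)} {ch : List (ℕ × ℕ)}
    (h : certOK a n c plan ch = true) (A : ↥M24) (hA : Rep (A : Equiv.Perm GolayPt) a) :
    Nat.card (Subgroup.centralizer ({A} : Set ↥M24)) ≤ c := by
  simp only [certOK, Bool.and_eq_true, Nat.ble_eq] at h
  obtain ⟨⟨⟨-, hplan⟩, hch⟩, hlen⟩ := h
  obtain ⟨hp, hle⟩ := card_chain A hA ch hch
  have he : Nat.card (Subgroup.centralizer ({A} : Set ↥M24)) = Nat.card (Fix A []) :=
    Nat.card_congr (Equiv.subtypeEquivRight fun g => by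
      simp [Subgroup.mem_centralizer_singleton_iff])
  refine (he.le.trans hle).trans (le_trans (Nat.mul_le_mul_left _ ?_) hlen)
  have hmem : ∀ g : Fix A (ch.map Prod.fst),
      canon (g.1 : Equiv.Perm GolayPt) ∈ (dfs [] (ch.map Prod.fst) a a plan []).toFinset :=
    fun g => List.mem_toFinset.2 (canon_mem_dfs hplan
      (show (g.1 : Equiv.Perm GolayPt) ∈ stabG [] (ch.map Prod.fst) from
        ⟨g.1.2, by simp, g.2.2⟩) hp hA hA (congrArg Subtype.val g.2.1))
  refine (Nat.card_le_card_of_injective
    (fun g => (⟨_, hmem g⟩ : (dfs [] (ch.map Prod.fst) a a plan []).toFinset))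
    fun g g' e => Subtype.ext (Subtype.ext (canon_injective (congrArg Subtype.val e)))).trans ?_
  rw [Nat.card_eq_fintype_card, Fintype.card_coe]
  exact List.toFinset_card_le _

/-- the fixed-point-free involution -/
theorem exists_fpf : ∃ A : ↥M24, Rep (A : Equiv.Perm GolayPt) el2B ∧ orderOf A = 2 ∧
    Nat.card (Subgroup.centralizer ({A} : Set ↥M24)) ≤ 7680 := by
  have h : (inStabP [] [] el2B &&
      eqP (CfsgLib.MathieuOut.powP el2B 2) CfsgLib.MathieuOut.idP &&
      (List.range 24).all fun i => !Nat.beq (getP el2B i) i) = true := by decide +kernel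
  simp only [Bool.and_eq_true, List.all_eq_true, List.mem_range, Bool.not_eq_true'] at h
  obtain ⟨⟨ha, hp⟩, hmove⟩ := h
  obtain ⟨σ, hσ, hσa⟩ := exists_stab_rep stab_prev ha
  rw [stabG_M24] at hσ
  have h0 : ∀ p, σ p ≠ p := fun p e => by
    have h1 := hmove (idx p) (idx_lt p)
    rw [hσa.get p, e] at h1
    simp at h1
  have ho : orderOf σ = 2 := by
    refine orderOf_eq_prime (by simpa using (eqP_iff (rep_pow hσa 2) rep_idP).1 hp) fun e => ?_
    exact h0 (pt 0) (by rw [e]; rfl)
  refine ⟨⟨σ, hσ⟩, hσa, (Subgroup.orderOf_coe _).symm.trans ho, le_of_eq ?_⟩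
  rw [← (fpf_centralizer hσ ho h0).1]
  refine Nat.card_congr
    { toFun := fun g => ⟨(g.1 : Equiv.Perm GolayPt), mem_cen.2 ⟨g.1.2,
        congrArg Subtype.val (Subgroup.mem_centralizer_singleton_iff.1 g.2)⟩⟩
      invFun := fun g => ⟨⟨g.1, (mem_cen.1 g.2).1⟩,
        Subgroup.mem_centralizer_singleton_iff.2 (Subtype.ext (mem_cen.1 g.2).2)⟩
      left_inv := fun _ => rfl
      right_inv := fun _ => rfl }

theorem cert2A : certOK el2A 2 21504 plan2A chain2A = true := by decide +kernel
theorem cert3A : certOK el3A 3 1080 plan3A chain3A = true := by decide +kernel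
theorem cert3B : certOK el3B 3 504 plan3B chain3B = true := by decide +kernel
theorem cert4A : certOK el4A 4 384 plan4A chain4A = true := by decide +kernel
theorem cert4B : certOK el4B 4 128 plan4B chain4B = true := by decide +kernel
theorem cert4C : certOK el4C 4 96 plan4C chain4C = true := by decide +kernel
theorem cert5 : certOK el5 5 60 plan5 chain5 = true := by decide +kernel
theorem cert6A : certOK el6A 6 24 plan6A chain6A = true := by decide +kernel
theorem cert6B : certOK el6B 6 24 plan6B chain6B = true := by decide +kernel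
theorem cert7 : certOK el7 7 42 plan7 chain7 = true := by decide +kernel
theorem cert7p : certOK el7p 7 42 plan7 chain7 = true := by decide +kernel
theorem cert8 : certOK el8 8 16 plan8 chain8 = true := by decide +kernel
theorem cert10 : certOK el10 10 20 plan10 chain10 = true := by decide +kernel
theorem cert11 : certOK el11 11 11 plan11 chain11 = true := by decide +kernel
theorem cert12A : certOK el12A 12 12 plan12A chain12A = true := by decide +kernel
theorem cert12B : certOK el12B 12 12 plan12B chain12B = true := by decide +kernel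
theorem cert14 : certOK el14 14 14 plan14 chain14 = true := by decide +kernel
theorem cert14p : certOK el14p 14 14 plan14 chain14 = true := by decide +kernel
theorem cert15 : certOK el15 15 15 plan15 chain15 = true := by decide +kernel
theorem cert15p : certOK el15p 15 15 plan15 chain15 = true := by decide +kernel
theorem cert21 : certOK el21 21 21 plan21 chain21 = true := by decide +kernel
theorem cert21p : certOK el21p 21 21 plan21 chain21 = true := by decide +kernel
theorem cert23 : certOK el23 23 23 plan23 chain23 = true := by decide +kernel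
theorem cert23p : certOK el23p 23 23 plan23 chain23 = true := by decide +kernel

/-- an empty search for a conjugating element -/
def noConjOK (u w : ℕ) (plan : List (ℕ × ℕ × List ℕ)) : Bool :=
  planOK u plan [] && (dfs [] [] u w plan []).isEmpty

theorem not_isConj {u w : ℕ} {plan : List (ℕ × ℕ × List ℕ)} (h : noConjOK u w plan = true)
    (U W : ↥M24) (hU : Rep (U : Equiv.Perm GolayPt) u) (hW : Rep (W : Equiv.Perm GolayPt) w) :
    ¬ IsConj U W := by
  simp only [noConjOK, Bool.and_eq_true] at h
  exact not_isConj_of_dfs_eq_nil stabG_M24 stab_prev h.1 h.2 U W hU hW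

theorem nc2 : noConjOK el2A el2B plan2A = true := by decide +kernel
theorem nc3 : noConjOK el3A el3B plan3A = true := by decide +kernel
theorem nc4AC : noConjOK el4A el4C plan4A = true := by decide +kernel
theorem nc4BA : noConjOK el4B el4A plan4B = true := by decide +kernel
theorem nc4BC : noConjOK el4B el4C plan4B = true := by decide +kernel
theorem nc6 : noConjOK el6A el6B plan6A = true := by decide +kernel
theorem nc7 : noConjOK el7 el7p plan7 = true := by decide +kernel
theorem nc12 : noConjOK el12A el12B plan12A = true := by decide +kernel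
theorem nc14 : noConjOK el14 el14p plan14 = true := by decide +kernel
theorem nc15 : noConjOK el15 el15p plan15 = true := by decide +kernel
theorem nc21 : noConjOK el21 el21p plan21 = true := by decide +kernel
theorem nc23 : noConjOK el23 el23p plan23 = true := by decide +kernel

/-- the orders of the representatives -/
def ordV : Fin 26 → ℕ :=
  ![1, 2, 2, 3, 3, 4, 4, 4, 5, 6, 6, 7, 7, 8, 10, 11, 12, 12, 14, 14, 15, 15, 21, 21, 23, 23]

/-- the orders of their centralisers -/
def cenV : Fin 26 → ℕ :=
  ![244823040, 21504, 7680, 1080, 504, 384, 128, 96, 60, 24, 24, 42, 42, 16, 20, 11, 12, 12, 14,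
    14, 15, 15, 21, 21, 23, 23]

theorem same_order : ∀ i j : Fin 26, ordV i = ordV j → i = j ∨ (i, j) ∈
    ([(1, 2), (3, 4), (5, 7), (6, 5), (6, 7), (9, 10), (11, 12), (16, 17), (18, 19), (20, 21),
      (22, 23), (24, 25)] : List (Fin 26 × Fin 26)) ∨ (j, i) ∈
    ([(1, 2), (3, 4), (5, 7), (6, 5), (6, 7), (9, 10), (11, 12), (16, 17), (18, 19), (20, 21),
      (22, 23), (24, 25)] : List (Fin 26 × Fin 26)) := by decide +kernel

set_option maxHeartbeats 1600000 in
theorem exists_reps : ∃ r : Fin 26 → ↥M24, (∀ i, orderOf (r i) = ordV i) ∧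
    (∀ i, Nat.card (Subgroup.centralizer ({r i} : Set ↥M24)) ≤ cenV i) ∧
    ∀ i j, IsConj (r i) (r j) → i = j := by
  obtain ⟨a2B, r2B, o2B, c2B⟩ := exists_fpf
  obtain ⟨a2A, r2A, o2A⟩ := exists_elt (by norm_num) cert2A
  obtain ⟨a3A, r3A, o3A⟩ := exists_elt (by norm_num) cert3A
  obtain ⟨a3B, r3B, o3B⟩ := exists_elt (by norm_num) cert3B
  obtain ⟨a4A, r4A, o4A⟩ := exists_elt (by norm_num) cert4A
  obtain ⟨a4B, r4B, o4B⟩ := exists_elt (by norm_num) cert4B
  obtain ⟨a4C, r4C, o4C⟩ := exists_elt (by norm_num) cert4C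
  obtain ⟨a5, r5, o5⟩ := exists_elt (by norm_num) cert5
  obtain ⟨a6A, r6A, o6A⟩ := exists_elt (by norm_num) cert6A
  obtain ⟨a6B, r6B, o6B⟩ := exists_elt (by norm_num) cert6B
  obtain ⟨a7, r7, o7⟩ := exists_elt (by norm_num) cert7
  obtain ⟨a7p, r7p, o7p⟩ := exists_elt (by norm_num) cert7p
  obtain ⟨a8, r8, o8⟩ := exists_elt (by norm_num) cert8
  obtain ⟨a10, r10, o10⟩ := exists_elt (by norm_num) cert10
  obtain ⟨a11, r11, o11⟩ := exists_elt (by norm_num) cert11
  obtain ⟨a12A, r12A, o12A⟩ := exists_elt (by norm_num) cert12A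
  obtain ⟨a12B, r12B, o12B⟩ := exists_elt (by norm_num) cert12B
  obtain ⟨a14, r14, o14⟩ := exists_elt (by norm_num) cert14
  obtain ⟨a14p, r14p, o14p⟩ := exists_elt (by norm_num) cert14p
  obtain ⟨a15, r15, o15⟩ := exists_elt (by norm_num) cert15
  obtain ⟨a15p, r15p, o15p⟩ := exists_elt (by norm_num) cert15p
  obtain ⟨a21, r21, o21⟩ := exists_elt (by norm_num) cert21
  obtain ⟨a21p, r21p, o21p⟩ := exists_elt (by norm_num) cert21p
  obtain ⟨a23, r23, o23⟩ := exists_elt (by norm_num) cert23
  obtain ⟨a23p, r23p, o23p⟩ := exists_elt (by norm_num) cert23p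
  let r : Fin 26 → ↥M24 :=
    ![1, a2A, a2B, a3A, a3B, a4A, a4B, a4C, a5, a6A, a6B, a7, a7p, a8, a10, a11, a12A, a12B,
      a14, a14p, a15, a15p, a21, a21p, a23, a23p]
  have ho : ∀ i, orderOf (r i) = ordV i := by
    intro i
    fin_cases i
    exacts [orderOf_one, o2A, o2B, o3A, o3B, o4A, o4B, o4C, o5, o6A, o6B, o7, o7p, o8, o10, o11,
      o12A, o12B, o14, o14p, o15, o15p, o21, o21p, o23, o23p]
  refine ⟨r, ho, ?_, ?_⟩
  · intro i
    fin_cases i
    · exact (Subgroup.card_le_card_group _).trans (le_of_eq natCard_M24)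
    · exact card_cent_le cert2A a2A r2A
    · exact c2B
    · exact card_cent_le cert3A a3A r3A
    · exact card_cent_le cert3B a3B r3B
    · exact card_cent_le cert4A a4A r4A
    · exact card_cent_le cert4B a4B r4B
    · exact card_cent_le cert4C a4C r4C
    · exact card_cent_le cert5 a5 r5
    · exact card_cent_le cert6A a6A r6A
    · exact card_cent_le cert6B a6B r6B
    · exact card_cent_le cert7 a7 r7
    · exact card_cent_le cert7p a7p r7p
    · exact card_cent_le cert8 a8 r8
    · exact card_cent_le cert10 a10 r10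
    · exact card_cent_le cert11 a11 r11
    · exact card_cent_le cert12A a12A r12A
    · exact card_cent_le cert12B a12B r12B
    · exact card_cent_le cert14 a14 r14
    · exact card_cent_le cert14p a14p r14p
    · exact card_cent_le cert15 a15 r15
    · exact card_cent_le cert15p a15p r15p
    · exact card_cent_le cert21 a21 r21
    · exact card_cent_le cert21p a21p r21p
    · exact card_cent_le cert23 a23 r23
    · exact card_cent_le cert23p a23p r23p
  · have key : ∀ i j : Fin 26, (i, j) ∈
        ([(1, 2), (3, 4), (5, 7), (6, 5), (6, 7), (9, 10), (11, 12), (16, 17), (18, 19), (20, 21),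
          (22, 23), (24, 25)] : List (Fin 26 × Fin 26)) → ¬ IsConj (r i) (r j) := by
      intro i j hij
      simp only [List.mem_cons, List.not_mem_nil, or_false, Prod.mk.injEq] at hij
      rcases hij with ⟨rfl, rfl⟩ | ⟨rfl, rfl⟩ | ⟨rfl, rfl⟩ | ⟨rfl, rfl⟩ | ⟨rfl, rfl⟩ |
        ⟨rfl, rfl⟩ | ⟨rfl, rfl⟩ | ⟨rfl, rfl⟩ | ⟨rfl, rfl⟩ | ⟨rfl, rfl⟩ | ⟨rfl, rfl⟩ | ⟨rfl, rfl⟩
      exacts [not_isConj nc2 a2A a2B r2A r2B, not_isConj nc3 a3A a3B r3A r3B,
        not_isConj nc4AC a4A a4C r4A r4C, not_isConj nc4BA a4B a4A r4B r4A,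
        not_isConj nc4BC a4B a4C r4B r4C, not_isConj nc6 a6A a6B r6A r6B,
        not_isConj nc7 a7 a7p r7 r7p, not_isConj nc12 a12A a12B r12A r12B,
        not_isConj nc14 a14 a14p r14 r14p, not_isConj nc15 a15 a15p r15 r15p,
        not_isConj nc21 a21 a21p r21 r21p, not_isConj nc23 a23 a23p r23 r23p]
    intro i j hc
    have hij : ordV i = ordV j := by
      obtain ⟨g, hg⟩ := isConj_iff.1 hc
      rw [← ho i, ← ho j, ← hg, ← MulAut.conj_apply, MulEquiv.orderOf_eq]
    rcases same_order i j hij with e | e | e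
    · exact e
    · exact absurd hc (key i j e)
    · exact absurd hc.symm (key j i e)

/-- the numbers of elements of each order of the Mathieu group of degree 24 -/
theorem cnt_M24 (n : ℕ) : cnt (↥M24) n =
    ∑ i : Fin 26, if ordV i = n then 244823040 / cenV i else 0 := by
  obtain ⟨r, ho, hc, hne⟩ := exists_reps
  have hs : ∑ i : Fin 26, 244823040 / cenV i = 244823040 := by decide +kernel
  have h := CfsgLib.M23Nse.cnt_eq_sum r cenV hc (by rw [natCard_M24]; exact hs) hne n
  simp only [ho, natCard_M24] at h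
  exact h

/-- the values are exactly the stated ones -/
theorem hyp_M24 : Hyp (↥M24) := by
  refine ⟨natCard_M24, fun n => ?_⟩
  rw [cnt_M24]
  by_cases hn : n < 24
  · revert n; decide +kernel
  · left
    refine Finset.sum_eq_zero fun i _ => if_neg fun e => hn ?_
    rw [← e]
    exact (by decide +kernel : ∀ i, ordV i < 24) i

/-- the hypothesis carries over between groups with the same order and the same values -/
theorem hyp_of_nse {G : Type u} [Group G] {K : Type v} [Group K] (hK : Hyp K)
    (hcard : Nat.card G = Nat.card K)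
    (hnse : {c : ℕ | 0 < c ∧ ∃ n : ℕ, c = Nat.card {g : G // orderOf g = n}} =
      {c : ℕ | 0 < c ∧ ∃ n : ℕ, c = Nat.card {g : K // orderOf g = n}}) : Hyp G := by
  refine ⟨hcard.trans hK.card, fun n => ?_⟩
  rcases Nat.eq_zero_or_pos (cnt G n) with h0 | h0
  · exact Or.inl h0
  · have hmem : cnt G n ∈ {c : ℕ | 0 < c ∧ ∃ m : ℕ, c = Nat.card {g : K // orderOf g = m}} := by
      rw [← hnse]; exact ⟨h0, n, rfl⟩
    obtain ⟨hpos, m, hm⟩ := hmem
    rcases hK.mem m with h | h
    · exact absurd (hm.trans h) h0.ne'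
    · exact Or.inr (hm ▸ h)

end CfsgLib.M24Nse
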